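import Cfsg.Agent.Lib.JComp.Overgroup

/-!
# Transport of components and the normalizer of the four group
-/

set_option autoImplicit false
set_option linter.style.haveILetI false
set_option linter.unusedSectionVars false

open Subgroup
open scoped commutatorElement

namespace CfsgLib.JComp

open CfsgLib.Fusion (IsMaxEA conjBy)

universe u

variable {G : Type u} [Group G] [Finite G] {T L K : Subgroup G}

theorem conjBy_conjBy (a b : G) (X : Subgroup G) : conjBy a (conjBy b X) = conjBy (a * b) X := by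
  simp only [CfsgLib.Fusion.conjBy, Subgroup.map_map]
  congr 1
  ext x
  simp [mul_assoc]

theorem eq_of_conjBy_le {f : Subgroup G → Subgroup G}
    (h : ∀ g X, conjBy g (f X) ≤ f (conjBy g X)) (g : G) (X : Subgroup G) :
    conjBy g (f X) = f (conjBy g X) := by
  refine le_antisymm (h g X) ?_
  have h1 := CfsgLib.Fusion.conjBy_mono (g := g) (h g⁻¹ (conjBy g X))
  rwa [CfsgLib.Fusion.conjBy_inv_conjBy, CfsgLib.Fusion.conjBy_conjBy_inv] at h1

theorem conjBy_pCoreOf (g : G) (X : Subgroup G) : conjBy g (coreOf X) = coreOf (conjBy g X) := by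
  haveI : Fact (Nat.Prime 2) := ⟨Nat.prime_two⟩
  refine eq_of_conjBy_le (f := coreOf) (fun g X => ?_) g X
  refine le_pCoreOf (CfsgLib.Fusion.conjBy_mono (pCoreOf_le 2 X)) ((isPGroup_pCoreOf 2 X).map _) ?_
  exact (map_mono (le_normalizer_pCoreOf 2 X)).trans (le_normalizer_map _)

theorem conjBy_omegaCenterOf (g : G) (X : Subgroup G) :
    conjBy g (Cfsg.omegaCenterOf X) = Cfsg.omegaCenterOf (conjBy g X) := by
  refine eq_of_conjBy_le (fun g X => ?_) g X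
  rintro _ ⟨x, hx, rfl⟩
  obtain ⟨h1, h2, h3⟩ := mem_omegaCenterOf.1 hx
  refine mem_omegaCenterOf.2 ⟨⟨x, h1, rfl⟩, ?_, by rw [← map_pow, h3, map_one]⟩
  rintro _ ⟨y, hy, rfl⟩
  rw [← map_mul, ← map_mul, h2 y hy]

theorem conjBy_wOf (g : G) (X : Subgroup G) : conjBy g (Cfsg.wOf X) = Cfsg.wOf (conjBy g X) := by
  rw [Cfsg.wOf, CfsgLib.Fusion.conjBy, map_commutator, Cfsg.wOf]
  show ⁅conjBy g (uOf X), conjBy g X⁆ = ⁅uOf (conjBy g X), conjBy g X⁆
  rw [conjBy_omegaCenterOf, conjBy_pCoreOf]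

theorem isSylowTwoIn_conjBy (g : G) {S X : Subgroup G} (h : Cfsg.IsSylowTwoIn S X) :
    Cfsg.IsSylowTwoIn (conjBy g S) (conjBy g X) :=
  ⟨CfsgLib.Fusion.conjBy_mono h.1, h.2.1.map _, by
    rw [CfsgLib.Fusion.conjBy, relIndex_map_map_of_injective _ _ (MulAut.conj g).injective]
    exact h.2.2⟩

theorem isJComponent_of_jOf_eq {T' : Subgroup G} (h : jOf T' = jOf T) (hK : Cfsg.IsJComponent T K) :
    Cfsg.IsJComponent T' K := by
  unfold Cfsg.IsJComponent at hK ⊢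
  rw [show Cfsg.thompsonSubgroupOf 2 T' = Cfsg.thompsonSubgroupOf 2 T from h]
  exact hK

theorem isJComponent_conjBy (g : G) (hK : Cfsg.IsJComponent T K) :
    Cfsg.IsJComponent (conjBy g T) (conjBy g K) := by
  obtain ⟨h1, h2, h3, h4, h5, h6⟩ := hK
  unfold Cfsg.IsJComponent
  have hJ : Cfsg.thompsonSubgroupOf 2 (conjBy g T) = conjBy g (jOf T) := (conjBy_jOf g T).symm
  rw [hJ]
  refine ⟨le_antisymm ((closure_le _).2 fun x hx => hx.1) ?_, ?_, ?_, fun S hS hJS => ?_, ?_, ?_⟩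
  · conv_lhs => rw [← h1, CfsgLib.Fusion.conjBy, MonoidHom.map_closure]
    refine closure_mono ?_
    rintro _ ⟨x, ⟨hx, hxo⟩, rfl⟩
    exact ⟨⟨x, hx, rfl⟩, by rw [MulEquiv.coe_toMonoidHom, MulEquiv.orderOf_eq]; exact hxo⟩
  · conv_rhs => rw [← h2]
    exact (map_commutator _ _ _).symm
  · show (coreOf (conjBy g K)).relIndex (conjBy g K) = 3
    rw [← conjBy_pCoreOf, CfsgLib.Fusion.conjBy, relIndex_map_map_of_injective _ _ (MulAut.conj g).injective]
    exact h3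
  · have hsup : conjBy g⁻¹ (conjBy g K ⊔ conjBy g (jOf T)) = K ⊔ jOf T := by
      rw [CfsgLib.Fusion.conjBy, Subgroup.map_sup]
      exact congrArg₂ (· ⊔ ·) (CfsgLib.Fusion.conjBy_inv_conjBy g K)
        (CfsgLib.Fusion.conjBy_inv_conjBy g (jOf T))
    have hS' := isSylowTwoIn_conjBy g⁻¹ hS
    rw [hsup] at hS'
    have hle := CfsgLib.Fusion.conjBy_mono (g := g⁻¹) hJS
    rw [CfsgLib.Fusion.conjBy_inv_conjBy] at hle
    have h := congrArg (conjBy g) (h4 _ hS' hle)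
    rwa [conjBy_jOf, CfsgLib.Fusion.conjBy_conjBy_inv] at h
  · rw [← conjBy_wOf, CfsgLib.Fusion.card_conjBy]
    exact h5
  · rw [← conjBy_wOf]
    rintro _ ⟨w, hw, rfl⟩
    rw [← map_mul, h6 w hw, map_one]

section Components

variable (hL : Cfsg.IsCharacteristicTwoType G)
  (hN : ∀ N : Subgroup G, Cfsg.IsTwoLocal N → Group.IsSolvable ↥N)
  (hZ : ZHyp G) (hT1 : T ≠ ⊥) (hLT : L ∈ Cfsg.jOvergroups T)
  (hK : Cfsg.IsJComponent T K) (hKL : K ≤ L)
include hL hN hZ hT1 hLT hK hKL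

theorem le_normalizer_of_center_meet (hZW : T ⊓ centralizer (T : Set G) ⊓ Cfsg.wOf K ≠ ⊥) :
    T ≤ normalizer (K : Set G) := by
  obtain ⟨⟨w, hw⟩, hw1'⟩ := Subgroup.ne_bot_iff_exists_ne_one.1 hZW
  have hw1 : w ≠ 1 := fun h => hw1' (Subtype.ext h)
  obtain ⟨hwT, hwW⟩ := mem_inf.1 hw
  obtain ⟨hwT, hwc⟩ := mem_inf.1 hwT
  obtain ⟨d⟩ := exists_data hN hZ hT1 hLT
  obtain ⟨hKP, hKM⟩ := comp_mem hL hN hZ hT1 hLT hK hKL d
  obtain ⟨c, hc⟩ := exists_isGen hK.2.2.1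
  have hWU := wOf_le_u hL hN hZ hT1 hLT hK hKL
  intro t ht
  have htL := hLT.1.1 ht
  refine CfsgLib.Fusion.conjBy_eq_iff.1 (comp_conj_eq hL hN hZ hT1 hLT hK hKL htL ?_)
  have hJt : conjBy t (jOf T) = jOf T :=
    CfsgLib.Fusion.conjBy_eq_iff.2
      (CfsgLib.Fusion.normalizer_le_normalizer_thompsonSubgroupOf T (le_normalizer ht))
  have hK' : Cfsg.IsJComponent T (conjBy t K) :=
    isJComponent_of_jOf_eq (by rw [← conjBy_jOf, hJt]) (isJComponent_conjBy t hK)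
  have hK'L : conjBy t K ≤ L := by
    rintro _ ⟨x, hx, rfl⟩
    exact mul_mem (mul_mem htL (hKL hx)) (inv_mem htL)
  obtain ⟨c', hc'⟩ := exists_isGen hK'.2.2.1
  have hW' : conjBy t (Cfsg.wOf K) = Cfsg.wOf (conjBy t K) := conjBy_wOf t K
  rw [hW']
  have hWU' := wOf_le_u hL hN hZ hT1 hLT hK' hK'L
  have hwW' : w ∈ Cfsg.wOf (conjBy t K) := by
    rw [← hW']
    refine ⟨w, hwW, ?_⟩
    rw [MulEquiv.coe_toMonoidHom, MulAut.conj_apply, mem_centralizer_iff.1 hwc t ht, mul_inv_cancel_right]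
  have hn := d.norm_four hZ hLT hWU' ((comp_mem hL hN hZ hT1 hLT hK' hK'L d).1 hc'.mem)
    (fun u hu => comp_move hL hN hZ hT1 hLT hK' hK'L hc'.mem hu) (fun v hv h => hc'.wOf_eq_one hv h)
    (hKP hc.mem)
  have hcw' : c * w * c⁻¹ ∈ Cfsg.wOf (conjBy t K) := (mem_normalizer_iff.1 hn w).1 hwW'
  have hcw : c * w * c⁻¹ ∈ Cfsg.wOf K :=
    conj_mem (le_normalizer.trans (normalizer_le_normalizer_wOf K)) hc.mem hwW
  have hle : Cfsg.wOf K ≤ Cfsg.wOf (conjBy t K) := fun x hx => by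
    rcases four_cases hK.2.2.2.2.1 (wOf_sq hK) hwW hcw hw1 (fun h => hw1 (conj_eq_one_iff.1 h))
      (fun h => hw1 (hc.wOf_eq_one hwW h.symm)) hx with rfl | rfl | rfl | rfl
    · exact one_mem _
    · exact hwW'
    · exact hcw'
    · exact mul_mem hwW' hcw'
  exact (eq_of_le_of_card_ge hle (by rw [hK.2.2.2.2.1, hK'.2.2.2.2.1])).symm

end Components

section Zero

variable (hL : Cfsg.IsCharacteristicTwoType G)
  (hN : ∀ N : Subgroup G, Cfsg.IsTwoLocal N → Group.IsSolvable ↥N)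
  (hZ : ZHyp G) (hT : IsPGroup 2 T) (hT1 : T ≠ ⊥) (hK0 : K ∈ Cfsg.jComponentsZero T)
include hL hN hZ hT hT1 hK0

theorem isTwoLocal_normalizer_wOf : Cfsg.IsTwoLocal (normalizer (Cfsg.wOf K : Set G)) :=
  ⟨_, isPGroup_four (wOf_sq hK0.1), wOf_ne_bot hK0.1, rfl⟩

theorem exists_jOvergroup : ∃ S, jOf S = jOf T ∧ S ≠ ⊥ ∧
    normalizer (Cfsg.wOf K : Set G) ∈ Cfsg.jOvergroups S := by
  haveI : Fact (Nat.Prime 2) := ⟨Nat.prime_two⟩
  obtain ⟨hK, hz⟩ := hK0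
  have hJN : jOf T ≤ normalizer (Cfsg.wOf K : Set G) := le_sup_right.trans (x_le_normalizer_wOf hK)
  obtain ⟨S, hS, hJS⟩ := exists_sylowTwoIn (jOf_isPGroup hK hT) hJN
  have hJ : jOf S = jOf T := hz S hJS hS
  have hJne : jOf T ≠ ⊥ := CfsgLib.Fusion.thompsonSubgroupOf_ne_bot hT hT1
  refine ⟨S, hJ, fun h => hJne (eq_bot_iff.2 (h ▸ hJS)), hS, ?_, ?_⟩
  · intro hle
    have hle' : jOf T ≤ coreOf (normalizer (Cfsg.wOf K : Set G)) := hJ ▸ hle
    have hKN : K ≤ normalizer (Cfsg.wOf K : Set G) := le_sup_left.trans (x_le_normalizer_wOf hK)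
    have hKQ : K ≤ coreOf (normalizer (Cfsg.wOf K : Set G)) := by
      conv_lhs => rw [← hK.2.1]
      refine commutator_le.2 fun k hk j hj => ?_
      rw [commutatorElement_def]
      exact mul_mem (conj_mem (le_normalizer_pCoreOf 2 _) (hKN hk) (hle' hj)) (inv_mem (hle' hj))
    obtain ⟨n, hn⟩ := ((isPGroup_pCoreOf 2 _).to_le hKQ).exists_card_eq
    have h3 : 3 ∣ 2 ^ n := by
      rw [← hn, ← hK.2.2.1]
      exact relIndex_dvd_card _ _
    have := (Nat.prime_three.dvd_of_dvd_pow h3)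
    norm_num at this
  · intro x hx
    have hW2 := isPGroup_four (wOf_sq hK)
    have hWQ : Cfsg.wOf K ≤ coreOf (normalizer (Cfsg.wOf K : Set G)) :=
      le_pCoreOf le_normalizer hW2 le_rfl
    have hxN : x ∈ normalizer (Cfsg.wOf K : Set G) :=
      centralizer_le_normalizer _ (centralizer_le hWQ hx)
    have h := hL.2 _ hW2 (wOf_ne_bot hK)
    have hx' : (⟨x, hxN⟩ : normalizer (Cfsg.wOf K : Set G)) ∈
        centralizer (Cfsg.pCore 2 ↥(normalizer (Cfsg.wOf K : Set G)) : Set _) :=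
      mem_centralizer_iff.2 fun y hy => Subtype.ext (mem_centralizer_iff.1 hx _ ⟨y, hy, rfl⟩)
    exact ⟨⟨x, hxN⟩, h hx', rfl⟩

theorem normalizer_zero : normalizer (K : Set G) = normalizer (Cfsg.wOf K : Set G) := by
  refine le_antisymm (normalizer_le_normalizer_wOf K) fun g hg => ?_
  obtain ⟨S, hJ, hS1, hS⟩ := exists_jOvergroup hL hN hZ hT hT1 hK0
  exact CfsgLib.Fusion.conjBy_eq_iff.1 (comp_conj_eq hL hN hZ hS1 hS (isJComponent_of_jOf_eq hJ hK0.1)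
    (le_sup_left.trans (x_le_normalizer_wOf hK0.1)) hg (CfsgLib.Fusion.conjBy_eq_iff.2 hg))

theorem component_of_conj {g : G} (hg : jOf (conjBy g T) ≤ normalizer (Cfsg.wOf K : Set G)) :
    Cfsg.IsJComponent (conjBy g T) K := by
  obtain ⟨S, hJ, hS1, hS⟩ := exists_jOvergroup hL hN hZ hT hT1 hK0
  have hp : IsPGroup 2 (jOf (conjBy g T)) := (hT.map _).to_le (jOf_le _)
  obtain ⟨h, hh, hle⟩ := exists_conjBy_le hS.1 hp hg
  have hmax : ∀ A, IsMaxEA 2 T A → IsMaxEA 2 S A := fun A hA => by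
    refine ⟨(le_jOf hA).trans (hJ ▸ jOf_le S), hA.2.1, fun B hB hBe => ?_⟩
    obtain ⟨B', hB'⟩ := exists_max S
    exact (hB'.2.2 B hB hBe).trans (hA.2.2 B' ((le_jOf hB').trans (hJ ▸ jOf_le T)) hB'.2.1)
  have heq : conjBy (h * g) (jOf T) = jOf T := by
    refine eq_of_le_of_card_ge ?_ (by rw [CfsgLib.Fusion.card_conjBy])
    rw [CfsgLib.Fusion.conjBy, map_le_iff_le_comap]
    refine jOf_le_iff.2 fun A hA => map_le_iff_le_comap.1 ?_
    rw [← hJ]
    have hA' : conjBy g A ≤ jOf (conjBy g T) := le_jOf (isMaxEA_conjBy g hA)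
    refine le_jOf ⟨?_, CfsgLib.Fusion.isElementaryAbelian_map _ hA.2.1, fun B hB hBe => ?_⟩
    · show conjBy (h * g) A ≤ S
      rw [← conjBy_conjBy]
      exact (CfsgLib.Fusion.conjBy_mono hA').trans hle
    · exact ((hmax A hA).2.2 B hB hBe).trans (CfsgLib.Fusion.card_conjBy (h * g) A).ge
  have hhK : conjBy h⁻¹ K = K := CfsgLib.Fusion.conjBy_eq_iff.2 (by
    rw [normalizer_zero hL hN hZ hT hT1 hK0]; exact inv_mem hh)
  have h1 := isJComponent_conjBy h⁻¹ hK0.1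
  rw [hhK] at h1
  refine isJComponent_of_jOf_eq ?_ h1
  rw [← conjBy_jOf, ← conjBy_jOf]
  conv_rhs => rw [← heq, conjBy_conjBy, inv_mul_cancel_left]

end Zero

end CfsgLib.JComp
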