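import Cfsg.Agent.Lib.JComp.Existence
import Cfsg.Agent.Lib.JComp.Normalizer

/-!
# Maximal straddling `2`-subgroups
-/

set_option autoImplicit false
set_option linter.style.haveILetI false
set_option linter.unusedSectionVars false

open Subgroup
open scoped commutatorElement

namespace CfsgLib.JComp

open CfsgLib.Fusion (IsMaxEA conjBy)

universe u

variable {G : Type u} [Group G] [Finite G]

theorem maxElemAbelianOrder_eq {T A : Subgroup G} (hA : IsMaxEA 2 T A) :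
    Cfsg.maxElemAbelianOrder T = Nat.card A := by
  have hmem : A.subgroupOf T ∈ Cfsg.maxElementaryAbelianSubgroups 2 ↥T := by
    refine ⟨⟨⟨⟨fun a b => Subtype.ext (Subtype.ext
      (CfsgLib.EABasic.comm_of_isElementaryAbelian hA.2.1 (mem_subgroupOf.1 a.2) (mem_subgroupOf.1 b.2)))⟩⟩,
      fun a ha => Subtype.ext (hA.2.1.2 _ (mem_subgroupOf.1 ha))⟩, fun B hB => ?_⟩
    rw [Nat.card_congr (subgroupOfEquivOfLe hA.1).toEquiv, ← card_map_of_injective T.subtype_injective]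
    exact hA.2.2 _ (map_subtype_le B) (CfsgLib.Fusion.isElementaryAbelian_map _ hB)
  have himg : (fun B : Subgroup ↥T => Nat.card ↥B) '' Cfsg.maxElementaryAbelianSubgroups 2 ↥T =
      {Nat.card A} := by
    refine Set.eq_singleton_iff_unique_mem.2 ⟨⟨_, hmem, Nat.card_congr (subgroupOfEquivOfLe hA.1).toEquiv⟩, ?_⟩
    rintro _ ⟨B, hB, rfl⟩
    rw [← Nat.card_congr (subgroupOfEquivOfLe hA.1).toEquiv]
    exact le_antisymm (hmem.2 B hB.1) (hB.2 _ hmem.1)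
  rw [Cfsg.maxElemAbelianOrder, himg, csSup_singleton]

/-- A maximal straddling subgroup seen from a larger straddling group above its Thompson subgroup. -/
theorem jOf_eq_of_straddling {M T P : Subgroup G} (hT : T ∈ Cfsg.maxStraddlingTwoSubgroups M)
    (hP : P ∈ Cfsg.straddlingTwoSubgroups M) (hJP : jOf T ≤ P) :
    jOf P = jOf T ∧ Nat.card P ≤ Nat.card T := by
  obtain ⟨A, hA⟩ := exists_max T
  obtain ⟨B, hB⟩ := exists_max P
  obtain ⟨h1, h2⟩ := hT.2 P hP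
  rw [maxElemAbelianOrder_eq hA, maxElemAbelianOrder_eq hB] at h1 h2
  have hle : Nat.card A ≤ Nat.card B := hB.2.2 A ((le_jOf hA).trans hJP) hA.2.1
  have heq : Nat.card B = Nat.card A := le_antisymm h1 hle
  obtain ⟨h3, h4⟩ := h2 heq
  have hJ : jOf T ≤ jOf P := jOf_le_iff.2 fun A' hA' => le_jOf
    ⟨(le_jOf hA').trans hJP, hA'.2.1, fun D hD hDe =>
      (hB.2.2 D hD hDe).trans (by rw [heq, max_card_eq hA' hA])⟩
  have hJe := eq_of_le_of_card_ge hJ h3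
  exact ⟨hJe.symm, h4 (by rw [show Cfsg.thompsonSubgroupOf 2 P = jOf T from hJe.symm])⟩

theorem exists_mem_normalizer_not_mem {H P : Subgroup G} (hP : IsPGroup 2 P) (hHP : H ≤ P) (hne : H ≠ P) :
    ∃ x ∈ P, x ∈ normalizer (H : Set G) ∧ x ∉ H := by
  haveI : Fact (Nat.Prime 2) := ⟨Nat.prime_two⟩
  haveI : Group.IsNilpotent P := hP.isNilpotent
  obtain ⟨x, hx, hxH⟩ := SetLike.exists_of_lt (CfsgLib.Fusion.lt_inf_normalizer hHP hne)
  exact ⟨x, (mem_inf.1 hx).1, (mem_inf.1 hx).2, hxH⟩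

section Straddle

variable {S : Sylow 2 G} {M T : Subgroup G}
  (hMJ : normalizer (jOf (S : Subgroup G) : Set G) ≤ M) (hT : T ∈ Cfsg.maxStraddlingTwoSubgroups M)
include hT

theorem jOf_ne_bot : jOf T ≠ ⊥ := by
  haveI : Fact (Nat.Prime 2) := ⟨Nat.prime_two⟩
  exact CfsgLib.Fusion.thompsonSubgroupOf_ne_bot hT.1.1 hT.1.2.1

include hMJ

/-- `M` contains the normalizer of the Thompson subgroup of a maximal straddling subgroup. -/
theorem normalizer_jOf_le : normalizer (jOf T : Set G) ≤ M := by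
  haveI : Fact (Nat.Prime 2) := ⟨Nat.prime_two⟩
  by_contra hnle
  obtain ⟨hT2, hT1, hTM, -⟩ := hT.1
  have hTN : T ≤ normalizer (jOf T : Set G) :=
    le_normalizer.trans (CfsgLib.Fusion.normalizer_le_normalizer_thompsonSubgroupOf T)
  have hloc : Cfsg.IsTwoLocal (normalizer (jOf T : Set G)) :=
    ⟨jOf T, hT2.to_le (jOf_le T), jOf_ne_bot hT, rfl⟩
  obtain ⟨P, hP, hTP⟩ := exists_sylowTwoIn hT2 hTM
  obtain ⟨T₁, hT₁⟩ : ∃ T₁, T₁ = P ⊓ normalizer (jOf T : Set G) := ⟨_, rfl⟩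
  have hTT₁ : T ≤ T₁ := hT₁ ▸ le_inf hTP hTN
  have hstr : T₁ ∈ Cfsg.straddlingTwoSubgroups M :=
    ⟨hP.2.1.to_le (hT₁ ▸ inf_le_left), fun h => hT1 (eq_bot_iff.2 (h ▸ hTT₁)),
      (hT₁ ▸ inf_le_left : T₁ ≤ P).trans hP.1, _, hloc, hT₁ ▸ inf_le_right, hnle⟩
  have heq : T = T₁ := eq_of_le_of_card_ge hTT₁
    (jOf_eq_of_straddling hT hstr ((jOf_le T).trans hTT₁)).2
  have hPT : T = P := by
    by_contra hne
    obtain ⟨x, hxP, hxN, hxT⟩ := exists_mem_normalizer_not_mem hP.2.1 hTP hne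
    exact hxT (heq ▸ hT₁ ▸ mem_inf.2
      ⟨hxP, CfsgLib.Fusion.normalizer_le_normalizer_thompsonSubgroupOf T hxN⟩ : x ∈ T)
  rw [← hPT] at hP
  have hSM : (S : Subgroup G) ≤ M :=
    (le_normalizer.trans (CfsgLib.Fusion.normalizer_le_normalizer_thompsonSubgroupOf _)).trans hMJ
  obtain ⟨m, hm, hle⟩ := exists_conjBy_le hP S.2 hSM
  have hle' := CfsgLib.Fusion.conjBy_mono (g := m⁻¹) hle
  rw [CfsgLib.Fusion.conjBy_inv_conjBy] at hle'
  have hS : conjBy m⁻¹ T = (S : Subgroup G) := S.3 (hT2.map _) hle'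
  refine hnle fun x hx => ?_
  have hx' : m⁻¹ * x * m ∈ normalizer (jOf (S : Subgroup G) : Set G) := by
    refine CfsgLib.Fusion.conjBy_eq_iff.1 ?_
    rw [← hS, ← conjBy_jOf, conjBy_conjBy, mul_inv_cancel_right, ← conjBy_conjBy,
      CfsgLib.Fusion.conjBy_eq_iff.2 hx]
  have := mul_mem (mul_mem hm (hMJ hx')) (inv_mem hm)
  simpa [mul_assoc] using this

variable (hL : Cfsg.IsCharacteristicTwoType G) {L T₀ : Subgroup G}
  (hL2 : Cfsg.IsTwoLocal L) (hLM : ¬ L ≤ M) (hT₀ : Cfsg.IsSylowTwoIn T₀ L) (hJT₀ : jOf T ≤ T₀)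
include hL2 hLM hT₀ hJT₀

theorem local_facts : jOf T₀ = jOf T ∧ T₀ ∈ Cfsg.straddlingTwoSubgroups M ∧ Nat.card T₀ ≤ Nat.card T := by
  haveI : Fact (Nat.Prime 2) := ⟨Nat.prime_two⟩
  have hN := normalizer_jOf_le hMJ hT
  obtain ⟨P, hP⟩ : ∃ P, P = T₀ ⊓ M := ⟨_, rfl⟩
  have hPT₀ : P ≤ T₀ := hP ▸ inf_le_left
  have hJP : jOf T ≤ P := hP ▸ le_inf hJT₀ ((jOf_le T).trans hT.1.2.2.1)
  have hstr : P ∈ Cfsg.straddlingTwoSubgroups M :=
    ⟨hT₀.2.1.to_le hPT₀, fun h => jOf_ne_bot hT (eq_bot_iff.2 (h ▸ hJP)), hP ▸ inf_le_right,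
      L, hL2, hPT₀.trans hT₀.1, hLM⟩
  obtain ⟨hJ, hc⟩ := jOf_eq_of_straddling hT hstr hJP
  have he : P = T₀ := by
    by_contra hne
    obtain ⟨x, hx, hxN, hxP⟩ := exists_mem_normalizer_not_mem hT₀.2.1 hPT₀ hne
    refine hxP (hP.ge (mem_inf.2 ⟨hx, hN ?_⟩))
    have h := CfsgLib.Fusion.normalizer_le_normalizer_thompsonSubgroupOf (p := 2) P hxN
    rwa [show Cfsg.thompsonSubgroupOf 2 P = jOf T from hJ] at h
  rw [he] at hJ hstr hc
  exact ⟨hJ, hstr, hc⟩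

include hL in
theorem mem_jOvergroups : L ∈ Cfsg.jOvergroups T₀ := by
  haveI : Fact (Nat.Prime 2) := ⟨Nat.prime_two⟩
  obtain ⟨hJ, -, -⟩ := local_facts hMJ hT hL2 hLM hT₀ hJT₀
  refine ⟨hT₀, fun hle => hLM ?_, ?_⟩
  · have hcore : coreOf L ≤ T₀ := by
      obtain ⟨g, hg, h⟩ := exists_conjBy_le hT₀ (isPGroup_pCoreOf 2 L) (pCoreOf_le 2 L)
      rwa [CfsgLib.Fusion.conjBy_eq_iff.2 (le_normalizer_pCoreOf 2 L hg)] at h
    have he : jOf (coreOf L) = jOf T₀ := jOf_eq_of_conj_le (g := 1) hle (by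
      rintro _ ⟨x, hx, rfl⟩
      simpa using hcore hx)
    have h := (le_normalizer_pCoreOf 2 L).trans
      (CfsgLib.Fusion.normalizer_le_normalizer_thompsonSubgroupOf (p := 2) (coreOf L))
    rw [show Cfsg.thompsonSubgroupOf 2 (coreOf L) = jOf T from he.trans hJ] at h
    exact h.trans (normalizer_jOf_le hMJ hT)
  · obtain ⟨R, hR2, hR1, rfl⟩ := hL2
    intro x hx
    have hRQ : R ≤ coreOf (normalizer (R : Set G)) := le_pCoreOf le_normalizer hR2 le_rfl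
    have hxN : x ∈ normalizer (R : Set G) := centralizer_le_normalizer _ (centralizer_le hRQ hx)
    have hx' : (⟨x, hxN⟩ : normalizer (R : Set G)) ∈
        centralizer (Cfsg.pCore 2 ↥(normalizer (R : Set G)) : Set _) :=
      mem_centralizer_iff.2 fun y hy => Subtype.ext (mem_centralizer_iff.1 hx _ ⟨y, hy, rfl⟩)
    exact ⟨⟨x, hxN⟩, hL.2 R hR2 hR1 hx', rfl⟩

end Straddle

section Outside

variable {S : Sylow 2 G} {M T L : Subgroup G}
  (hL : Cfsg.IsCharacteristicTwoType G)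
  (hN : ∀ N : Subgroup G, Cfsg.IsTwoLocal N → Group.IsSolvable ↥N)
  (hZ : ZHyp G) (hMJ : normalizer (jOf (S : Subgroup G) : Set G) ≤ M)
  (hT : T ∈ Cfsg.maxStraddlingTwoSubgroups M)
  (hL2 : Cfsg.IsTwoLocal L) (hLM : ¬ L ≤ M) (hTL : T ≤ L)
include hL hMJ hT hL2 hLM hTL

theorem mem_jOvergroups_self : L ∈ Cfsg.jOvergroups T := by
  haveI : Fact (Nat.Prime 2) := ⟨Nat.prime_two⟩
  obtain ⟨T', hT', hle⟩ := exists_sylowTwoIn hT.1.1 hTL
  have hc := (local_facts hMJ hT hL2 hLM hT' ((jOf_le T).trans hle)).2.2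
  have he : T = T' := eq_of_le_of_card_ge hle hc
  have h := mem_jOvergroups hMJ hT hL hL2 hLM hT' ((jOf_le T).trans hle)
  rwa [← he] at h

include hN hZ

theorem exists_component_outside : ∃ K, Cfsg.IsJComponent T K ∧ K ≤ L ∧ ¬ K ≤ M := by
  have hLT := mem_jOvergroups_self hL hMJ hT hL2 hLM hTL
  obtain ⟨d⟩ := exists_data hN hZ hT.1.2.1 hLT
  by_contra hno
  push Not at hno
  have hNM := normalizer_jOf_le hMJ hT
  have hC : cOf L ≤ M := (cOf_le_normalizer_jOf hZ hLT).trans hNM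
  have hP : d.P ≤ M := d.P_gen.trans (sup_le hC ((closure_le _).2 (by
    rintro _ ⟨i, rfl⟩
    obtain ⟨K, hK, hKL, hi⟩ := d.exists_component hZ hLT i
    exact (sup_le (hno K hK hKL) hC) hi)))
  refine hLM fun g hg => ?_
  obtain ⟨a, ha, he⟩ := d.conj_jOf hZ hLT hg
  have h1 : a⁻¹ * g ∈ normalizer (jOf T : Set G) := by
    refine CfsgLib.Fusion.conjBy_eq_iff.1 ?_
    rw [← conjBy_conjBy, he, CfsgLib.Fusion.conjBy_inv_conjBy]
  have := mul_mem (hP ha) (hNM h1)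
  simpa using this

end Outside

end CfsgLib.JComp
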