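import Cfsg.Agent.Lib.JComp.Nice

/-!
# Outside components when a larger `2`-subgroup of `M` normalizes `T`
-/

set_option autoImplicit false
set_option linter.style.haveILetI false
set_option linter.unusedSectionVars false

open Subgroup
open scoped commutatorElement

namespace CfsgLib.JComp

open CfsgLib.Fusion (conjBy)
open CfsgLib.EABasic (comm_of_isElementaryAbelian)

universe u

variable {G : Type u} [Group G] [Finite G]

theorem omegaCenterOf_ne_bot {S : Subgroup G} (hS : IsPGroup 2 S) (hS1 : S ≠ ⊥) :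
    Cfsg.omegaCenterOf S ≠ ⊥ := by
  haveI : Fact (Nat.Prime 2) := ⟨Nat.prime_two⟩
  obtain ⟨w, hw, hw1, hfix⟩ := exists_fixed hS le_normalizer hS hS1
  obtain ⟨k, hk⟩ := IsPGroup.iff_orderOf.1 hS ⟨w, hw⟩
  rw [Subgroup.orderOf_mk] at hk
  rcases k with _ | k
  · exact absurd (orderOf_eq_one_iff.1 hk) hw1
  have hpow := pow_orderOf_eq_one w
  rw [hk, pow_succ, pow_mul] at hpow
  have hne : w ^ 2 ^ k ≠ 1 := pow_ne_one_of_lt_orderOf (by positivity) (by rw [hk]; exact Nat.pow_lt_pow_right (by norm_num) k.lt_succ_self)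
  intro h
  refine hne (mem_bot.1 (h ▸ mem_omegaCenterOf.2 ⟨pow_mem hw _, fun y hy => ?_, hpow⟩))
  exact (Commute.pow_right (hfix y hy) _).eq

/-- `Ω₁(Z(S))` lies in `Ω₁(Z(T))` -/
theorem Nice.omega_sylow_le (hL : Cfsg.IsCharacteristicTwoType G)
    (hN : ∀ N : Subgroup G, Cfsg.IsTwoLocal N → Group.IsSolvable ↥N) (hZ : ZHyp G)
    {T K S : Subgroup G} (hT : IsPGroup 2 T) (hK : Nice T K) (hTS : T ≤ S) :
    Cfsg.omegaCenterOf S ≤ Cfsg.omegaCenterOf T := by
  intro z hz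
  obtain ⟨-, h2, h3⟩ := mem_omegaCenterOf.1 hz
  have hcore := Nice.core_normalizer_le hL hN hZ hT hK
  have hzT : z ∈ T := hcore (Nice.centralizer_core_le hL hN hZ hT hK
    (mem_centralizer_iff.2 fun q hq => h2 q (hTS (hcore hq))))
  exact mem_omegaCenterOf.2 ⟨hzT, fun y hy => h2 y (hTS hy), h3⟩

section Four

variable (hL : Cfsg.IsCharacteristicTwoType G)
  (hN : ∀ N : Subgroup G, Cfsg.IsTwoLocal N → Group.IsSolvable ↥N)
  (hZ : ZHyp G) {T K K' : Subgroup G} (hT : IsPGroup 2 T)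
include hT

/-- possible orders of `Ω₁(Z(J(T)))` when not all pairs are compatible -/
theorem card_zJ_two_or_four (hK : Cfsg.IsJComponent T K) (h8 : ¬ 8 ≤ Nat.card ↥(zJ T)) :
    Nat.card ↥(zJ T) = 2 ∨ Nat.card ↥(zJ T) = 4 := by
  haveI : Fact (Nat.Prime 2) := ⟨Nat.prime_two⟩
  obtain ⟨k, hk⟩ := (hT.to_le ((zJ_le T).trans (jOf_le T))).exists_card_eq
  have h2 := two_le_card_zJ hK hT
  rcases k with _ | _ | _ | k
  · rw [pow_zero] at hk; omega
  · exact Or.inl (by simpa using hk)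
  · exact Or.inr (by simpa using hk)
  · refine absurd ?_ h8
    rw [hk]
    calc 8 = 2 ^ 3 := by norm_num
      _ ≤ 2 ^ (k + 3) := Nat.pow_le_pow_right (by norm_num) (by omega)

theorem card_cPart_of_four (hK : Cfsg.IsJComponent T K) (h4 : Nat.card ↥(zJ T) = 4) :
    Nat.card ↥(cPart T K) = 2 := by
  have := card_zJ hK hT
  omega

theorem cPart_eq_bot_of_two (hK : Cfsg.IsJComponent T K) (h2 : Nat.card ↥(zJ T) = 2) :
    cPart T K = ⊥ := card_eq_one.1 (by have := card_zJ hK hT; omega)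

include hL hN hZ

theorem not_compat_of_two (hK : KeepsJ T K) (hK' : KeepsJ T K') (h2 : Nat.card ↥(zJ T) = 2)
    (hc : Compat T K K') : K = K' := by
  by_contra hne
  obtain ⟨z, hz, hz1⟩ := exists_ne_one_of_card_two (card_zPart hK'.1 hT)
  have h := Compat.zPart_le hL hN hZ hT hK hK' hc hne hz
  rw [cPart_eq_bot_of_two hT hK.1 h2] at h
  exact hz1 (mem_bot.1 h)

theorem pair_third (h4 : Nat.card ↥(zJ T) = 4) (hK : KeepsJ T K) (hK' : KeepsJ T K')
    (hc : Compat T K K') (hne : K ≠ K') :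
    ∃ z z' : G, z ∈ zPart T K ∧ z' ∈ zPart T K' ∧ z ≠ 1 ∧ z' ≠ 1 ∧ z ≠ z' ∧ z' ∈ cPart T K ∧
      z ∈ cPart T K' ∧ (∀ v ∈ zJ T, v = 1 ∨ v = z ∨ v = z' ∨ v = z * z') ∧
      ∀ K'' : Subgroup G, KeepsJ T K'' → K'' ≠ K → K'' ≠ K' → z * z' ∈ cPart T K'' := by
  obtain ⟨z, hz, hz1⟩ := exists_ne_one_of_card_two (card_zPart hK.1 hT)
  obtain ⟨z', hz', hz'1⟩ := exists_ne_one_of_card_two (card_zPart hK'.1 hT)
  have h1 := Compat.zPart_le hL hN hZ hT hK hK' hc hne hz'
  have h2 := Compat.zPart_le hL hN hZ hT hK' hK hc.symm (Ne.symm hne) hz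
  have hzz := Compat.zPart_ne hL hN hZ hT hK hK' hc hne hz hz' hz1
  have hcases : ∀ v ∈ zJ T, v = 1 ∨ v = z ∨ v = z' ∨ v = z * z' := fun v hv =>
    four_cases h4 (fun w hw => zJ_sq hw) hz.1 hz'.1 hz1 hz'1 hzz hv
  refine ⟨z, z', hz, hz', hz1, hz'1, hzz, h1, h2, hcases, fun K'' hK'' hne1 hne2 => ?_⟩
  obtain ⟨c, hc3, hc1⟩ := exists_ne_one_of_card_two (card_cPart_of_four hT hK''.1 h4)
  have hcard := card_cPart_of_four hT hK''.1 h4
  rcases hcases c hc3.1 with rfl | rfl | rfl | rfl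
  · exact absurd rfl hc1
  · exfalso
    have h := Compat.zPart_le hL hN hZ hT hK'' hK' (compat_of_mem hc3 h2 hc1) hne2 hz'
    exact hzz (eq_of_card_two hcard hc3 h hc1 hz'1)
  · exfalso
    have h := Compat.zPart_le hL hN hZ hT hK'' hK (compat_of_mem hc3 h1 hc1) hne1 hz
    exact hzz (eq_of_card_two hcard h hc3 hz1 hc1)
  · exact hc3

end Four

/-- the components outside `M` -/
abbrev outer (M T : Subgroup G) : Set (Subgroup G) := {K | Cfsg.IsJComponent T K ∧ ¬ K ≤ M}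

/-- a proper `2`-overgroup of `T` in `M` normalizing it -/
structure Ext (M T R : Subgroup G) : Prop where
  two : IsPGroup 2 R
  le : T ≤ R
  ne : T ≠ R
  norm : R ≤ normalizer (T : Set G)
  leM : R ≤ M

theorem exists_ext {M T P : Subgroup G} (hP : IsPGroup 2 P) (hTP : T ≤ P) (hne : T ≠ P) (hPM : P ≤ M) :
    ∃ R, Ext M T R ∧ R ≤ P := by
  obtain ⟨x, hx, hxN, hxT⟩ := exists_mem_normalizer_not_mem hP hTP hne
  exact ⟨T ⊔ zpowers x, ⟨hP.to_le (sup_le hTP (zpowers_le.2 hx)), le_sup_left,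
    fun h => hxT (h.ge (mem_sup_right (mem_zpowers x))), sup_le le_normalizer (zpowers_le.2 hxN),
    (sup_le hTP (zpowers_le.2 hx)).trans hPM⟩, sup_le hTP (zpowers_le.2 hx)⟩

theorem compat_conj_of_core {T K : Subgroup G} (hcore : Cfsg.pCoreOf 2 (K ⊔ T) ≠ ⊥) {t : G}
    (ht : t ∈ T) : Compat T K (conjBy t K) := by
  haveI : Fact (Nat.Prime 2) := ⟨Nat.prime_two⟩
  refine ⟨normalizer (Cfsg.pCoreOf 2 (K ⊔ T) : Set G), ⟨_, isPGroup_pCoreOf 2 _, hcore, rfl⟩, ?_, ?_, ?_⟩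
  · exact ((jOf_le T).trans le_sup_right).trans (le_normalizer_pCoreOf 2 _)
  · exact le_sup_left.trans (le_normalizer_pCoreOf 2 _)
  · refine CfsgLib.Fusion.conjBy_le_iff.2 fun k hk => le_normalizer_pCoreOf 2 _ ?_
    exact mul_mem (mul_mem (mem_sup_right ht) (mem_sup_left hk)) (inv_mem (mem_sup_right ht))

theorem le_normalizer_of_core {T K : Subgroup G} (hfix : Fixed T K)
    (hcore : Cfsg.pCoreOf 2 (K ⊔ T) ≠ ⊥) : T ≤ normalizer (K : Set G) := fun t ht =>
  CfsgLib.Fusion.conjBy_eq_iff.1 (hfix t (le_normalizer_jOf T ht) (compat_conj_of_core hcore ht))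

section Straddling

variable (hL : Cfsg.IsCharacteristicTwoType G)
  (hN : ∀ N : Subgroup G, Cfsg.IsTwoLocal N → Group.IsSolvable ↥N)
  (hZ : ZHyp G) {S : Sylow 2 G} {M T R K : Subgroup G}
  (hMJ : normalizer (jOf (S : Subgroup G) : Set G) ≤ M) (hT : T ∈ Cfsg.maxStraddlingTwoSubgroups M)
include hMJ hT

theorem keepsJ_outer (hK : K ∈ outer M T) : KeepsJ T K :=
  ⟨hK.1, fun _L _T0 hL2 hKL hT0 hJ => (local_facts hMJ hT hL2 (fun h => hK.2 (hKL.trans h)) hT0 hJ).1⟩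

theorem conj_outer (hK : K ∈ outer M T) {n : G} (hn : n ∈ normalizer (jOf T : Set G)) :
    conjBy n K ∈ outer M T := by
  refine ⟨isJComponent_conjBy_normalizer hK.1 hn, fun h => hK.2 fun k hk => ?_⟩
  have hnM := normalizer_jOf_le hMJ hT hn
  have := mul_mem (mul_mem (inv_mem hnM) (h (CfsgLib.Fusion.conj_mem_conjBy hk))) hnM
  simpa [mul_assoc] using this

theorem isSylowTwoIn_normalizer (hK : K ∈ outer M T) (hloc : Cfsg.IsTwoLocal (normalizer (K : Set G)))
    (hTK : T ≤ normalizer (K : Set G)) : Cfsg.IsSylowTwoIn T (normalizer (K : Set G)) := by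
  haveI : Fact (Nat.Prime 2) := ⟨Nat.prime_two⟩
  obtain ⟨T', hT', hle⟩ := exists_sylowTwoIn hT.1.1 hTK
  have hc := (local_facts hMJ hT hloc (fun h => hK.2 (le_normalizer.trans h)) hT'
    ((jOf_le T).trans hle)).2.2
  exact (eq_of_le_of_card_ge hle hc).symm ▸ hT'

variable (hR : Ext M T R)
include hR

theorem not_le_local {L : Subgroup G} (hL2 : Cfsg.IsTwoLocal L) (hRL : R ≤ L) : L ≤ M := by
  by_contra hLM
  have hstr : R ∈ Cfsg.straddlingTwoSubgroups M :=
    ⟨hR.two, fun h => hT.1.2.1 (eq_bot_iff.2 (h ▸ hR.le)), hR.leM, L, hL2, hRL, hLM⟩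
  exact hR.ne (eq_of_le_of_card_ge hR.le (jOf_eq_of_straddling hT hstr ((jOf_le T).trans hR.le)).2)

theorem le_jNormalizer : R ≤ normalizer (jOf T : Set G) :=
  hR.norm.trans (CfsgLib.Fusion.normalizer_le_normalizer_thompsonSubgroupOf T)

include hL hN hZ

theorem not_all_compat (hne : (outer M T).Nonempty) :
    ¬ ∀ A ∈ outer M T, ∀ B ∈ outer M T, Compat T A B := by
  intro hall
  obtain ⟨Q, hQ2, -, hQJ, hQK⟩ := exists_envelope hL hN hZ hT.1.1 (outer M T) hne
    (fun A hA => keepsJ_outer hMJ hT hA) hall (fun n hn A hA => conj_outer hMJ hT hA hn)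
  obtain ⟨A, hA⟩ := hne
  exact hA.2 ((hQK A hA).2.trans (not_le_local hMJ hT hR hQ2 ((le_jNormalizer hMJ hT hR).trans hQJ)))

theorem card_zJ_outer (hK : K ∈ outer M T) : Nat.card ↥(zJ T) = 2 ∨ Nat.card ↥(zJ T) = 4 :=
  card_zJ_two_or_four hT.1.1 hK.1 fun h8 => not_all_compat hL hN hZ hMJ hT hR ⟨K, hK⟩ fun A hA B hB =>
    compat_of_eight_le hL hN hZ hT.1.1 (keepsJ_outer hMJ hT hA) (keepsJ_outer hMJ hT hB) h8

theorem eq_of_compat {K' : Subgroup G} (hK : K ∈ outer M T) (hK' : K' ∈ outer M T)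
    (hc : Compat T K K') : K = K' := by
  have hkeep := fun A (hA : A ∈ outer M T) => keepsJ_outer hMJ hT hA
  rcases card_zJ_outer hL hN hZ hMJ hT hR hK with h2 | h4
  · exact not_compat_of_two hL hN hZ hT.1.1 (hkeep K hK) (hkeep K' hK') h2 hc
  by_contra hne
  obtain ⟨z, z', -, -, -, -, -, hz', hz, hcases, hthird⟩ :=
    pair_third hL hN hZ hT.1.1 h4 (hkeep K hK) (hkeep K' hK') hc hne
  obtain ⟨v, hv, hv1, hvR⟩ := exists_fixed (A := R) (W := zJ T) hR.two
    ((le_jNormalizer hMJ hT hR).trans (normalizer_jOf_le_normalizer_zJ T))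
    (hT.1.1.to_le ((zJ_le T).trans (jOf_le T))) (fun e => by rw [e, Subgroup.card_bot] at h4; omega)
  have hbad : ∀ A ∈ outer M T, v ∉ cPart T A := fun A hA hvA => hA.2
    ((le_centralizer_of_mem_cPart hvA).trans (not_le_local hMJ hT hR
      (two_local_centralizer_singleton (zJ_sq hv) hv1)
      fun r hr => mem_centralizer_singleton_iff.2 (hvR r hr)))
  rcases hcases v hv with rfl | rfl | rfl | rfl
  · exact hv1 rfl
  · exact hbad K' hK' hz
  · exact hbad K hK hz'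
  · refine not_all_compat hL hN hZ hMJ hT hR ⟨K, hK⟩ fun A hA B hB => ?_
    have hmem : ∀ X ∈ outer M T, X = K ∨ X = K' := fun X hX => by
      by_contra hno
      push Not at hno
      exact hbad X hX (hthird X (hkeep X hX) hno.1 hno.2)
    rcases hmem A hA with rfl | rfl <;> rcases hmem B hB with rfl | rfl
    exacts [(hkeep _ hK).compat_self hT.1.1, hc, hc.symm, (hkeep _ hK').compat_self hT.1.1]

theorem fixed_outer (hK : K ∈ outer M T) : Fixed T K := fun _n hn hc =>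
  (eq_of_compat hL hN hZ hMJ hT hR hK (conj_outer hMJ hT hK hn) hc).symm

theorem nice_outer (hK : K ∈ outer M T) (hcore : Cfsg.pCoreOf 2 (K ⊔ T) ≠ ⊥) : Nice T K := by
  have hfix := fixed_outer hL hN hZ hMJ hT hR hK
  have hle := le_normalizer_of_core hfix hcore
  have hkeep := keepsJ_outer hMJ hT hK
  refine ⟨hkeep, hfix, hle, isSylowTwoIn_normalizer hMJ hT hK ?_ hle⟩
  rw [normalizer_zero hL hN hZ hT.1.1 hT.1.2.1 hkeep.zero]
  exact ⟨_, isPGroup_four (wOf_sq hK.1), wOf_ne_bot hK.1, rfl⟩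

/-- The second component. -/
theorem exists_partner (hK : K ∈ outer M T) (hnice : Nice T K) :
    ∃ y ∈ R, y ∉ T ∧ conjBy y K ∈ outer M T ∧ Nice T (conjBy y K) ∧ K ≠ conjBy y K ∧
      ¬ Compat T K (conjBy y K) := by
  obtain ⟨y, hy, hyT⟩ := SetLike.exists_of_lt (lt_of_le_of_ne hR.le hR.ne)
  have hyJ := le_jNormalizer hMJ hT hR hy
  have hK' := conj_outer hMJ hT hK hyJ
  have hTy : conjBy y T = T := CfsgLib.Fusion.conjBy_eq_iff.2 (hR.norm hy)
  have hle : T ≤ normalizer (conjBy y K : Set G) := by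
    rw [← CfsgLib.Fusion.conjBy_normalizer]
    conv_lhs => rw [← hTy]
    exact CfsgLib.Fusion.conjBy_mono hnice.le_norm
  have hkeep := keepsJ_outer hMJ hT hK'
  have hfix := fixed_outer hL hN hZ hMJ hT hR hK'
  have hsyl := isSylowTwoIn_conjBy y hnice.sylow
  rw [hTy, CfsgLib.Fusion.conjBy_normalizer] at hsyl
  have hne : K ≠ conjBy y K := fun e => hyT (le_of_sylowTwoIn hnice.sylow (Q := T ⊔ zpowers y)
    (hR.two.to_le (sup_le hR.le (zpowers_le.2 hy))) le_sup_left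
    (sup_le hnice.le_norm (zpowers_le.2 (CfsgLib.Fusion.conjBy_eq_iff.1 e.symm)))
    (mem_sup_right (mem_zpowers y)))
  exact ⟨y, hy, hyT, hK', ⟨hkeep, hfix, hle, hsyl⟩, hne,
    fun hc => hne (eq_of_compat hL hN hZ hMJ hT hR hK hK' hc)⟩

/-- `R` fixes an element which is fixed by the whole normalizer of `Ω₁(Z(J(T)))`. -/
theorem exists_rigid (hK : K ∈ outer M T) (hnice : Nice T K) :
    ∃ v ∈ zJ T, v ≠ 1 ∧ ∀ n ∈ normalizer (zJ T : Set G), n * v * n⁻¹ = v := by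
  rcases card_zJ_outer hL hN hZ hMJ hT hR hK with h2 | h4
  · obtain ⟨v, hv, hv1⟩ := exists_ne_one_of_card_two h2
    exact ⟨v, hv, hv1, fun n hn => eq_of_card_two h2 (conj_mem le_rfl hn hv) hv
      (fun e => hv1 (conj_eq_one_iff.1 e)) hv1⟩
  obtain ⟨y, hy, -, hK', hnice', hne, hno⟩ := exists_partner hL hN hZ hMJ hT hR hK hnice
  obtain ⟨c, hc, hc1⟩ := exists_ne_one_of_card_two (card_cPart_of_four hT.1.1 hK.1 h4)
  have hc' := conjBy_cPart (le_jNormalizer hMJ hT hR hy) hc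
  have hc'1 : y * c * y⁻¹ ≠ 1 := fun e => hc1 (conj_eq_one_iff.1 e)
  have hcc : c ≠ y * c * y⁻¹ := fun e => hno (compat_of_mem hc (e.symm ▸ hc') hc1)
  obtain ⟨v, hv, hv1, hvR⟩ := exists_fixed (A := R) (W := zJ T) hR.two
    ((le_jNormalizer hMJ hT hR).trans (normalizer_jOf_le_normalizer_zJ T))
    (hT.1.1.to_le ((zJ_le T).trans (jOf_le T))) (fun e => by rw [e, Subgroup.card_bot] at h4; omega)
  have hcases : ∀ w ∈ zJ T, w = 1 ∨ w = c ∨ w = y * c * y⁻¹ ∨ w = c * (y * c * y⁻¹) := fun w hw =>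
    four_cases h4 (fun w hw => zJ_sq hw) hc.1 hc'.1 hc1 hc'1 hcc hw
  have hvR' : R ≤ centralizer ({v} : Set G) := fun r hr => mem_centralizer_singleton_iff.2 (hvR r hr)
  -- no conjugate of `R` centralizes `c` or `y c y⁻¹`
  have hbad : ∀ X, X ∈ outer M T → Nice T X → ∀ u ∈ cPart T X, u ≠ 1 → ∀ n : G, n * v * n⁻¹ ≠ u := by
    intro X hX hXn u hu hu1 n he
    have hle : conjBy n R ≤ normalizer (X : Set G) := by
      refine le_trans ?_ (Nice.le_local hL hN hZ hT.1.1 hXn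
        (two_local_centralizer_singleton (zJ_sq hu.1) hu1)
        (sup_le (le_centralizer_of_mem_cPart hu) (jOf_le_centralizer_singleton hu.1)))
      refine CfsgLib.Fusion.conjBy_le_iff.2 fun r hr => mem_centralizer_singleton_iff.2 ?_
      rw [← he]
      calc n * r * n⁻¹ * (n * v * n⁻¹) = n * (r * v) * n⁻¹ := by group
        _ = n * (v * r) * n⁻¹ := by rw [hvR r hr]
        _ = _ := by group
    obtain ⟨g, hg, hgle⟩ := exists_conjBy_le hXn.sylow (hR.two.map _) hle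
    have hcard := card_le_of_le hgle
    rw [CfsgLib.Fusion.card_conjBy, CfsgLib.Fusion.card_conjBy] at hcard
    exact hR.ne (eq_of_le_of_card_ge hR.le hcard)
  have hb1 := hbad K hK hnice c hc hc1
  have hb2 := hbad _ hK' hnice' _ hc' hc'1
  have hvv : v = c * (y * c * y⁻¹) := by
    rcases hcases v hv with h | h | h | h
    · exact absurd h hv1
    · exact absurd (by simpa using h) (hb1 1)
    · exact absurd (by simpa using h) (hb2 1)
    · exact h
  refine ⟨v, hv, hv1, fun n hn => ?_⟩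
  rcases hcases _ (conj_mem le_rfl hn hv) with h | h | h | h
  · exact absurd (conj_eq_one_iff.1 h) hv1
  · exact absurd h (hb1 n)
  · exact absurd h (hb2 n)
  · exact h.trans hvv.symm

/-- The order four case. -/
theorem four_facts (hK : K ∈ outer M T) (hnice : Nice T K) (h4 : Nat.card ↥(zJ T) = 4) :
    Cfsg.omegaCenterOf T = zJ T ∧
      (normalizer (K : Set G) ⊓ centralizer (zJ T : Set G)).relIndex (normalizer (zJ T : Set G)) = 2 := by
  obtain ⟨y, hy, -, hK', hnice', hne, hno⟩ := exists_partner hL hN hZ hMJ hT hR hK hnice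
  obtain ⟨c, hc, hc1⟩ := exists_ne_one_of_card_two (card_cPart_of_four hT.1.1 hK.1 h4)
  obtain ⟨z, hz, hz1⟩ := exists_ne_one_of_card_two (card_zPart hK.1 hT.1.1)
  have hcz : z ≠ c := fun e => not_mem_cPart_of_mem_zPart hK.1 hz hz1 (e ▸ hc)
  have hcT : ∀ t ∈ T, t * c * t⁻¹ = c := fun t ht => by
    have h := conjBy_cPart (le_normalizer_jOf T ht) hc
    rw [CfsgLib.Fusion.conjBy_eq_iff.2 (hnice.le_norm ht)] at h
    exact eq_of_card_two (card_cPart_of_four hT.1.1 hK.1 h4) h hc (fun e => hc1 (conj_eq_one_iff.1 e)) hc1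
  refine ⟨le_antisymm (omegaCenterOf_le_zJ T) fun w hw => ?_, ?_⟩
  · have hzT := Nice.mem_omegaCenterOf_of_zPart hT.1.1 hnice hz
    have hcT' : c ∈ Cfsg.omegaCenterOf T := mem_omegaCenterOf.2
      ⟨jOf_le T (zJ_le T hc.1), fun t ht => mul_inv_eq_iff_eq_mul.1 (hcT t ht),
        (mem_omegaCenterOf.1 hc.1).2.2⟩
    rcases four_cases h4 (fun w hw => zJ_sq hw) hz.1 hc.1 hz1 hc1 hcz hw with rfl | rfl | rfl | rfl
    exacts [one_mem _, hzT, hcT', mul_mem hzT hcT']
  have hCle : centralizer (zJ T : Set G) ≤ normalizer (K : Set G) := fun g hg =>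
    Nice.le_local hL hN hZ hT.1.1 hnice (two_local_centralizer_singleton (zJ_sq hc.1) hc1)
      (sup_le (le_centralizer_of_mem_cPart hc) (jOf_le_centralizer_singleton hc.1))
      (mem_centralizer_singleton_iff.2 (mem_centralizer_iff.1 hg c hc.1).symm)
  rw [inf_eq_right.2 hCle]
  obtain ⟨v, hv, hv1, hfix⟩ := exists_rigid hL hN hZ hMJ hT hR hK hnice
  have hyN : y ∈ normalizer (zJ T : Set G) :=
    normalizer_jOf_le_normalizer_zJ T (le_jNormalizer hMJ hT hR hy)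
  have hc' := conjBy_cPart (le_jNormalizer hMJ hT hR hy) hc
  have hc'1 : y * c * y⁻¹ ≠ 1 := fun e => hc1 (conj_eq_one_iff.1 e)
  have hcc : c ≠ y * c * y⁻¹ := fun e => hno (compat_of_mem hc (e.symm ▸ hc') hc1)
  have hcv : c ≠ v := by
    intro e
    rw [← e] at hfix
    exact hcc (hfix y hyN).symm
  have hcases : ∀ w ∈ zJ T, w = 1 ∨ w = v ∨ w = c ∨ w = v * c := fun w hw =>
    four_cases h4 (fun w hw => zJ_sq hw) hv hc.1 hv1 hc1 hcv.symm hw
  have hC : ∀ n ∈ normalizer (zJ T : Set G), (n ∈ centralizer (zJ T : Set G) ↔ n * c * n⁻¹ = c) := by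
    intro n hn
    refine ⟨fun h => mul_inv_eq_iff_eq_mul.2 (mem_centralizer_iff.1 h c hc.1).symm,
      fun h => mem_centralizer_iff.2 fun w hw => ?_⟩
    have hnv : Commute n v := mul_inv_eq_iff_eq_mul.1 (hfix n hn)
    have hnc : Commute n c := mul_inv_eq_iff_eq_mul.1 h
    rcases hcases w hw with rfl | rfl | rfl | rfl
    exacts [(Commute.one_right n).symm.eq, hnv.symm.eq, hnc.symm.eq, (hnv.mul_right hnc).symm.eq]
  have hmove : ∀ n ∈ normalizer (zJ T : Set G), n * c * n⁻¹ ≠ c → n * c * n⁻¹ = v * c := by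
    intro n hn h
    rcases hcases _ (conj_mem le_rfl hn hc.1) with h' | h' | h' | h'
    · exact absurd (conj_eq_one_iff.1 h') hc1
    · exfalso
      exact hcv (mul_left_cancel (mul_right_cancel ((hfix n hn).trans h'.symm))).symm
    · exact absurd h' h
    · exact h'
  rw [relIndex, index_eq_two_iff]
  refine ⟨⟨y, hyN⟩, fun b => ?_⟩
  simp only [mem_subgroupOf, Subgroup.coe_mul]
  rw [hC _ (mul_mem b.2 hyN), hC _ b.2]
  have hy' := hmove y hyN (Ne.symm hcc)
  have he : (b : G) * y * c * ((b : G) * y)⁻¹ = v * ((b : G) * c * (b : G)⁻¹) := by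
    calc (b : G) * y * c * ((b : G) * y)⁻¹ = (b : G) * (y * c * y⁻¹) * (b : G)⁻¹ := by group
      _ = ((b : G) * v * (b : G)⁻¹) * ((b : G) * c * (b : G)⁻¹) := by rw [hy']; group
      _ = _ := by rw [hfix b b.2]
  rw [he]
  by_cases hb : (b : G) * c * (b : G)⁻¹ = c
  · refine Or.inr ⟨hb, fun h => hv1 ?_⟩
    rw [hb] at h
    exact mul_eq_right.1 h
  · refine Or.inl ⟨?_, hb⟩
    rw [hmove b b.2 hb, ← mul_assoc, zJ_sq hv, one_mul]

end Straddling

end CfsgLib.JComp
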