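import Cfsg.Agent.Lib.JComp.Envelope

/-!
# Components of a Sylow subgroup
-/

set_option autoImplicit false
set_option linter.style.haveILetI false
set_option linter.unusedSectionVars false

open Subgroup
open scoped commutatorElement

namespace CfsgLib.JComp

open CfsgLib.Fusion (conjBy)
open CfsgLib.EABasic (comm_of_isElementaryAbelian)

universe u

variable {G : Type u} [Group G] [Finite G]

theorem not_le_normalizer_jOf {T K : Subgroup G} (hK : Cfsg.IsJComponent T K) (hT : IsPGroup 2 T) :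
    ¬ K ≤ normalizer (jOf T : Set G) := by
  haveI : Fact (Nat.Prime 2) := ⟨Nat.prime_two⟩
  intro h
  have hKJ : K ≤ jOf T := by
    conv_lhs => rw [← hK.2.1]
    refine commutator_le.2 fun k hk j hj => ?_
    rw [commutatorElement_def]
    exact mul_mem (conj_mem h hk hj) (inv_mem hj)
  obtain ⟨n, hn⟩ := ((jOf_isPGroup hK hT).to_le hKJ).exists_card_eq
  have h3 : 3 ∣ 2 ^ n := by
    rw [← hn, ← hK.2.2.1]
    exact relIndex_dvd_card _ _
  have := Nat.prime_three.dvd_of_dvd_pow h3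
  norm_num at this

theorem isSylowTwoIn_sylow (P : Sylow 2 G) {L : Subgroup G} (h : (P : Subgroup G) ≤ L) :
    Cfsg.IsSylowTwoIn (P : Subgroup G) L := by
  haveI : Fact (Nat.Prime 2) := ⟨Nat.prime_two⟩
  exact ⟨h, P.2, Odd.of_dvd_nat (Nat.odd_iff.2 (Nat.two_dvd_ne_zero.1 P.not_dvd_index))
    (relIndex_dvd_index_of_le h)⟩

theorem jOf_eq_sylow (P : Sylow 2 G) {R : Subgroup G} (hR : IsPGroup 2 R)
    (hJ : jOf (P : Subgroup G) ≤ R) : jOf R = jOf (P : Subgroup G) := by
  obtain ⟨g, -, hg⟩ := exists_conjBy_le (isSylowTwoIn_sylow P le_top) hR le_top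
  exact jOf_eq_of_conj_le hJ hg

theorem keepsJ_sylow (P : Sylow 2 G) {K : Subgroup G} (hK : Cfsg.IsJComponent (P : Subgroup G) K) :
    KeepsJ (P : Subgroup G) K :=
  ⟨hK, fun _L _T0 _ _ hT0 hJ => jOf_eq_sylow P hT0.2.1 hJ⟩

section

variable (hL : Cfsg.IsCharacteristicTwoType G)
  (hN : ∀ N : Subgroup G, Cfsg.IsTwoLocal N → Group.IsSolvable ↥N)
  (hZ : ZHyp G) (P : Sylow 2 G)
include hL hN hZ

/-- A local subgroup containing `J(P)` lies in a group with `N(J(P))` and all its components. -/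
theorem local_le {M₀ L : Subgroup G} (hJ : normalizer (jOf (P : Subgroup G) : Set G) ≤ M₀)
    (hL2 : Cfsg.IsTwoLocal L) (hJL : jOf (P : Subgroup G) ≤ L)
    (hcomp : ∀ A, Cfsg.IsJComponent (P : Subgroup G) A → A ≤ L → A ≤ M₀) : L ≤ M₀ := by
  haveI : Fact (Nat.Prime 2) := ⟨Nat.prime_two⟩
  obtain ⟨T0, hT0, hle⟩ := exists_sylowTwoIn (P.2.to_le (jOf_le _)) hJL
  have hJ0 := jOf_eq_sylow P hT0.2.1 hle
  by_cases hcore : jOf T0 ≤ coreOf L
  · have he : jOf (coreOf L) = jOf (P : Subgroup G) := jOf_eq_sylow P (isPGroup_pCoreOf 2 L) (hJ0 ▸ hcore)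
    have h := (le_normalizer_pCoreOf 2 L).trans
      (CfsgLib.Fusion.normalizer_le_normalizer_thompsonSubgroupOf (p := 2) (coreOf L))
    rw [show Cfsg.thompsonSubgroupOf 2 (coreOf L) = jOf (P : Subgroup G) from he] at h
    exact h.trans hJ
  have hLT : L ∈ Cfsg.jOvergroups T0 := by
    refine ⟨hT0, hcore, ?_⟩
    obtain ⟨R, hR2, hR1, rfl⟩ := hL2
    intro x hx
    have hRQ : R ≤ coreOf (normalizer (R : Set G)) := le_pCoreOf le_normalizer hR2 le_rfl
    have hxN : x ∈ normalizer (R : Set G) := centralizer_le_normalizer _ (centralizer_le hRQ hx)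
    have hx' : (⟨x, hxN⟩ : normalizer (R : Set G)) ∈
        centralizer (Cfsg.pCore 2 ↥(normalizer (R : Set G)) : Set _) :=
      mem_centralizer_iff.2 fun y hy => Subtype.ext (mem_centralizer_iff.1 hx _ ⟨y, hy, rfl⟩)
    exact ⟨⟨x, hxN⟩, hL.2 R hR2 hR1 hx', rfl⟩
  have hT01 : T0 ≠ ⊥ := fun h => hcore (h ▸ (jOf_le _).trans bot_le)
  obtain ⟨d⟩ := exists_data hN hZ hT01 hLT
  have hC : cOf L ≤ M₀ := by
    have := cOf_le_normalizer_jOf hZ hLT
    rw [hJ0] at this
    exact this.trans hJ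
  have hP : d.P ≤ M₀ := d.P_gen.trans (sup_le hC ((closure_le _).2 (by
    rintro _ ⟨i, rfl⟩
    obtain ⟨A, hA, hAL, hi⟩ := d.exists_component hZ hLT i
    exact (sup_le (hcomp A (isJComponent_of_jOf_eq hJ0.symm hA) hAL) hC) hi)))
  intro g hg
  obtain ⟨a, ha, he⟩ := d.conj_jOf hZ hLT hg
  rw [hJ0] at he
  have h1 : a⁻¹ * g ∈ normalizer (jOf (P : Subgroup G) : Set G) := by
    refine CfsgLib.Fusion.conjBy_eq_iff.1 ?_
    rw [← conjBy_conjBy, he, CfsgLib.Fusion.conjBy_inv_conjBy]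
  have := mul_mem (hP ha) (hJ h1)
  simpa using this

variable (hO : Cfsg.pCore 2 G = ⊥) {K : Subgroup G} (hK : Cfsg.IsJComponent (P : Subgroup G) K)
include hO hK

theorem not_all_compat_sylow : ¬ ∀ A B : Subgroup G, Cfsg.IsJComponent (P : Subgroup G) A →
    Cfsg.IsJComponent (P : Subgroup G) B → Compat (P : Subgroup G) A B := by
  intro hall
  obtain ⟨Q, hQ2, hQe, hQJ, hQK⟩ := exists_envelope hL hN hZ P.2
    {A | Cfsg.IsJComponent (P : Subgroup G) A} ⟨K, hK⟩ (fun A hA => keepsJ_sylow P hA)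
    (fun A hA B hB => hall A B hA hB) (fun n hn A hA => isJComponent_conjBy_normalizer hA hn)
  exact no_envelope hL hN hZ hO P hQ2 hQJ hQe le_rfl le_normalizer hK (hQK K hK).2 (hQK K hK).1
    fun L hL2 hPL => local_le hL hN hZ P hQJ hL2 ((jOf_le _).trans hPL) fun A hA _ => (hQK A hA).2

theorem card_zJ_sylow :
    Nat.card ↥(zJ (P : Subgroup G)) = 2 ∨ Nat.card ↥(zJ (P : Subgroup G)) = 4 :=
  card_zJ_two_or_four P.2 hK fun h8 => not_all_compat_sylow hL hN hZ P hO hK fun A B hA hB =>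
    compat_of_eight_le hL hN hZ P.2 (keepsJ_sylow P hA) (keepsJ_sylow P hB) h8

theorem le_normalizer_sylow (hcore : Cfsg.pCoreOf 2 (K ⊔ (P : Subgroup G)) ≠ ⊥) :
    (P : Subgroup G) ≤ normalizer (K : Set G) := by
  intro t ht
  by_contra htK
  have hne : K ≠ conjBy t K := fun e => htK (CfsgLib.Fusion.conjBy_eq_iff.1 e.symm)
  have htJ := le_normalizer_jOf (P : Subgroup G) ht
  have hK' := keepsJ_sylow P (isJComponent_conjBy_normalizer hK htJ)
  have hc := compat_conj_of_core hcore ht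
  rcases card_zJ_sylow hL hN hZ P hO hK with h2 | h4
  · exact hne (not_compat_of_two hL hN hZ P.2 (keepsJ_sylow P hK) hK' h2 hc)
  obtain ⟨z, z', hz, hz', hz1, hz'1, hzz, hz'c, hzc, hcases, hthird⟩ :=
    pair_third hL hN hZ P.2 h4 (keepsJ_sylow P hK) hK' hc hne
  have htz : t * z * t⁻¹ = z' := eq_of_card_two (card_zPart hK'.1 P.2) (conjBy_zPart htJ hz) hz'
    (fun e => hz1 (conj_eq_one_iff.1 e)) hz'1
  have htfix : ∀ w ∈ zJ (P : Subgroup G), t * w * t⁻¹ = w → w = 1 ∨ w = z * z' := by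
    intro w hw h
    rcases hcases w hw with rfl | rfl | rfl | rfl
    · exact Or.inl rfl
    · exact absurd (h.symm.trans htz) hzz
    · exact absurd (mul_left_cancel (mul_right_cancel (htz.trans h.symm))) hzz
    · exact Or.inr rfl
  refine not_all_compat_sylow hL hN hZ P hO hK fun A B hA hB => ?_
  have hmem : ∀ X, Cfsg.IsJComponent (P : Subgroup G) X → X = K ∨ X = conjBy t K := by
    intro X hX
    by_contra hno
    push Not at hno
    have hv := hthird X (keepsJ_sylow P hX) hno.1 hno.2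
    refine not_le_normalizer_jOf hX P.2 ((le_centralizer_of_mem_cPart hv).trans ?_)
    refine le_trans (fun g hg => ?_) ((hZ P).trans
      (CfsgLib.Fusion.normalizer_le_normalizer_thompsonSubgroupOf _))
    refine mem_centralizer_iff.2 fun w hw => ?_
    rcases htfix w (omegaCenterOf_le_zJ _ hw)
      (mul_inv_eq_iff_eq_mul.2 ((mem_omegaCenterOf.1 hw).2.1 t ht)) with rfl | rfl
    · simp
    · exact (mem_centralizer_singleton_iff.1 hg).symm
  rcases hmem A hA with rfl | rfl <;> rcases hmem B hB with rfl | rfl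
  exacts [(keepsJ_sylow P hA).compat_self P.2, hc, hc.symm, (keepsJ_sylow P hA).compat_self P.2]

variable (hKn : (P : Subgroup G) ≤ normalizer (K : Set G))
include hKn

theorem sylow_centralizes : ∀ t ∈ (P : Subgroup G), ∀ w ∈ zJ (P : Subgroup G), t * w = w * t := by
  intro t ht w hw
  have htJ := le_normalizer_jOf (P : Subgroup G) ht
  have hKt : conjBy t K = K := CfsgLib.Fusion.conjBy_eq_iff.2 (hKn ht)
  obtain ⟨z, hz, hz1⟩ := exists_ne_one_of_card_two (card_zPart hK P.2)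
  have htz : Commute t z := mul_inv_eq_iff_eq_mul.1 (eq_of_card_two (card_zPart hK P.2)
    (hKt ▸ conjBy_zPart htJ hz) hz (fun e => hz1 (conj_eq_one_iff.1 e)) hz1)
  by_cases hw1 : w = 1
  · simp [hw1]
  rcases card_zJ_sylow hL hN hZ P hO hK with h2 | h4
  · rw [eq_of_card_two h2 hw hz.1 hw1 hz1]
    exact htz.eq
  obtain ⟨c, hc, hc1⟩ := exists_ne_one_of_card_two (card_cPart_of_four P.2 hK h4)
  have htc : Commute t c := mul_inv_eq_iff_eq_mul.1 (eq_of_card_two (card_cPart_of_four P.2 hK h4)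
    (hKt ▸ conjBy_cPart htJ hc) hc (fun e => hc1 (conj_eq_one_iff.1 e)) hc1)
  rcases four_cases h4 (fun w hw => zJ_sq hw) hz.1 hc.1 hz1 hc1
    (fun (e : z = c) => not_mem_cPart_of_mem_zPart hK hz hz1 (e ▸ hc)) hw with rfl | rfl | rfl | rfl
  · exact absurd rfl hw1
  · exact htz.eq
  · exact htc.eq
  · exact (htz.mul_right htc).eq

theorem omega_eq_sylow : Cfsg.omegaCenterOf (P : Subgroup G) = zJ (P : Subgroup G) :=
  le_antisymm (omegaCenterOf_le_zJ _) fun w hw => mem_omegaCenterOf.2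
    ⟨jOf_le _ (zJ_le _ hw), fun t ht => sylow_centralizes hL hN hZ P hO hK hKn t ht w hw,
      (mem_omegaCenterOf.1 hw).2.2⟩

theorem fixed_sylow : Fixed (P : Subgroup G) K := by
  haveI : Fact (Nat.Prime 2) := ⟨Nat.prime_two⟩
  intro n hn hc
  by_contra hne
  have hkeep := keepsJ_sylow P hK
  have hK' := keepsJ_sylow P (isJComponent_conjBy_normalizer hK hn)
  rcases card_zJ_sylow hL hN hZ P hO hK with h2 | h4
  · exact hne (not_compat_of_two hL hN hZ P.2 hkeep hK' h2 hc).symm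
  obtain ⟨z, hz, hz1⟩ := exists_ne_one_of_card_two (card_zPart hK P.2)
  obtain ⟨c, hcc, hc1⟩ := exists_ne_one_of_card_two (card_cPart_of_four P.2 hK h4)
  have hnz : n * z * n⁻¹ = c := eq_of_card_two (card_cPart_of_four P.2 hK h4)
    (Compat.zPart_le hL hN hZ P.2 hkeep hK' hc (Ne.symm hne) (conjBy_zPart hn hz)) hcc
    (fun e => hz1 (conj_eq_one_iff.1 e)) hc1
  have hnc : n * c * n⁻¹ = z := eq_of_card_two (card_cPart_of_four P.2 hK'.1 h4) (conjBy_cPart hn hcc)
    (Compat.zPart_le hL hN hZ P.2 hK' hkeep hc.symm hne hz) (fun e => hc1 (conj_eq_one_iff.1 e)) hz1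
  have hzc : z ≠ c := fun e => not_mem_cPart_of_mem_zPart hK hz hz1 (e ▸ hcc)
  obtain ⟨a, m, hm, ho⟩ := Nat.exists_eq_pow_mul_and_not_dvd (orderOf_pos n).ne' 2 (by norm_num)
  have hpow : (n ^ m) ^ 2 ^ a = 1 := by rw [← pow_mul, mul_comm, ← ho, pow_orderOf_eq_one]
  have hzp : IsPGroup 2 (zpowers (n ^ m)) := fun y => ⟨a, Subtype.ext (by
    obtain ⟨i, hi⟩ := mem_zpowers_iff.1 y.2
    show (y : G) ^ 2 ^ a = 1
    rw [← hi, ← zpow_natCast, ← zpow_mul, mul_comm, zpow_mul, zpow_natCast, hpow, one_zpow])⟩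
  obtain ⟨h, hh, hle⟩ := exists_conjBy_le (isSylowTwoIn_sylow P (le_normalizer_jOf _)) hzp
    (zpowers_le.2 (pow_mem hn m))
  have h1 := sylow_centralizes hL hN hZ P hO hK hKn _
    (hle (CfsgLib.Fusion.conj_mem_conjBy (mem_zpowers (n ^ m)))) _
    (conj_mem (normalizer_jOf_le_normalizer_zJ _) hh hz.1)
  have h2 : n ^ m * z * (n ^ m)⁻¹ = z := by
    calc n ^ m * z * (n ^ m)⁻¹
        = h⁻¹ * ((h * n ^ m * h⁻¹) * (h * z * h⁻¹)) * (h * n ^ m * h⁻¹)⁻¹ * h := by group
      _ = h⁻¹ * ((h * z * h⁻¹) * (h * n ^ m * h⁻¹)) * (h * n ^ m * h⁻¹)⁻¹ * h := by rw [h1]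
      _ = z := by group
  have key : ∀ i : ℕ, n ^ (2 * i) * z * (n ^ (2 * i))⁻¹ = z := by
    intro i
    induction i with
    | zero => simp
    | succ i ih =>
      rw [show n ^ (2 * (i + 1)) = n * n * n ^ (2 * i) by rw [show 2 * (i + 1) = 1 + 1 + 2 * i by ring, pow_add, pow_add, pow_one]]
      calc n * n * n ^ (2 * i) * z * (n * n * n ^ (2 * i))⁻¹
          = n * (n * (n ^ (2 * i) * z * (n ^ (2 * i))⁻¹) * n⁻¹) * n⁻¹ := by group
        _ = z := by rw [ih, hnz, hnc]
  obtain ⟨j, rfl⟩ := Nat.not_even_iff_odd.1 fun h' => hm h'.two_dvd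
  refine hzc (h2.symm.trans ?_)
  calc n ^ (2 * j + 1) * z * (n ^ (2 * j + 1))⁻¹
      = n * (n ^ (2 * j) * z * (n ^ (2 * j))⁻¹) * n⁻¹ := by rw [pow_succ']; group
    _ = c := by rw [key j, hnz]

theorem nice_sylow : Nice (P : Subgroup G) K :=
  ⟨keepsJ_sylow P hK, fixed_sylow hL hN hZ P hO hK hKn, hKn, isSylowTwoIn_sylow P hKn⟩

theorem exists_pair_sylow : ∃ K₁ K₂ : Subgroup G, Nice (P : Subgroup G) K₁ ∧ Nice (P : Subgroup G) K₂ ∧
    K₁ ≠ K₂ ∧ ¬ Compat (P : Subgroup G) K₁ K₂ := by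
  rcases card_zJ_sylow hL hN hZ P hO hK with h2 | h4
  · -- all distinct pairs are incompatible
    by_contra hno
    push Not at hno
    have huniq : ∀ A, Cfsg.IsJComponent (P : Subgroup G) A → (P : Subgroup G) ≤ normalizer (A : Set G) →
        A = K := fun A hA hAn => by
      by_contra hne
      exact hne (not_compat_of_two hL hN hZ P.2 (keepsJ_sylow P hA) (keepsJ_sylow P hK) h2
        (hno A K (nice_sylow hL hN hZ P hO hA hAn) (nice_sylow hL hN hZ P hO hK hKn) hne))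
    have hJK : normalizer (jOf (P : Subgroup G) : Set G) ≤ normalizer (K : Set G) := by
      intro n hn
      have hnP : conjBy n (P : Subgroup G) = P := by
        refine CfsgLib.Fusion.conjBy_eq_iff.2 (hZ P (mem_centralizer_iff.2 fun w hw => ?_))
        by_cases hw1 : w = 1
        · simp [hw1]
        have hw' := omegaCenterOf_le_zJ _ hw
        exact (mul_inv_eq_iff_eq_mul.1 (eq_of_card_two h2
          (conj_mem (normalizer_jOf_le_normalizer_zJ _) hn hw') hw'
          (fun e => hw1 (conj_eq_one_iff.1 e)) hw1)).symm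
      refine CfsgLib.Fusion.conjBy_eq_iff.1 (huniq _ (isJComponent_conjBy_normalizer hK hn) ?_)
      rw [← CfsgLib.Fusion.conjBy_normalizer]
      conv_lhs => rw [← hnP]
      exact CfsgLib.Fusion.conjBy_mono hKn
    have hnice := nice_sylow hL hN hZ P hO hK hKn
    refine no_envelope hL hN hZ hO P (Nice.isTwoLocal hL hN hZ P.2 hnice) hJK
      (Q := Cfsg.wOf K) ?_ (normalizer_le_normalizer_wOf K)
      (((wOf_le_core K).trans (pCoreOf_le 2 K)).trans le_normalizer) hK le_normalizer le_rfl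
      fun L hL2 hPL => local_le hL hN hZ P hJK hL2 ((jOf_le _).trans hPL) fun A hA hAL => ?_
    · exact ⟨⟨⟨fun a b => Subtype.ext (comm_of_isElementaryAbelian (omegaCenterOf_ea _)
        (wOf_le_uOf K a.2) (wOf_le_uOf K b.2))⟩⟩, fun a ha => by rw [pow_two]; exact wOf_sq hK a ha⟩
    · rw [huniq A hA fun t ht => ?_]
      · exact le_normalizer
      refine CfsgLib.Fusion.conjBy_eq_iff.1 (not_compat_of_two hL hN hZ P.2 (keepsJ_sylow P hA)
        (keepsJ_sylow P (isJComponent_conjBy_normalizer hA (le_normalizer_jOf _ ht))) h2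
        ⟨L, hL2, (jOf_le _).trans hPL, hAL, CfsgLib.Fusion.conjBy_le_iff.2 fun a ha => ?_⟩).symm
      exact mul_mem (mul_mem (hPL ht) (hAL ha)) (inv_mem (hPL ht))
  · -- every component is normalized by `P`
    have hall : ∀ A, Cfsg.IsJComponent (P : Subgroup G) A → Nice (P : Subgroup G) A := by
      intro A hA
      refine nice_sylow hL hN hZ P hO hA fun t ht => CfsgLib.Fusion.conjBy_eq_iff.1 ?_
      by_contra hne
      have htJ := le_normalizer_jOf (P : Subgroup G) ht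
      have hfix : ∀ w ∈ zJ (P : Subgroup G), t * w * t⁻¹ = w := fun w hw =>
        mul_inv_eq_iff_eq_mul.2 (sylow_centralizes hL hN hZ P hO hK hKn t ht w hw)
      obtain ⟨c, hc, hc1⟩ := exists_ne_one_of_card_two (card_cPart_of_four P.2 hA h4)
      obtain ⟨z, hz, hz1⟩ := exists_ne_one_of_card_two (card_zPart hA P.2)
      have h1 := conjBy_cPart htJ hc
      have h2 := conjBy_zPart htJ hz
      rw [hfix c hc.1] at h1
      rw [hfix z hz.1] at h2
      exact Compat.zPart_ne hL hN hZ P.2 (keepsJ_sylow P hA)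
        (keepsJ_sylow P (isJComponent_conjBy_normalizer hA htJ)) (compat_of_mem hc h1 hc1) (Ne.symm hne)
        hz h2 hz1 rfl
    by_contra hno
    push Not at hno
    refine not_all_compat_sylow hL hN hZ P hO hK fun A B hA hB => ?_
    by_cases he : A = B
    · exact he ▸ (keepsJ_sylow P hA).compat_self P.2
    · exact hno A B (hall A hA) (hall B hB) he

end

end CfsgLib.JComp
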