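import Cfsg.Agent.Lib.JComp.Prelim
import Cfsg.Agent.Lib.RootSub.Commutator

/-!
# A `J(T)`-component and its four group
-/

set_option autoImplicit false
set_option linter.style.haveILetI false
set_option linter.unusedSectionVars false

open Subgroup
open scoped commutatorElement

namespace CfsgLib.JComp

open CfsgLib.Fusion (IsMaxEA conjBy)
open CfsgLib.EABasic (comm_of_isElementaryAbelian)

universe u

variable {G : Type u} [Group G]

/-- `O₂(K)` -/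
abbrev coreOf (K : Subgroup G) : Subgroup G := Cfsg.pCoreOf 2 K

/-- `Ω₁(Z(O₂(K)))` -/
abbrev uOf (K : Subgroup G) : Subgroup G := Cfsg.omegaCenterOf (coreOf K)

theorem conj_commutator_le {A B : Subgroup G} {g : G} (hA : g ∈ normalizer (A : Set G))
    (hB : g ∈ normalizer (B : Set G)) : g ∈ normalizer ((⁅A, B⁆ : Subgroup G) : Set G) := by
  have key : ∀ g : G, g ∈ normalizer (A : Set G) → g ∈ normalizer (B : Set G) →
      ∀ y ∈ ⁅A, B⁆, g * y * g⁻¹ ∈ ⁅A, B⁆ := by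
    intro g hA hB y hy
    suffices h : ⁅A, B⁆ ≤ (⁅A, B⁆).comap (MulAut.conj g).toMonoidHom from h hy
    refine commutator_le.2 fun a ha b hb => ?_
    show g * ⁅a, b⁆ * g⁻¹ ∈ ⁅A, B⁆
    rw [show g * ⁅a, b⁆ * g⁻¹ = ⁅g * a * g⁻¹, g * b * g⁻¹⁆ by simp only [commutatorElement_def]; group]
    exact commutator_mem_commutator ((mem_normalizer_iff.1 hA a).1 ha) ((mem_normalizer_iff.1 hB b).1 hb)
  refine mem_normalizer_iff.2 fun y => ⟨key g hA hB y, fun hy => ?_⟩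
  simpa [mul_assoc] using key g⁻¹ (inv_mem hA) (inv_mem hB) _ hy

theorem commutator_le_of_le_normalizer {A B : Subgroup G} (h : B ≤ normalizer (A : Set G)) :
    ⁅A, B⁆ ≤ A := by
  refine commutator_le.2 fun a ha b hb => ?_
  rw [commutatorElement_def, show a * b * a⁻¹ * b⁻¹ = a * (b * a⁻¹ * b⁻¹) by group]
  exact mul_mem ha (conj_mem h hb (inv_mem ha))

variable [Finite G]

theorem le_normalizer_uOf (K : Subgroup G) : K ≤ normalizer (uOf K : Set G) :=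
  (le_normalizer_pCoreOf 2 K).trans (normalizer_le_normalizer_omegaCenterOf _)

theorem normalizer_le_normalizer_wOf (K : Subgroup G) :
    normalizer (K : Set G) ≤ normalizer (Cfsg.wOf K : Set G) := by
  haveI : Fact (Nat.Prime 2) := ⟨Nat.prime_two⟩
  exact fun g hg => conj_commutator_le
    (normalizer_le_normalizer_omegaCenterOf _ (normalizer_le_normalizer_pCoreOf K hg)) hg

theorem wOf_le_uOf (K : Subgroup G) : Cfsg.wOf K ≤ uOf K :=
  commutator_le_of_le_normalizer (le_normalizer_uOf K)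

theorem uOf_le_core (K : Subgroup G) : uOf K ≤ coreOf K := fun _ h => (mem_omegaCenterOf.1 h).1

theorem wOf_le_core (K : Subgroup G) : Cfsg.wOf K ≤ coreOf K :=
  (wOf_le_uOf K).trans (uOf_le_core K)

theorem core_fix {K : Subgroup G} {r u : G} (hr : r ∈ coreOf K) (hu : u ∈ uOf K) : r * u = u * r :=
  (mem_omegaCenterOf.1 hu).2.1 r hr

/-- `c` generates `K` modulo `O₂(K)`. -/
structure IsGen (K : Subgroup G) (c : G) : Prop where
  mem : c ∈ K
  cube : c ^ 3 ∈ coreOf K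
  gen : ∀ x ∈ K, ∃ i : ℕ, ∃ r ∈ coreOf K, x = c ^ i * r

theorem exists_isGen {K : Subgroup G} (h : (coreOf K).relIndex K = 3) : ∃ c, IsGen K c := by
  haveI := CfsgLib.Coprime.pCore_normal' (G := K) 2
  have hsub : (coreOf K).subgroupOf K = Cfsg.pCore 2 K :=
    comap_map_eq_self_of_injective K.subtype_injective _
  have hcard : Nat.card (K ⧸ Cfsg.pCore 2 K) = 3 := by
    rw [← index_eq_card, ← hsub]
    exact h
  haveI : Fact (Nat.Prime 3) := ⟨Nat.prime_three⟩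
  haveI := isCyclic_of_prime_card hcard
  obtain ⟨q, hq⟩ := IsCyclic.exists_monoid_generator (α := K ⧸ Cfsg.pCore 2 K)
  obtain ⟨c, rfl⟩ := QuotientGroup.mk'_surjective (Cfsg.pCore 2 K) q
  refine ⟨c, c.2, ?_, fun x hx => ?_⟩
  · have h1 : (QuotientGroup.mk' (Cfsg.pCore 2 K) c) ^ 3 = 1 := by rw [← hcard]; exact pow_card_eq_one'
    rw [← map_pow] at h1
    exact ⟨c ^ 3, (QuotientGroup.eq_one_iff _).1 h1, by simp⟩
  · obtain ⟨i, hi⟩ := Submonoid.mem_powers_iff _ _ |>.1 (hq (QuotientGroup.mk' _ (⟨x, hx⟩ : K)))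
    rw [← map_pow] at hi
    have hi' : ((c ^ i : K) : K ⧸ Cfsg.pCore 2 K) = ((⟨x, hx⟩ : K) : K ⧸ Cfsg.pCore 2 K) := hi
    refine ⟨i, ((c : G) ^ i)⁻¹ * x, ⟨(c ^ i)⁻¹ * ⟨x, hx⟩, QuotientGroup.eq.1 hi', by simp⟩, by group⟩

theorem IsGen.cube_fix {K : Subgroup G} {c : G} (hc : IsGen K c) {u : G} (hu : u ∈ uOf K) :
    c * (c * (c * u * c⁻¹) * c⁻¹) * c⁻¹ = u := by
  have h := core_fix hc.cube hu
  calc c * (c * (c * u * c⁻¹) * c⁻¹) * c⁻¹ = (c ^ 3 * u) * (c ^ 3)⁻¹ := by simp [pow_succ, mul_assoc]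
    _ = u := by rw [h, mul_inv_cancel_right]

theorem IsGen.conj_uOf {K : Subgroup G} {c : G} (hc : IsGen K c) {u : G} (hu : u ∈ uOf K) :
    c * u * c⁻¹ ∈ uOf K :=
  conj_mem (le_normalizer_uOf K) hc.mem hu

theorem IsGen.fix_comm {K : Subgroup G} {c : G} (hc : IsGen K c) {u : G} (hu : u ∈ uOf K)
    (h : c * (c * u * c⁻¹ * u⁻¹) * c⁻¹ = c * u * c⁻¹ * u⁻¹) : c * u * c⁻¹ = u := by
  have hU := omegaCenterOf_ea (coreOf K)
  have hu2 : u⁻¹ = u := inv_eq_of_mul_eq_one_right (by rw [← pow_two]; exact hU.2 u hu)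
  have ha2 : (c * u * c⁻¹) * (c * u * c⁻¹) = 1 := by rw [← pow_two]; exact hU.2 _ (hc.conj_uOf hu)
  have e : c * (c * u * c⁻¹) * c⁻¹ * (c * u * c⁻¹)⁻¹ = c * (c * u * c⁻¹ * u⁻¹) * c⁻¹ := by group
  rw [h, mul_inv_eq_iff_eq_mul] at e
  replace e : c * (c * u * c⁻¹) * c⁻¹ = u := by
    calc c * (c * u * c⁻¹) * c⁻¹ = c * u * c⁻¹ * (u⁻¹ * (c * u * c⁻¹)) := by rw [e]; group
      _ = c * u * c⁻¹ * ((c * u * c⁻¹) * u) := by
          rw [hu2, comm_of_isElementaryAbelian hU hu (hc.conj_uOf hu)]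
      _ = u := by rw [← mul_assoc, ha2, one_mul]
  have h4 := hc.cube_fix hu
  rw [e] at h4
  exact h4

theorem IsGen.wOf_form {K : Subgroup G} {c : G} (hc : IsGen K c) {w : G} (hw : w ∈ Cfsg.wOf K) :
    ∃ u ∈ uOf K, w = c * u * c⁻¹ * u⁻¹ := by
  have hU := omegaCenterOf_ea (coreOf K)
  have hcomm := fun {a b : G} (ha : a ∈ uOf K) (hb : b ∈ uOf K) => comm_of_isElementaryAbelian hU ha hb
  obtain ⟨D, hD⟩ : ∃ D : Subgroup G, ∀ z, z ∈ D ↔ ∃ u ∈ uOf K, z = c * u * c⁻¹ * u⁻¹ := by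
    refine ⟨{ carrier := {z | ∃ u ∈ uOf K, z = c * u * c⁻¹ * u⁻¹}
              one_mem' := ⟨1, one_mem _, by group⟩
              mul_mem' := ?_
              inv_mem' := ?_ }, fun z => Iff.rfl⟩
    · rintro _ _ ⟨u, hu, rfl⟩ ⟨v, hv, rfl⟩
      refine ⟨u * v, mul_mem hu hv, ?_⟩
      calc c * u * c⁻¹ * u⁻¹ * (c * v * c⁻¹ * v⁻¹) = c * u * c⁻¹ * (u⁻¹ * (c * v * c⁻¹)) * v⁻¹ := by group
        _ = c * u * c⁻¹ * ((c * v * c⁻¹) * u⁻¹) * v⁻¹ := by rw [hcomm (inv_mem hu) (hc.conj_uOf hv)]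
        _ = (c * u * c⁻¹ * (c * v * c⁻¹)) * (u⁻¹ * v⁻¹) := by group
        _ = (c * u * c⁻¹ * (c * v * c⁻¹)) * (v⁻¹ * u⁻¹) := by rw [hcomm (inv_mem hu) (inv_mem hv)]
        _ = c * (u * v) * c⁻¹ * (u * v)⁻¹ := by group
    · rintro _ ⟨u, hu, rfl⟩
      refine ⟨u⁻¹, inv_mem hu, ?_⟩
      rw [inv_inv]
      calc (c * u * c⁻¹ * u⁻¹)⁻¹ = u * (c * u * c⁻¹)⁻¹ := by group
        _ = (c * u * c⁻¹)⁻¹ * u := hcomm hu (inv_mem (hc.conj_uOf hu))
        _ = c * u⁻¹ * c⁻¹ * u := by group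
  refine (hD w).1 ?_
  suffices h : Cfsg.wOf K ≤ D from h hw
  refine commutator_le.2 fun u hu x hx => ?_
  obtain ⟨i, r, hr, rfl⟩ := hc.gen x hx
  have e : ⁅u, c ^ i * r⁆ = u * (c ^ i * u⁻¹ * (c ^ i)⁻¹) := by
    calc ⁅u, c ^ i * r⁆ = u * (c ^ i * (r * u⁻¹) * r⁻¹ * (c ^ i)⁻¹) := by
          rw [commutatorElement_def]; group
      _ = u * (c ^ i * (u⁻¹ * r) * r⁻¹ * (c ^ i)⁻¹) := by rw [core_fix hr (inv_mem hu)]
      _ = u * (c ^ i * u⁻¹ * (c ^ i)⁻¹) := by group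
  rw [e]
  clear e hx
  induction i with
  | zero => simp [one_mem]
  | succ i ih =>
    have hv : c ^ i * u⁻¹ * (c ^ i)⁻¹ ∈ uOf K :=
      conj_mem (le_normalizer_uOf K) (pow_mem hc.mem i) (inv_mem hu)
    have hstep : (c ^ i * u⁻¹ * (c ^ i)⁻¹)⁻¹ * (c * (c ^ i * u⁻¹ * (c ^ i)⁻¹) * c⁻¹) ∈ D := by
      rw [hcomm (inv_mem hv) (hc.conj_uOf hv)]
      exact (hD _).2 ⟨_, hv, rfl⟩
    have := mul_mem ih hstep
    convert this using 1
    rw [pow_succ']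
    group

theorem IsGen.wOf_eq_one {K : Subgroup G} {c : G} (hc : IsGen K c) {w : G} (hw : w ∈ Cfsg.wOf K)
    (h : c * w * c⁻¹ = w) : w = 1 := by
  obtain ⟨u, hu, rfl⟩ := hc.wOf_form hw
  rw [hc.fix_comm hu h, mul_inv_cancel]

variable {T K : Subgroup G}

theorem IsGen.mem_core (hK : Cfsg.IsJComponent T K) {c : G} (hc : IsGen K c) {x : G} (hx : x ∈ K)
    (hxW : x ∈ centralizer (Cfsg.wOf K : Set G)) : x ∈ coreOf K := by
  obtain ⟨i, r, hr, rfl⟩ := hc.gen x hx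
  refine mul_mem ?_ hr
  rw [← Nat.div_add_mod i 3, pow_add, pow_mul]
  refine mul_mem (pow_mem hc.cube _) ?_
  by_contra hne
  have hS : ∀ {y : G}, y ∈ coreOf K → y ∈ centralizer (Cfsg.wOf K : Set G) := fun hy =>
    mem_centralizer_iff.2 fun w hw => (core_fix hy (wOf_le_uOf K hw)).symm
  have hci : c ^ i ∈ centralizer (Cfsg.wOf K : Set G) := by
    have h := mul_mem hxW (inv_mem (hS hr))
    rwa [mul_inv_cancel_right] at h
  have hcm : c ^ (i % 3) ∈ centralizer (Cfsg.wOf K : Set G) := by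
    have h := mul_mem (inv_mem (hS (pow_mem hc.cube (i / 3)))) hci
    rwa [← pow_mul, ← Nat.div_add_mod i 3, pow_add, Nat.mul_add_div (by norm_num), 
      Nat.div_eq_of_lt (Nat.mod_lt i (by norm_num)), add_zero, inv_mul_cancel_left] at h
  have hcW : c ∈ centralizer (Cfsg.wOf K : Set G) := by
    have hm : i % 3 = 0 ∨ i % 3 = 1 ∨ i % 3 = 2 := by omega
    rcases hm with h | h | h
    · exact absurd (by rw [h, pow_zero]; exact one_mem _) hne
    · rwa [h, pow_one] at hcm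
    · rw [h] at hcm
      have h1 := mul_mem (hS hc.cube) (inv_mem hcm)
      rwa [pow_succ', mul_inv_cancel_right] at h1
  have h4 : Cfsg.wOf K ≠ ⊥ := fun e => by
    have h4 := hK.2.2.2.2.1
    rw [e, Subgroup.card_bot] at h4
    omega
  obtain ⟨⟨w, hw⟩, hw1⟩ := Subgroup.ne_bot_iff_exists_ne_one.1 h4
  refine hw1 (Subtype.ext (hc.wOf_eq_one hw ?_))
  rw [← mem_centralizer_iff.1 hcW w hw, mul_inv_cancel_right]

section Component

variable (hK : Cfsg.IsJComponent T K) (hT : IsPGroup 2 T)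
include hK

theorem wOf_sq : ∀ w ∈ Cfsg.wOf K, w * w = 1 := hK.2.2.2.2.2

theorem wOf_ne_bot : Cfsg.wOf K ≠ ⊥ := fun e => by
  have h4 := hK.2.2.2.2.1
  rw [e, Subgroup.card_bot] at h4
  omega

theorem j_le_normalizer : jOf T ≤ normalizer (K : Set G) := by
  have h := CfsgLib.RootSub.sup_le_normalizer_commutator K (jOf T)
  rw [hK.2.1] at h
  exact le_sup_right.trans h

theorem x_le_normalizer : K ⊔ jOf T ≤ normalizer (K : Set G) := sup_le le_normalizer (j_le_normalizer hK)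

theorem x_le_normalizer_wOf : K ⊔ jOf T ≤ normalizer (Cfsg.wOf K : Set G) :=
  (x_le_normalizer hK).trans (normalizer_le_normalizer_wOf K)

theorem j_not_centralize : ¬ jOf T ≤ centralizer (Cfsg.wOf K : Set G) := by
  intro h
  obtain ⟨c, hc⟩ := exists_isGen hK.2.2.1
  have hKC : K ≤ centralizer (Cfsg.wOf K : Set G) := by
    conv_lhs => rw [← hK.2.1]
    refine commutator_le.2 fun k hk j hj => mem_centralizer_iff.2 fun w hw => ?_
    have hkW : k ∈ normalizer (Cfsg.wOf K : Set G) := normalizer_le_normalizer_wOf K (le_normalizer hk)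
    have h1 : ∀ v ∈ Cfsg.wOf K, j⁻¹ * v * j = v := fun v hv => by
      rw [mul_assoc, mem_centralizer_iff.1 (h hj) v hv, inv_mul_cancel_left]
    have h2 : k⁻¹ * w * k ∈ Cfsg.wOf K := by simpa using conj_mem le_rfl (inv_mem hkW) hw
    refine (mul_inv_eq_iff_eq_mul.1 ?_).symm
    rw [commutatorElement_def]
    calc k * j * k⁻¹ * j⁻¹ * w * (k * j * k⁻¹ * j⁻¹)⁻¹
        = k * (j * (k⁻¹ * (j⁻¹ * w * j) * k) * j⁻¹) * k⁻¹ := by group
      _ = k * (j * (k⁻¹ * w * k) * j⁻¹) * k⁻¹ := by rw [h1 w hw]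
      _ = k * (k⁻¹ * w * k) * k⁻¹ := by
          rw [← mem_centralizer_iff.1 (h hj) _ h2, mul_inv_cancel_right]
      _ = w := by group
  obtain ⟨⟨w, hw⟩, hw1⟩ := Subgroup.ne_bot_iff_exists_ne_one.1 (wOf_ne_bot hK)
  refine hw1 (Subtype.ext (hc.wOf_eq_one hw ?_))
  rw [← mem_centralizer_iff.1 (hKC hc.mem) w hw, mul_inv_cancel_right]

include hT

theorem exists_moving : ∃ A, IsMaxEA 2 T A ∧ ∃ a ∈ A, a ∉ centralizer (Cfsg.wOf K : Set G) := by
  by_contra hno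
  push Not at hno
  exact j_not_centralize hK (jOf_le_iff.2 fun A hA a ha => hno A hA a ha)

/-- `2`-groups between `J(T)` and `K J(T)` -/
theorem cond_two {P : Subgroup G} (hP : IsPGroup 2 P) (hJP : jOf T ≤ P) (hPX : P ≤ K ⊔ jOf T) :
    (∀ A, IsMaxEA 2 T A → IsMaxEA 2 P A) ∧ jOf P = jOf T := by
  obtain ⟨S, hS, hPS⟩ := exists_sylowTwoIn hP hPX
  have hJS : jOf S = jOf T := hK.2.2.2.1 S hS (hJP.trans hPS)
  have hmaxS : ∀ A, IsMaxEA 2 T A → IsMaxEA 2 S A := by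
    intro A hA
    refine ⟨(le_jOf hA).trans (hJP.trans hPS), hA.2.1, fun B hB hBe => ?_⟩
    obtain ⟨B', hB'⟩ := exists_max S
    exact (hB'.2.2 B hB hBe).trans (hA.2.2 B' ((le_jOf hB').trans (hJS ▸ jOf_le T)) hB'.2.1)
  have hmaxP : ∀ A, IsMaxEA 2 T A → IsMaxEA 2 P A := fun A hA =>
    ⟨(le_jOf hA).trans hJP, hA.2.1, fun B hB => (hmaxS A hA).2.2 B (hB.trans hPS)⟩
  refine ⟨hmaxP, le_antisymm (jOf_le_iff.2 fun B hB => ?_) (jOf_le_iff.2 fun A hA => le_jOf (hmaxP A hA))⟩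
  obtain ⟨A, hA⟩ := exists_max T
  rw [← hJS]
  refine le_jOf ⟨hB.1.trans hPS, hB.2.1, fun D hD hDe => ?_⟩
  rw [max_card_eq hB (hmaxP A hA)]
  exact (hmaxS A hA).2.2 D hD hDe

theorem jOf_isPGroup : IsPGroup 2 (jOf T) := hT.to_le (jOf_le T)

theorem inf_centralizer_isPGroup :
    IsPGroup 2 ↥((K ⊔ jOf T) ⊓ centralizer (Cfsg.wOf K : Set G)) := by
  obtain ⟨c, hc⟩ := exists_isGen hK.2.2.1
  rintro ⟨x, hx, hxW⟩
  obtain ⟨k, hk, j, hj, rfl⟩ := CfsgLib.Coprime.mem_sup_exists (j_le_normalizer hK) hx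
  have hpow : ∀ m : ℕ, ∃ k' ∈ K, (k * j) ^ m = k' * j ^ m := by
    intro m
    induction m with
    | zero => exact ⟨1, one_mem _, by simp⟩
    | succ m ih =>
      obtain ⟨a', ha', he⟩ := ih
      refine ⟨a' * (j ^ m * k * (j ^ m)⁻¹), mul_mem ha' (conj_mem (j_le_normalizer hK) (pow_mem hj m) hk), ?_⟩
      rw [pow_succ, he, pow_succ]; group
  obtain ⟨n, hn⟩ := jOf_isPGroup hK hT ⟨j, hj⟩
  obtain ⟨k', hk', he⟩ := hpow (2 ^ n)
  rw [show j ^ 2 ^ n = 1 from congrArg Subtype.val hn, mul_one] at he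
  have hR := IsGen.mem_core hK hc hk' (he ▸ pow_mem hxW _)
  haveI : Fact (Nat.Prime 2) := ⟨Nat.prime_two⟩
  obtain ⟨m, hm⟩ := isPGroup_pCoreOf 2 K ⟨k', hR⟩
  refine ⟨n + m, Subtype.ext ?_⟩
  show (k * j) ^ 2 ^ (n + m) = 1
  rw [pow_add, pow_mul, he]
  exact congrArg Subtype.val hm

/-- The facts around one largest elementary abelian subgroup moving `W`. -/
theorem moving_facts {A : Subgroup G} (hA : IsMaxEA 2 T A) {a : G} (ha : a ∈ A)
    (haW : a ∉ centralizer (Cfsg.wOf K : Set G)) :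
    (A ⊓ centralizer (Cfsg.wOf K : Set G)).relIndex A = 2 ∧
      Nat.card ↥(Cfsg.wOf K ⊓ centralizer (A : Set G)) = 2 ∧
      IsMaxEA 2 T ((A ⊓ centralizer (Cfsg.wOf K : Set G)) ⊔ Cfsg.wOf K) := by
  have hAJ : A ≤ jOf T := le_jOf hA
  have hAX : A ≤ K ⊔ jOf T := hAJ.trans le_sup_right
  have hAn : A ≤ normalizer (Cfsg.wOf K : Set G) := hAX.trans (x_le_normalizer_wOf hK)
  have hAp : IsPGroup 2 A := hT.to_le hA.1
  have hc4 : Nat.card (Cfsg.wOf K) = 4 := hK.2.2.2.2.1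
  obtain ⟨B, hB⟩ : ∃ B, B = A ⊓ centralizer (Cfsg.wOf K : Set G) := ⟨_, rfl⟩
  rw [← hB]
  have hidx : B.relIndex A = 2 := by
    rw [relIndex, index_eq_two_iff]
    refine ⟨⟨a, ha⟩, fun b => ?_⟩
    simp only [mem_subgroupOf, Subgroup.coe_mul, hB, mem_inf, SetLike.coe_mem, true_and]
    by_cases hb : (b : G) ∈ centralizer (Cfsg.wOf K : Set G)
    · refine Or.inr ⟨hb, fun h => haW ?_⟩
      exact (Subgroup.mul_mem_cancel_left _ hb).1 h.2
    · exact Or.inl ⟨⟨mul_mem b.2 ha, mul_fixes_four hAp hAn hc4 (wOf_sq hK) b.2 ha hb haW⟩, fun h => hb h⟩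
  have hWA : Nat.card ↥(Cfsg.wOf K ⊓ centralizer (A : Set G)) = 2 := by
    obtain ⟨w, hw, hw1, hwfix⟩ := exists_fixed hAp hAn (isPGroup_four (wOf_sq hK)) (wOf_ne_bot hK)
    refine le_antisymm ?_ ?_
    · have hd : Nat.card ↥(Cfsg.wOf K ⊓ centralizer (A : Set G)) ∣ 4 :=
        hc4 ▸ card_dvd_of_le inf_le_left
      have hlt : Nat.card ↥(Cfsg.wOf K ⊓ centralizer (A : Set G)) ≠ 4 := fun h => haW
        (mem_centralizer_iff.2 fun v hv => by
          have he : Cfsg.wOf K ⊓ centralizer (A : Set G) = Cfsg.wOf K :=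
            eq_of_le_of_card_ge inf_le_left (by rw [h, hc4])
          exact (mem_centralizer_iff.1 ((he.symm ▸ hv : v ∈ Cfsg.wOf K ⊓ centralizer (A : Set G))).2 a ha).symm)
      have := Nat.le_of_dvd (by norm_num) hd
      interval_cases Nat.card ↥(Cfsg.wOf K ⊓ centralizer (A : Set G)) <;> omega
    · haveI : Nontrivial ↥(Cfsg.wOf K ⊓ centralizer (A : Set G)) :=
        ⟨⟨⟨w, hw, mem_centralizer_iff.2 hwfix⟩, 1, fun h => hw1 (congrArg Subtype.val h)⟩⟩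
      exact Finite.one_lt_card
  refine ⟨hidx, hWA, ?_⟩
  have hBA : B ≤ A := hB ▸ inf_le_left
  have hBW : B ≤ centralizer (Cfsg.wOf K : Set G) := hB ▸ inf_le_right
  have hWe : Cfsg.IsElementaryAbelian 2 (Cfsg.wOf K) :=
    ⟨⟨⟨fun x y => Subtype.ext (comm_of_isElementaryAbelian (omegaCenterOf_ea _) (wOf_le_uOf K x.2)
      (wOf_le_uOf K y.2))⟩⟩, fun w hw => by rw [pow_two]; exact wOf_sq hK w hw⟩
  have hBe : Cfsg.IsElementaryAbelian 2 B := ⟨⟨⟨fun x y => Subtype.ext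
    (comm_of_isElementaryAbelian hA.2.1 (hBA x.2) (hBA y.2))⟩⟩, fun x hx => hA.2.1.2 x (hBA hx)⟩
  have hE := CfsgLib.EABasic.isElementaryAbelian_sup hBe hWe
    fun b hb w hw => (mem_centralizer_iff.1 (hBW hb) w hw).symm
  obtain ⟨P, hP⟩ : ∃ P, P = Cfsg.wOf K ⊔ jOf T := ⟨_, rfl⟩
  have hPX : P ≤ K ⊔ jOf T :=
    hP ▸ sup_le ((wOf_le_core K).trans (pCoreOf_le 2 K) |>.trans le_sup_left) le_sup_right
  have hPp : IsPGroup 2 P := hP ▸ (IsPGroup.to_sup_of_normal_left' (isPGroup_four (wOf_sq hK))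
    (jOf_isPGroup hK hT) ((le_sup_right).trans (x_le_normalizer_wOf hK)))
  obtain ⟨hmax, hJP⟩ := cond_two hK hT hPp (hP ▸ le_sup_right) hPX
  have hcard : Nat.card A ≤ Nat.card ↥(B ⊔ Cfsg.wOf K) := by
    have h1 := CfsgLib.EABasic.card_sup_mul_card_inf_of_le_normalizer (H := B) (N := Cfsg.wOf K)
      (hBA.trans hAn)
    have h2 : Nat.card ↥(B ⊓ Cfsg.wOf K) ≤ 2 := hWA ▸ card_le_of_le (fun x hx =>
      ⟨hx.2, mem_centralizer_iff.2 fun y hy => comm_of_isElementaryAbelian hA.2.1 hy (hBA hx.1)⟩)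
    have h3 := relIndex_mul_relIndex ⊥ B A bot_le hBA
    rw [relIndex_bot_left, relIndex_bot_left, hidx] at h3
    rw [hc4] at h1
    have h4 := Nat.mul_le_mul_left (Nat.card ↥(B ⊔ Cfsg.wOf K)) h2
    omega
  have hle : B ⊔ Cfsg.wOf K ≤ P :=
    hP ▸ sup_le ((hBA.trans hAJ).trans le_sup_right) le_sup_left
  have hmaxE : IsMaxEA 2 P (B ⊔ Cfsg.wOf K) :=
    ⟨hle, hE, fun D hD hDe => ((hmax A hA).2.2 D hD hDe).trans hcard⟩
  exact ⟨(le_jOf hmaxE).trans (hJP.le.trans (jOf_le T)), hE, fun D hD hDe =>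
    (hA.2.2 D hD hDe).trans hcard⟩

theorem wOf_le_jOf : Cfsg.wOf K ≤ jOf T := by
  obtain ⟨A, hA, a, ha, haW⟩ := exists_moving hK hT
  exact le_sup_right.trans (le_jOf (moving_facts hK hT hA ha haW).2.2)

end Component

end CfsgLib.JComp
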