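import Cfsg.Agent.Lib.Fusion.FFPair.Holomorph

/-!
# The odd part of a group generated by best offenders for the prime two
-/

set_option autoImplicit false
set_option linter.style.haveILetI false
set_option linter.unusedSectionVars false

open Subgroup
open scoped commutatorElement

namespace CfsgLib.JCompFactor

open CfsgLib.FFPair

universe u

variable {Γ : Type u} [Group Γ] [Finite Γ] {V H K : Subgroup Γ}

instance factTwo : Fact (Nat.Prime 2) := ⟨Nat.prime_two⟩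

/-- the product of the `⁅K, B⁆` -/
def oddPart (V H K : Subgroup Γ) : Subgroup Γ :=
  ⨆ B : {B : Subgroup Γ // IsT 2 V H B}, ⁅K, (B : Subgroup Γ)⁆

theorem le_oddPart {B : Subgroup Γ} (hB : IsT 2 V H B) : ⁅K, B⁆ ≤ oddPart V H K :=
  le_iSup (fun B : {B : Subgroup Γ // IsT 2 V H B} => ⁅K, (B : Subgroup Γ)⁆) ⟨B, hB⟩

section

variable (X : Ctx 2 V H K) (hgen : H = ⨆ B : {B : Subgroup Γ // IsT 2 V H B}, (B : Subgroup Γ))
include X

theorem oddPart_le : oddPart V H K ≤ K := iSup_le fun B => X.comm_K_le B.2.le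

theorem card_comm {B : Subgroup Γ} (hB : IsT 2 V H B) : Nat.card (⁅K, B⁆ : Subgroup Γ) = 3 := by
  rw [X.card_commK hB]

include hgen

theorem H_le_normalizer_comm {B : Subgroup Γ} (hB : IsT 2 V H B) :
    H ≤ normalizer ((⁅K, B⁆ : Subgroup Γ) : Set Γ) := by
  rw [← X.factor_inf_K hB]
  intro h hh
  have h1 := X.H_le_normalizer hgen hB hh
  have h2 := X.HK hh
  exact mem_normalizer_iff.2 fun y => by
    simp only [mem_inf]
    rw [(mem_normalizer_iff.1 h1 y), (mem_normalizer_iff.1 h2 y)]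

theorem H_le_normalizer_oddPart : H ≤ normalizer (oddPart V H K : Set Γ) := by
  intro h hh
  refine CfsgLib.Fusion.conjBy_eq_iff.1 (CfsgLib.Fusion.conjBy_eq_of_le ?_)
  rw [CfsgLib.Fusion.conjBy, oddPart, Subgroup.map_iSup]
  exact iSup_mono fun B =>
    (CfsgLib.Fusion.conjBy_eq_iff.2 (H_le_normalizer_comm X hgen B.2 hh)).le

theorem oddPart_comm : oddPart V H K ≤ centralizer (oddPart V H K : Set Γ) := by
  refine iSup_le fun B => ?_
  rw [le_centralizer_iff]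
  refine iSup_le fun B' => ?_
  haveI : Fact (Nat.Prime 3) := ⟨Nat.prime_three⟩
  have hB := card_comm X B.2
  have hB' := card_comm X B'.2
  have hle : ∀ {B : Subgroup Γ}, IsT 2 V H B → ⁅K, B⁆ ≤ H := fun hT =>
    (X.comm_K_le hT.le).trans X.KH
  intro y hy
  refine mem_centralizer_iff.2 fun x hx => ?_
  by_cases he : ⁅K, (B : Subgroup Γ)⁆ = ⁅K, (B' : Subgroup Γ)⁆
  · haveI := isCyclic_of_prime_card hB
    exact congrArg Subtype.val (IsCyclic.commGroup.mul_comm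
      (⟨x, hx⟩ : (⁅K, (B : Subgroup Γ)⁆ : Subgroup Γ)) ⟨y, he.symm ▸ hy⟩)
  · have h1 : x * y * x⁻¹ * y⁻¹ ∈ ⁅K, (B : Subgroup Γ)⁆ ⊓ ⁅K, (B' : Subgroup Γ)⁆ := by
      refine ⟨?_, ?_⟩
      · rw [show x * y * x⁻¹ * y⁻¹ = x * (y * x⁻¹ * y⁻¹) by group]
        exact Subgroup.mul_mem _ hx ((mem_normalizer_iff.1 (H_le_normalizer_comm X hgen B.2 (hle B'.2 hy)) _).1
          (Subgroup.inv_mem _ hx))
      · exact Subgroup.mul_mem _ ((mem_normalizer_iff.1 (H_le_normalizer_comm X hgen B'.2 (hle B.2 hx)) _).1 hy)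
          (Subgroup.inv_mem _ hy)
    have hbot : ⁅K, (B : Subgroup Γ)⁆ ⊓ ⁅K, (B' : Subgroup Γ)⁆ = ⊥ := by
      refine eq_bot_iff.2 fun z hz => ?_
      by_contra hz1
      exact he (((eq_zpowers_of_card hB hz.1 hz1)).trans (eq_zpowers_of_card hB' hz.2 hz1).symm)
    rw [hbot, mem_bot, mul_inv_eq_one, mul_inv_eq_iff_eq_mul] at h1
    exact h1

theorem oddPart_cube {x : Γ} (hx : x ∈ oddPart V H K) : x ^ 3 = 1 := by
  suffices h : x ∈ oddPart V H K ∧ x ^ 3 = 1 from h.2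
  refine Subgroup.iSup_induction (fun B : {B : Subgroup Γ // IsT 2 V H B} => ⁅K, (B : Subgroup Γ)⁆)
    (C := fun x => x ∈ oddPart V H K ∧ x ^ 3 = 1) hx (fun B y hy => ?_) ⟨one_mem _, one_pow 3⟩
    (fun a b ha hb => ⟨mul_mem ha.1 hb.1, ?_⟩)
  · refine ⟨le_oddPart B.2 hy, ?_⟩
    have h := pow_card_eq_one' (x := (⟨y, hy⟩ : (⁅K, (B : Subgroup Γ)⁆ : Subgroup Γ)))
    rw [card_comm X B.2] at h
    exact congrArg Subtype.val h
  · rw [Commute.mul_pow (mem_centralizer_iff.1 (oddPart_comm X hgen hb.1) a ha.1), ha.2, hb.2, one_mul]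

theorem comm_mem_gen {B B' : Subgroup Γ} (hB : IsT 2 V H B) (hB' : IsT 2 V H B') {b b' : Γ}
    (hb : b ∈ B) (hb' : b' ∈ B') : b * b' * b⁻¹ * b'⁻¹ ∈ oddPart V H K := by
  rcases X.dichotomy hB hB' with h | ⟨-, h, -⟩
  · obtain ⟨z, hz, α, hα, rfl⟩ := CfsgLib.Coprime.mem_sup_exists X.le_normalizer_commK
      (show b' ∈ ⁅K, B⁆ ⊔ B from h hb')
    refine le_oddPart hB ?_
    have hc : b * α = α * b := congrArg Subtype.val ((Ctx.IsT.ea (X := X) hB).1.is_comm.comm (⟨b, hb⟩ : B) ⟨α, hα⟩)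
    rw [show b * (z * α) * b⁻¹ * (z * α)⁻¹ = (b * z * b⁻¹) * ((b * α) * b⁻¹ * α⁻¹) * z⁻¹ by group,
      hc, mul_inv_cancel_right, mul_inv_cancel, mul_one]
    exact mul_mem ((mem_normalizer_iff.1 (X.le_normalizer_commK hb) z).1 hz) (inv_mem hz)
  · rw [mem_centralizer_iff.1 (h hb') b (mem_sup_right hb), mul_inv_cancel_right, mul_inv_cancel]
    exact one_mem _

theorem comm_mem {x y : Γ} (hx : x ∈ H) (hy : y ∈ H) : x * y * x⁻¹ * y⁻¹ ∈ oddPart V H K := by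
  have hn := H_le_normalizer_oddPart X hgen
  -- first for `x` in a generator
  have h1 : ∀ {B : Subgroup Γ}, IsT 2 V H B → ∀ b ∈ B, ∀ y ∈ H,
      b * y * b⁻¹ * y⁻¹ ∈ oddPart V H K := by
    intro B hB b hb y hy
    rw [hgen] at hy
    suffices h : y ∈ H ∧ b * y * b⁻¹ * y⁻¹ ∈ oddPart V H K from h.2
    refine (Subgroup.iSup_induction (fun B : {B : Subgroup Γ // IsT 2 V H B} => (B : Subgroup Γ))
      (C := fun y => y ∈ H ∧ b * y * b⁻¹ * y⁻¹ ∈ oddPart V H K) hy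
      (fun B' y hy => ⟨B'.2.le hy, comm_mem_gen X hgen hB B'.2 hb hy⟩) ⟨one_mem _, by simp [one_mem]⟩
      (fun u v hu hv => ⟨mul_mem hu.1 hv.1, ?_⟩))
    rw [show b * (u * v) * b⁻¹ * (u * v)⁻¹ = (b * u * b⁻¹ * u⁻¹) * (u * (b * v * b⁻¹ * v⁻¹) * u⁻¹) by group]
    exact mul_mem hu.2 ((mem_normalizer_iff.1 (hn hu.1) _).1 hv.2)
  rw [hgen] at hx
  suffices h : x ∈ H ∧ ∀ y ∈ H, x * y * x⁻¹ * y⁻¹ ∈ oddPart V H K from h.2 y hy
  refine (Subgroup.iSup_induction (fun B : {B : Subgroup Γ // IsT 2 V H B} => (B : Subgroup Γ))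
    (C := fun x => x ∈ H ∧ ∀ y ∈ H, x * y * x⁻¹ * y⁻¹ ∈ oddPart V H K) hx
    (fun B x hx => ⟨B.2.le hx, h1 B.2 x hx⟩) ⟨one_mem _, fun y _ => by simp [one_mem]⟩
    (fun u v hu hv => ⟨mul_mem hu.1 hv.1, fun y hy => ?_⟩))
  rw [show u * v * y * (u * v)⁻¹ * y⁻¹ = (u * (v * y * v⁻¹ * y⁻¹) * u⁻¹) * (u * y * u⁻¹ * y⁻¹) by group]
  exact mul_mem ((mem_normalizer_iff.1 (hn hu.1) _).1 (hv.2 y hy)) (hu.2 y hy)

omit hgen

theorem not_centralize {B : Subgroup Γ} (hB : IsT 2 V H B) {z b : Γ} (hz : z ∈ ⁅K, B⁆) (hz1 : z ≠ 1)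
    (hb : b ∈ B) (hb1 : b ≠ 1) : b * z ≠ z * b := by
  intro hbz
  have hBz : B ≤ centralizer ({z} : Set Γ) := by
    rw [eq_zpowers_of_card hB.card hb hb1, zpowers_le, mem_centralizer_singleton_iff]
    exact hbz
  have hall : ⁅K, B⁆ ≤ centralizer (B : Set Γ) := by
    haveI : Fact (Nat.Prime 3) := ⟨Nat.prime_three⟩
    rw [eq_zpowers_of_card (card_comm X hB) hz hz1, zpowers_le]
    exact mem_centralizer_iff.2 fun y hy => mem_centralizer_singleton_iff.1 (hBz hy)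
  obtain ⟨k, hk, hkB⟩ := X.exists_moved hB
  refine hkB (mem_centralizer_iff.2 fun y hy => ?_)
  have hc : k * y * k⁻¹ * y⁻¹ ∈ ⁅K, B⁆ := commutator_mem_commutator hk hy
  have hy2 : y * y = 1 := by rw [← pow_two]; exact (Ctx.IsT.ea (X := X) hB).2 y hy
  have hcy : y * (k * y * k⁻¹ * y⁻¹) = (k * y * k⁻¹ * y⁻¹) * y := mem_centralizer_iff.1 (hall hc) y hy
  have h2 : (k * y * k⁻¹ * y⁻¹) ^ 2 = 1 := by
    calc (k * y * k⁻¹ * y⁻¹) ^ 2 = (k * y * k⁻¹ * y⁻¹) * ((k * y * k⁻¹ * y⁻¹) * y) * y⁻¹ := by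
          rw [pow_two]; group
      _ = (k * y * k⁻¹ * y⁻¹) * (y * (k * y * k⁻¹ * y⁻¹)) * y⁻¹ := by rw [hcy]
      _ = k * (y * y) * k⁻¹ * (y * y)⁻¹ := by group
      _ = 1 := by rw [hy2]; group
  have h3 : (k * y * k⁻¹ * y⁻¹) ^ 3 = 1 := by
    have h := pow_card_eq_one' (x := (⟨_, hc⟩ : (⁅K, B⁆ : Subgroup Γ)))
    rw [card_comm X hB] at h
    exact congrArg Subtype.val h
  have h1 : k * y * k⁻¹ * y⁻¹ = 1 := by
    rw [pow_succ, h2, one_mul] at h3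
    exact h3
  rw [mul_inv_eq_one, mul_inv_eq_iff_eq_mul] at h1
  exact h1.symm

theorem fpf {B : Subgroup Γ} (hB : IsT 2 V H B) {z w : Γ} (hz : z ∈ ⁅K, B⁆) (hz1 : z ≠ 1)
    (hw : w ∈ ⁅V, factor K B⁆) (h : z * w = w * z) : w = 1 := by
  haveI : Fact (Nat.Prime 3) := ⟨Nat.prime_three⟩
  have hwc : w ∈ ⁅V, factor K B⁆ ⊓ centralizer ((⁅K, B⁆ : Subgroup Γ) : Set Γ) := by
    refine ⟨hw, mem_centralizer_iff.2 fun y hy => ?_⟩
    rw [eq_zpowers_of_card (card_comm X hB) hz hz1] at hy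
    exact mem_centralizer_singleton_iff.1
      ((zpowers_le.2 (mem_centralizer_singleton_iff.2 h) : zpowers z ≤ centralizer ({w} : Set Γ)) hy)
  have hKn : K ≤ normalizer ((⁅V, factor K B⁆ ⊓ centralizer ((⁅K, B⁆ : Subgroup Γ) : Set Γ) :
      Subgroup Γ) : Set Γ) := by
    intro k hk
    have h1 := (X.normalizer_module (X.KH hk) (X.K_le_normalizer hB hk)).1
    have h2 : k ∈ normalizer ((⁅K, B⁆ : Subgroup Γ) : Set Γ) := normalizer_commutator_ge_left K B hk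
    exact CfsgLib.Coprime.inf_le_normalizer
      (A := normalizer ((⁅V, factor K B⁆ : Subgroup Γ) : Set Γ) ⊓
        normalizer ((⁅K, B⁆ : Subgroup Γ) : Set Γ))
      inf_le_left (inf_le_right.trans (CfsgLib.Coprime.normalizer_le_normalizer_centralizer _)) ⟨h1, h2⟩
  rcases X.irreducible hB inf_le_left hKn with h0 | h0
  · exact mem_bot.1 (h0 ▸ hwc)
  · refine absurd (mem_bot.1 ((X.module_faith hB).le ⟨mem_sup_left hz, mem_centralizer_iff.2 fun v hv => ?_⟩)) hz1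
    have hv' : v ∈ centralizer ((⁅K, B⁆ : Subgroup Γ) : Set Γ) :=
      (inf_le_right : ⁅V, factor K B⁆ ⊓ _ ≤ _) (h0.symm ▸ hv)
    exact (mem_centralizer_iff.1 hv' z hz).symm

include hgen

theorem commute_of_fix {B : Subgroup Γ} (hB : IsT 2 V H B) {k b : Γ} (hk : k ∈ oddPart V H K)
    (hfix : k ∈ centralizer ((⁅V, factor K B⁆ : Subgroup Γ) : Set Γ)) (hb : b ∈ B) : b * k = k * b := by
  have hkK : k ∈ K := oddPart_le X hk
  have hkH : k ∈ H := X.KH hkK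
  have hmem : k * b * k⁻¹ * b⁻¹ ∈ factor K B :=
    mem_sup_left (commutator_mem_commutator hkK hb)
  have hbW := (X.normalizer_module (hB.le hb) (le_normalizer (mem_sup_right hb : b ∈ factor K B))).1
  have hc : k * b * k⁻¹ * b⁻¹ ∈ centralizer ((⁅V, factor K B⁆ : Subgroup Γ) : Set Γ) := by
    rw [show k * b * k⁻¹ * b⁻¹ = k * (b * k⁻¹ * b⁻¹) by group]
    exact mul_mem hfix ((mem_normalizer_iff.1
      (CfsgLib.Coprime.normalizer_le_normalizer_centralizer _ hbW) _).1 (inv_mem hfix))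
  have h1 := mem_bot.1 ((X.module_faith hB).le ⟨hmem, hc⟩)
  rw [mul_inv_eq_one, mul_inv_eq_iff_eq_mul] at h1
  exact h1.symm

end

end CfsgLib.JCompFactor
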