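import Cfsg.Agent.Lib.JComp.Local
import Cfsg.Agent.Lib.JComp.Factors
import Cfsg.Agent.Lib.Fusion.FFPair.Thompson
import Cfsg.Agent.Lib.PGroup.MaxPNilpotent

/-!
# The structure of a member of the family attached to a `2`-subgroup
-/

set_option autoImplicit false
set_option linter.style.haveILetI false
set_option linter.unusedSectionVars false

open Subgroup
open scoped commutatorElement

namespace CfsgLib.JComp

open CfsgLib.Fusion (IsMaxEA conjBy)

universe u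

variable {G : Type u} [Group G]

/-- What the failure of factorization says about `L`, phrased inside `G`. -/
structure Data (T L : Subgroup G) where
  M : Subgroup G
  P : Subgroup G
  ι : Type u
  e : ι → G
  b : ι → G
  W : ι → Subgroup G
  M_le : M ≤ L
  M_normal : L ≤ normalizer (M : Set G)
  J_le : jOf T ≤ M
  M_gen : ∀ N : Subgroup G, (∀ g ∈ L, conjBy g (jOf T) ≤ N) → M ≤ N
  P_le : P ≤ L
  C_le : cOf L ≤ P
  M_norm_P : M ≤ normalizer (P : Set G)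
  comm_M : ∀ x ∈ M, ∀ y ∈ M, x * y * x⁻¹ * y⁻¹ ∈ P
  comm_P : ∀ x ∈ P, ∀ y ∈ P, x * y * x⁻¹ * y⁻¹ ∈ cOf L
  cube : ∀ x ∈ P, x ^ 3 ∈ cOf L
  e_mem : ∀ i, e i ∈ P ∧ e i ∈ M
  b_mem : ∀ i, b i ∈ M
  b_two : ∀ i, ∃ m : ℕ, b i ^ 2 ^ m = 1
  b_inv : ∀ i, b i * e i * (b i)⁻¹ * e i ∈ cOf L
  e_not : ∀ i, e i ∉ cOf L
  W_le : ∀ i, W i ≤ uOf L
  W_card : ∀ i, Nat.card (W i) = 4
  e_move : ∀ i, ∀ u ∈ uOf L, e i * u * (e i)⁻¹ * u⁻¹ ∈ W i
  e_fpf : ∀ i, ∀ w ∈ W i, e i * w * (e i)⁻¹ = w → w = 1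
  e_line : ∀ i, ∀ x ∈ M, x * e i * x⁻¹ ∈ zpowers (e i) ⊔ cOf L
  b_comm : ∀ i, ∀ k ∈ P, k ∈ centralizer (W i : Set G) → b i * k * (b i)⁻¹ * k⁻¹ ∈ cOf L
  P_gen : P ≤ cOf L ⊔ closure (Set.range e)
  nonempty : Nonempty ι

variable [Finite G]

theorem exists_data (hN : ∀ N : Subgroup G, Cfsg.IsTwoLocal N → Group.IsSolvable ↥N) (hZ : ZHyp G)
    {T L : Subgroup G} (hT1 : T ≠ ⊥) (hLT : L ∈ Cfsg.jOvergroups T) : Nonempty (Data T L) := by
  classical
  haveI : Fact (Nat.Prime 2) := ⟨Nat.prime_two⟩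
  have hsol := isSolvable_local hN hT1 hLT
  have hsep : Cfsg.IsPSolvable 2 ↥L :=
    CfsgLib.PGroup.MaxPNilpotent.isPSolvable_of_solvable Nat.prime_two _ ↥L rfl hsol
  obtain ⟨hTL, hT2, hodd⟩ := hLT.1
  have hUL : uOf L ≤ L := (uOf_le_core L).trans (pCoreOf_le 2 L)
  obtain ⟨V, hVdef⟩ : ∃ V : Subgroup ↥L, V = (uOf L).subgroupOf L := ⟨_, rfl⟩
  haveI hVn : V.Normal := hVdef ▸ (normal_subgroupOf_iff_le_normalizer hUL).2 (le_normalizer_uOf L)
  have hVmem : ∀ x : ↥L, x ∈ V ↔ (x : G) ∈ uOf L := fun x => by rw [hVdef]; rfl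
  have hV : Cfsg.IsElementaryAbelian 2 V := by
    refine ⟨⟨⟨fun a b => Subtype.ext (Subtype.ext ?_)⟩⟩, fun a ha => Subtype.ext ?_⟩
    · exact CfsgLib.EABasic.comm_of_isElementaryAbelian (omegaCenterOf_ea _) ((hVmem _).1 a.2) ((hVmem _).1 b.2)
    · exact (omegaCenterOf_ea (coreOf L)).2 _ ((hVmem _).1 ha)
  have hker : ∀ x : ↥L, CfsgLib.FFPair.nemb V x = 1 ↔ (x : G) ∈ cOf L := by
    intro x
    rw [← MonoidHom.mem_ker, CfsgLib.FFPair.nemb_ker, mem_centralizer_iff]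
    refine ⟨fun h => ⟨x.2, mem_centralizer_iff.2 fun u hu =>
      congrArg Subtype.val (h ⟨u, hUL hu⟩ ((hVmem _).2 hu))⟩,
      fun h v hv => Subtype.ext (mem_centralizer_iff.1 (mem_inf.1 h).2 _ ((hVmem _).1 hv))⟩
  have hO : Cfsg.pCore 2 (↥L ⧸ centralizer (V : Set ↥L)) = ⊥ := by
    haveI : (centralizer (V : Set ↥L)).Normal := normal_centralizer
    haveI := CfsgLib.Coprime.pCore_normal' (G := ↥L ⧸ centralizer (V : Set ↥L)) 2
    obtain ⟨D, hD⟩ : ∃ D, D = (Cfsg.pCore 2 (↥L ⧸ centralizer (V : Set ↥L))).comap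
        (QuotientGroup.mk' (centralizer (V : Set ↥L))) := ⟨_, rfl⟩
    haveI : D.Normal := hD ▸ Normal.comap inferInstance _
    have hmap : (centralizer (V : Set ↥L)).map L.subtype = cOf L := by
      ext x
      constructor
      · rintro ⟨y, hy, rfl⟩
        rw [← CfsgLib.FFPair.nemb_ker] at hy
        exact (hker y).1 hy
      · intro hx
        refine ⟨⟨x, cOf_le L hx⟩, ?_, rfl⟩
        rw [← CfsgLib.FFPair.nemb_ker]
        exact (hker _).2 hx
    obtain ⟨k, hk⟩ := (CfsgLib.Coprime.pCore_isPGroup (G := ↥L ⧸ centralizer (V : Set ↥L)) 2).exists_card_eq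
    have hrel : (centralizer (V : Set ↥L)).relIndex D = 2 ^ k := by
      have h := relIndex_comap (f := QuotientGroup.mk' (centralizer (V : Set ↥L))) ⊥ D
      rw [MonoidHom.comap_bot, QuotientGroup.ker_mk', relIndex_bot_left, hD,
        map_comap_eq_self_of_surjective (QuotientGroup.mk'_surjective _)] at h
      rw [hD, h, hk]
    have hle : centralizer (V : Set ↥L) ≤ D := fun c hc => by
      rw [hD, mem_comap, QuotientGroup.mk'_apply, (QuotientGroup.eq_one_iff c).2 hc]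
      exact one_mem _
    have hDeq : D.map L.subtype = cOf L := by
      refine eq_cOf_of_two_power hZ hLT (map_subtype_le D) (hmap ▸ map_mono hle) ?_ (k := k)
        (by rw [← hmap, relIndex_map_map_of_injective _ _ L.subtype_injective, hrel])
      refine le_normalizer_of_conj fun g hg x hx => ?_
      obtain ⟨y, hy, rfl⟩ := hx
      exact ⟨⟨g, hg⟩ * y * ⟨g, hg⟩⁻¹, Normal.conj_mem inferInstance y hy _, rfl⟩
    have hDC : D = centralizer (V : Set ↥L) :=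
      map_injective L.subtype_injective (hDeq.trans hmap.symm)
    rw [← map_comap_eq_self_of_surjective (QuotientGroup.mk'_surjective (centralizer (V : Set ↥L)))
      (Cfsg.pCore 2 (↥L ⧸ centralizer (V : Set ↥L))), ← hD, hDC, QuotientGroup.map_mk'_self]
  -- the normal subgroup
  obtain ⟨N, hNdef⟩ : ∃ N : Subgroup ↥L, N = Cfsg.thompsonSubgroup 2 ↥L := ⟨_, rfl⟩
  haveI : N.Normal := hNdef ▸ CfsgLib.FFPair.thompsonSubgroup_normal_inst
  obtain ⟨H, hH⟩ : ∃ H, H = N.map (CfsgLib.FFPair.nemb V) := ⟨_, rfl⟩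
  obtain ⟨K, hK⟩ : ∃ K, K = (Cfsg.pPrimeCore 2 ↥H).map H.subtype := ⟨_, rfl⟩
  have X : CfsgLib.FFPair.Ctx 2 (CfsgLib.FFPair.holV ↥V) H K := by
    subst hK; subst hH
    exact CfsgLib.FFPair.ctx_nemb hV hsep hO N
  have hgen : H = ⨆ B : {B : Subgroup (CfsgLib.FFPair.Hol ↥V) //
      CfsgLib.FFPair.IsT 2 (CfsgLib.FFPair.holV ↥V) H B}, (B : Subgroup _) := by
    refine X.iSup_isT (le_antisymm ?_ (iSup_le fun A : {A : Subgroup (CfsgLib.FFPair.Hol ↥V) // A ≤ H ∧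
      Cfsg.IsBestOffenderOn 2 (CfsgLib.FFPair.holV ↥V) A} => A.2.1))
    conv_lhs => rw [hH, hNdef]
    show (sSup (Cfsg.maxElementaryAbelianSubgroups 2 ↥L)).map _ ≤ _
    rw [map_le_iff_le_comap]
    refine sSup_le fun A hA => map_le_iff_le_comap.1 ?_
    exact le_iSup (fun A : {A : Subgroup (CfsgLib.FFPair.Hol ↥V) // A ≤ H ∧
      Cfsg.IsBestOffenderOn 2 (CfsgLib.FFPair.holV ↥V) A} => (A : Subgroup (CfsgLib.FFPair.Hol ↥V)))
      ⟨A.map (CfsgLib.FFPair.nemb V), hH ▸ hNdef ▸ map_mono (le_sSup hA),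
        CfsgLib.FFPair.maxEA_offender hV hA⟩
  -- translations
  have hlift : ∀ z ∈ H, ∃ x : ↥L, x ∈ N ∧ CfsgLib.FFPair.nemb V x = z := fun z hz => by
    rw [hH] at hz
    obtain ⟨x, hx, rfl⟩ := hz
    exact ⟨x, hx, rfl⟩
  have hNmem : ∀ x : ↥L, (x : G) ∈ N.map L.subtype ↔ x ∈ N := fun x =>
    mem_map_iff_mem L.subtype_injective
  obtain ⟨P, hP⟩ : ∃ P : Subgroup G, P = ((JCompFactor.oddPart (CfsgLib.FFPair.holV ↥V) H K).comap
      (CfsgLib.FFPair.nemb V)).map L.subtype := ⟨_, rfl⟩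
  have hPmem : ∀ x : ↥L, (x : G) ∈ P ↔
      CfsgLib.FFPair.nemb V x ∈ JCompFactor.oddPart (CfsgLib.FFPair.holV ↥V) H K := fun x => by
    rw [hP]; exact mem_map_iff_mem L.subtype_injective
  have hPL : P ≤ L := hP ▸ map_subtype_le _
  have hML : N.map L.subtype ≤ L := map_subtype_le N
  have hPH : JCompFactor.oddPart (CfsgLib.FFPair.holV ↥V) H K ≤ H :=
    (JCompFactor.oddPart_le X).trans X.KH
  -- the data of each factor
  have hfac : ∀ B : {B : Subgroup (CfsgLib.FFPair.Hol ↥V) //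
      CfsgLib.FFPair.IsT 2 (CfsgLib.FFPair.holV ↥V) H B}, ∃ x y : ↥L, x ∈ N ∧ y ∈ N ∧
      CfsgLib.FFPair.nemb V x ∈ ⁅K, (B : Subgroup _)⁆ ∧ CfsgLib.FFPair.nemb V x ≠ 1 ∧
      CfsgLib.FFPair.nemb V y ∈ (B : Subgroup _) ∧ CfsgLib.FFPair.nemb V y ≠ 1 ∧
      ∃ m : ℕ, (y : G) ^ 2 ^ m = 1 := by
    rintro ⟨B, hB⟩
    obtain ⟨⟨z, hz⟩, hz1⟩ := Subgroup.ne_bot_iff_exists_ne_one.1 (X.commK_ne_bot hB)
    obtain ⟨x, hxN, hx⟩ := hlift z ((X.comm_K_le hB.le).trans X.KH hz)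
    obtain ⟨⟨β, hβ⟩, hβ1⟩ := Subgroup.ne_bot_iff_exists_ne_one.1 (fun h : B = ⊥ => by
      have h2 := hB.card
      rw [h, Subgroup.card_bot] at h2
      omega)
    obtain ⟨y, hyN, hy⟩ := hlift β (hB.le hβ)
    obtain ⟨m, o, ho, hyo⟩ := Nat.exists_eq_pow_mul_and_not_dvd (orderOf_pos y).ne' 2 (by norm_num)
    refine ⟨x, y ^ o, hxN, pow_mem hyN o, by rw [hx]; exact hz, by rw [hx]; exact fun h => hz1 (Subtype.ext h),
      by rw [map_pow, hy]; exact pow_mem hβ o, ?_, m, ?_⟩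
    · rw [map_pow, hy]
      intro h
      have hβ2 : β ^ 2 = 1 := (CfsgLib.FFPair.Ctx.IsT.ea (X := X) hB).2 β hβ
      refine hβ1 (Subtype.ext ?_)
      show β = 1
      obtain ⟨t, ht⟩ := Nat.not_even_iff_odd.1 (fun h' => ho h'.two_dvd)
      rw [ht, pow_add, pow_mul, hβ2, one_pow, one_mul, pow_one] at h
      exact h
    · rw [← Subgroup.coe_pow, ← pow_mul, mul_comm, ← hyo, pow_orderOf_eq_one]
      rfl
  choose e b he hb hez he1 hbB hb1 hbm using hfac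
  obtain ⟨Wm, hWm⟩ : ∃ Wm : {B : Subgroup (CfsgLib.FFPair.Hol ↥V) //
      CfsgLib.FFPair.IsT 2 (CfsgLib.FFPair.holV ↥V) H B} → Subgroup G, ∀ B, Wm B =
      (((⁅CfsgLib.FFPair.holV ↥V, CfsgLib.FFPair.factor K (B : Subgroup _)⁆).comap
        (SemidirectProduct.inl : ↥V →* CfsgLib.FFPair.Hol ↥V)).map V.subtype).map L.subtype :=
    ⟨_, fun B => rfl⟩
  have hWmem : ∀ B (v : ↥V), ((v : ↥L) : G) ∈ Wm B ↔ SemidirectProduct.inl v ∈
      ⁅CfsgLib.FFPair.holV ↥V, CfsgLib.FFPair.factor K (B : Subgroup _)⁆ := fun B v => by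
    show L.subtype (V.subtype v) ∈ Wm B ↔ _
    rw [hWm, mem_map_iff_mem L.subtype_injective, mem_map_iff_mem V.subtype_injective]
    rfl
  have hconj : ∀ (x : ↥L) (v : ↥V), CfsgLib.FFPair.nemb V x * SemidirectProduct.inl v *
      (CfsgLib.FFPair.nemb V x)⁻¹ = SemidirectProduct.inl (MulAut.conjNormal x v) :=
    fun x v => CfsgLib.FFPair.emb_conj _ x v
  have hWle : ∀ B, Wm B ≤ uOf L := fun B w hw => by
    rw [hWm] at hw
    obtain ⟨_, ⟨v, -, rfl⟩, rfl⟩ := hw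
    exact (hVmem _).1 v.2
  have hJN : jOf T ≤ N.map L.subtype := by
    refine jOf_le_iff.2 fun A hA a ha => ⟨⟨a, hTL (hA.1 ha)⟩, ?_, rfl⟩
    rw [hNdef]
    have hmem : (A.subgroupOf L) ∈ Cfsg.maxElementaryAbelianSubgroups 2 ↥L := by
      refine ⟨⟨⟨⟨fun x y => Subtype.ext (Subtype.ext (CfsgLib.EABasic.comm_of_isElementaryAbelian hA.2.1
        (x.2 : ((x : ↥L) : G) ∈ A) y.2))⟩⟩, fun x hx => Subtype.ext (hA.2.1.2 _ hx)⟩, fun B hB => ?_⟩
      rw [Nat.card_congr (subgroupOfEquivOfLe (hA.1.trans hTL)).toEquiv,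
        ← card_map_of_injective (K := B) L.subtype_injective]
      obtain ⟨g, hg, hle⟩ := exists_conjBy_le hLT.1 (CfsgLib.FFPair.isPGroup_of_ea
        (CfsgLib.Fusion.isElementaryAbelian_map L.subtype hB)) (map_subtype_le B)
      rw [← CfsgLib.Fusion.card_conjBy g]
      exact hA.2.2 _ hle (CfsgLib.Fusion.isElementaryAbelian_map _
        (CfsgLib.Fusion.isElementaryAbelian_map _ hB))
    exact le_sSup hmem (show (⟨a, hTL (hA.1 ha)⟩ : ↥L) ∈ A.subgroupOf L from ha)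
  refine ⟨⟨N.map L.subtype, P, _, fun B => (e B : G), fun B => (b B : G), Wm, hML, ?_, ?_, ?_, hPL,
    ?_, ?_, ?_, ?_, ?_, fun B => ⟨(hPmem _).2 (JCompFactor.le_oddPart B.2 (hez B)), (hNmem _).2 (he B)⟩,
    fun B => (hNmem _).2 (hb B), hbm, ?_, ?_, hWle, ?_, ?_, ?_, ?_, ?_, ?_, ?_⟩⟩
  · -- normal
    refine le_normalizer_of_conj fun g hg z hz => ?_
    obtain ⟨y, hy, rfl⟩ := hz
    exact ⟨⟨g, hg⟩ * y * ⟨g, hg⟩⁻¹, Normal.conj_mem inferInstance y hy _, rfl⟩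
  · -- contains `J(T)`
    exact hJN
  · -- generated by conjugates of `J(T)`
    intro N' hN'
    rw [map_le_iff_le_comap, hNdef]
    refine sSup_le fun A hA => map_le_iff_le_comap.1 ?_
    obtain ⟨g, hg, hle⟩ := exists_conjBy_le hLT.1 (CfsgLib.FFPair.isPGroup_of_ea
        (CfsgLib.Fusion.isElementaryAbelian_map L.subtype hA.1)) (map_subtype_le A)
    have hmax : IsMaxEA 2 T (conjBy g (A.map L.subtype)) := by
      refine ⟨hle, CfsgLib.Fusion.isElementaryAbelian_map _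
        (CfsgLib.Fusion.isElementaryAbelian_map _ hA.1), fun B hB hBe => ?_⟩
      rw [CfsgLib.Fusion.card_conjBy, card_map_of_injective L.subtype_injective,
        ← Nat.card_congr (subgroupOfEquivOfLe (hB.trans hTL)).toEquiv]
      refine hA.2 _ ⟨⟨⟨fun x y => Subtype.ext (Subtype.ext
        (CfsgLib.EABasic.comm_of_isElementaryAbelian hBe (x.2 : ((x : ↥L) : G) ∈ B) y.2))⟩⟩,
        fun x hx => Subtype.ext (hBe.2 _ hx)⟩
    rintro x hx
    have h1 := hN' g⁻¹ (inv_mem hg) ⟨_, le_jOf hmax ⟨x, hx, rfl⟩, rfl⟩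
    simpa [CfsgLib.Fusion.conjBy, mul_assoc] using h1
  · -- contains `C_L(U)`
    intro c hc
    have h := (hker ⟨c, cOf_le L hc⟩).2 hc
    exact (hPmem ⟨c, cOf_le L hc⟩).2 (by rw [h]; exact one_mem _)
  · -- normalized
    refine le_normalizer_of_conj fun x hx y hy => ?_
    obtain ⟨x', hx', rfl⟩ := hx
    refine (hPmem (x' * ⟨y, hPL hy⟩ * x'⁻¹)).2 ?_
    rw [map_mul, map_mul, map_inv]
    exact conj_mem (JCompFactor.H_le_normalizer_oddPart X hgen) (hH ▸ mem_map_of_mem _ hx')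
      ((hPmem _).1 hy)
  · -- commutators
    rintro _ ⟨x', hx', rfl⟩ _ ⟨y', hy', rfl⟩
    refine (hPmem (x' * y' * x'⁻¹ * y'⁻¹)).2 ?_
    simp only [map_mul, map_inv]
    exact JCompFactor.comm_mem X hgen (hH ▸ mem_map_of_mem _ hx') (hH ▸ mem_map_of_mem _ hy')
  · -- abelian
    intro x hx y hy
    refine (hker (⟨x, hPL hx⟩ * ⟨y, hPL hy⟩ * (⟨x, hPL hx⟩ : ↥L)⁻¹ * (⟨y, hPL hy⟩ : ↥L)⁻¹)).1 ?_
    simp only [map_mul, map_inv]
    rw [mem_centralizer_iff.1 (JCompFactor.oddPart_comm X hgen ((hPmem ⟨y, hPL hy⟩).1 hy)) _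
      ((hPmem ⟨x, hPL hx⟩).1 hx), mul_inv_cancel_right, mul_inv_cancel]
  · -- exponent three
    intro x hx
    refine (hker (⟨x, hPL hx⟩ ^ 3)).1 ?_
    rw [map_pow]
    exact JCompFactor.oddPart_cube X hgen ((hPmem ⟨x, hPL hx⟩).1 hx)
  · -- inversion
    intro B
    refine (hker (b B * e B * (b B)⁻¹ * e B)).1 ?_
    simp only [map_mul, map_inv]
    have hc := JCompFactor.card_comm X B.2
    have hmem := conj_mem X.le_normalizer_commK (hbB B) (hez B)
    obtain ⟨n, hn⟩ := CfsgLib.FFPair.exists_pow_eq (hp := ⟨Nat.prime_three⟩) hc (hez B) (he1 B) hmem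
    have h3 : CfsgLib.FFPair.nemb V (e B) ^ 3 = 1 :=
      JCompFactor.oddPart_cube X hgen (JCompFactor.le_oddPart B.2 (hez B))
    rw [pow_eq_pow_mod n h3] at hn
    have hm : n % 3 = 0 ∨ n % 3 = 1 ∨ n % 3 = 2 := by omega
    rcases hm with h | h | h
    · rw [h, pow_zero] at hn
      exact absurd (conj_eq_one_iff.1 hn) (he1 B)
    · rw [h, pow_one] at hn
      exact absurd (mul_inv_eq_iff_eq_mul.1 hn)
        (JCompFactor.not_centralize X B.2 (hez B) (he1 B) (hbB B) (hb1 B))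
    · rw [hn, h, ← pow_succ]
      exact h3
  · -- nontrivial
    exact fun B h => he1 B ((hker _).2 h)
  · -- order four
    intro B
    rw [hWm, card_map_of_injective L.subtype_injective, card_map_of_injective V.subtype_injective,
      ← card_map_of_injective (f := (SemidirectProduct.inl : ↥V →* CfsgLib.FFPair.Hol ↥V))
        SemidirectProduct.inl_injective, map_comap_eq, inf_eq_right.2 (X.comm_le (X.factor_le B.2)),
      X.card_module B.2]
    norm_num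
  · -- moves into its plane
    intro B u hu
    obtain ⟨v, rfl⟩ : ∃ v : ↥V, ((v : ↥L) : G) = u := ⟨⟨⟨u, hUL hu⟩, (hVmem _).2 hu⟩, rfl⟩
    have h : ((MulAut.conjNormal (e B) v * v⁻¹ : ↥V) : ↥L) =
        e B * (v : ↥L) * (e B)⁻¹ * (v : ↥L)⁻¹ := by simp [MulAut.conjNormal_apply]
    have h2 := (hWmem B (MulAut.conjNormal (e B) v * v⁻¹)).2 (by
      rw [map_mul, map_inv, ← hconj]
      have hc := inv_mem (commutator_mem_commutator (H₁ := CfsgLib.FFPair.holV ↥V)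
        (⟨v, rfl⟩ : SemidirectProduct.inl v ∈ CfsgLib.FFPair.holV ↥V)
        (mem_sup_left (hez B) : _ ∈ CfsgLib.FFPair.factor K (B : Subgroup _)))
      rw [commutatorElement_def] at hc
      simpa [mul_assoc, CfsgLib.FFPair.factor] using hc)
    rw [h] at h2
    simpa using h2
  · -- fixed-point-free
    intro B w hw hfix
    obtain ⟨v, rfl⟩ : ∃ v : ↥V, ((v : ↥L) : G) = w :=
      ⟨⟨⟨w, hUL (hWle B hw)⟩, (hVmem _).2 (hWle B hw)⟩, rfl⟩
    have hcv : MulAut.conjNormal (e B) v = v := Subtype.ext (Subtype.ext (by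
      simpa [MulAut.conjNormal_apply] using hfix))
    have h1 : (SemidirectProduct.inl v : CfsgLib.FFPair.Hol ↥V) = 1 := by
      refine JCompFactor.fpf X B.2 (hez B) (he1 B) ((hWmem B v).1 hw) ?_
      have := hconj (e B) v
      rw [hcv] at this
      exact mul_inv_eq_iff_eq_mul.1 this
    have hv1 : v = 1 := SemidirectProduct.inl_injective (h1.trans (map_one _).symm)
    rw [hv1]
    rfl
  · -- lines
    intro B x hx
    obtain ⟨x', hx', rfl⟩ := hx
    have hmem := conj_mem (JCompFactor.H_le_normalizer_comm X hgen B.2)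
      (hH ▸ mem_map_of_mem _ hx' : CfsgLib.FFPair.nemb V x' ∈ H) (hez B)
    obtain ⟨n, hn⟩ := CfsgLib.FFPair.exists_pow_eq (hp := ⟨Nat.prime_three⟩)
      (JCompFactor.card_comm X B.2) (hez B) (he1 B) hmem
    have h1 := (hker ((e B ^ n)⁻¹ * (x' * e B * x'⁻¹))).1 (by
      simp only [map_mul, map_inv, map_pow]
      rw [hn, inv_mul_cancel])
    have := mul_mem (mem_sup_left (pow_mem (mem_zpowers ((e B : ↥L) : G)) n) :
      ((e B : ↥L) : G) ^ n ∈ zpowers ((e B : ↥L) : G) ⊔ cOf L) (mem_sup_right h1)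
    simpa using this
  · -- commuting
    intro B k hk hkW
    refine (hker (b B * ⟨k, hPL hk⟩ * (b B)⁻¹ * (⟨k, hPL hk⟩ : ↥L)⁻¹)).1 ?_
    simp only [map_mul, map_inv]
    have hfix : CfsgLib.FFPair.nemb V ⟨k, hPL hk⟩ ∈ centralizer
        ((⁅CfsgLib.FFPair.holV ↥V, CfsgLib.FFPair.factor K (B : Subgroup _)⁆ : Subgroup _) : Set _) := by
      refine mem_centralizer_iff.2 fun z hz => ?_
      obtain ⟨v, rfl⟩ := X.comm_le (X.factor_le B.2) hz
      have hv := mem_centralizer_iff.1 hkW _ ((hWmem B v).2 hz)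
      have hcv : MulAut.conjNormal (⟨k, hPL hk⟩ : ↥L) v = v := Subtype.ext (Subtype.ext (by
        simp [MulAut.conjNormal_apply]
        rw [← hv, mul_inv_cancel_right]))
      have := hconj ⟨k, hPL hk⟩ v
      rw [hcv] at this
      exact (mul_inv_eq_iff_eq_mul.1 this).symm
    rw [JCompFactor.commute_of_fix X hgen B.2 ((hPmem ⟨k, hPL hk⟩).1 hk) hfix (hbB B),
      mul_inv_cancel_right, mul_inv_cancel]
  · -- generation
    intro x hx
    have hS : JCompFactor.oddPart (CfsgLib.FFPair.holV ↥V) H K ≤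
        ((cOf L ⊔ closure (Set.range fun B => ((e B : ↥L) : G))).comap L.subtype).map
          (CfsgLib.FFPair.nemb V) := by
      refine iSup_le fun B => ?_
      rw [CfsgLib.FFPair.eq_zpowers_of_card (hp := ⟨Nat.prime_three⟩) (JCompFactor.card_comm X B.2)
        (hez B) (he1 B), zpowers_le]
      exact mem_map_of_mem _ (mem_sup_right (subset_closure ⟨B, rfl⟩) : ((e B : ↥L) : G) ∈
        cOf L ⊔ closure (Set.range fun B => ((e B : ↥L) : G)))
    obtain ⟨y, hy, hyx⟩ := hS ((hPmem ⟨x, hPL hx⟩).1 hx)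
    have h1 := (hker (⟨x, hPL hx⟩ * y⁻¹)).1 (by rw [map_mul, map_inv, hyx, mul_inv_cancel])
    have := mul_mem (mem_sup_left h1 : ((⟨x, hPL hx⟩ * y⁻¹ : ↥L) : G) ∈
      cOf L ⊔ closure (Set.range fun B => ((e B : ↥L) : G))) hy
    simpa using this
  · -- nonempty
    by_contra hno
    rw [not_nonempty_iff] at hno
    haveI := hno
    have hHbot : H = ⊥ := hgen.trans (iSup_of_empty _)
    refine not_jOf_le_cOf hZ hLT fun x hx => ?_
    obtain ⟨y, hy, rfl⟩ := hJN hx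
    have h2 := mem_map_of_mem (CfsgLib.FFPair.nemb V) hy
    rw [← hH, hHbot, mem_bot] at h2
    exact (hker _).1 h2

end CfsgLib.JComp
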