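import Cfsg.Agent.Lib.JComp.Shape
import Cfsg.Agent.Lib.Invol.StronglyEmbeddedOrbits
import Cfsg.Agent.S2947
import Cfsg.Agent.S2949

/-!
# No local envelope of components over a Sylow subgroup
-/

set_option autoImplicit false
set_option linter.style.haveILetI false
set_option linter.unusedSectionVars false

open Subgroup
open scoped commutatorElement

namespace CfsgLib.JComp

open CfsgLib.Fusion (conjBy IsMaxEA)
open CfsgLib.EABasic (comm_of_isElementaryAbelian)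

universe u

variable {G : Type u} [Group G] [Finite G]

theorem exists_maxStraddling {M : Subgroup G} (h : (Cfsg.straddlingTwoSubgroups M).Nonempty) :
    (Cfsg.maxStraddlingTwoSubgroups M).Nonempty := by
  classical
  obtain ⟨T₁, hT₁, h₁⟩ := (Cfsg.straddlingTwoSubgroups M).toFinite.exists_maximalFor
    (fun T : Subgroup G => Cfsg.maxElemAbelianOrder T) _ h
  obtain ⟨T₂, ⟨hT₂, he₂⟩, h₂⟩ := ({T ∈ Cfsg.straddlingTwoSubgroups M | Cfsg.maxElemAbelianOrder T =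
      Cfsg.maxElemAbelianOrder T₁}).toFinite.exists_maximalFor
    (fun T : Subgroup G => Nat.card (jOf T)) _ ⟨T₁, hT₁, rfl⟩
  obtain ⟨T₃, ⟨⟨hT₃, he₃⟩, hj₃⟩, h₃⟩ := ({T ∈ ({T ∈ Cfsg.straddlingTwoSubgroups M |
      Cfsg.maxElemAbelianOrder T = Cfsg.maxElemAbelianOrder T₁}) |
      Nat.card (jOf T) = Nat.card (jOf T₂)}).toFinite.exists_maximalFor
    (fun T : Subgroup G => Nat.card T) _ ⟨T₂, ⟨hT₂, he₂⟩, rfl⟩
  refine ⟨T₃, hT₃, fun T hT => ⟨?_, fun he => ⟨?_, fun hj => ?_⟩⟩⟩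
  · rw [he₃]
    exact (le_total _ _).elim id fun h => h₁ hT h
  · have hmem : T ∈ {T ∈ Cfsg.straddlingTwoSubgroups M | Cfsg.maxElemAbelianOrder T =
      Cfsg.maxElemAbelianOrder T₁} := ⟨hT, he.trans he₃⟩
    show Nat.card (jOf T) ≤ Nat.card (jOf T₃)
    rw [hj₃]
    exact (le_total _ _).elim id fun h => h₂ hmem h
  · exact (le_total _ _).elim id fun h => h₃ ⟨⟨hT, he.trans he₃⟩, hj.trans hj₃⟩ h

theorem maxStraddling_conjBy {M T : Subgroup G} (hT : T ∈ Cfsg.maxStraddlingTwoSubgroups M) {g : G}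
    (hg : g ∈ M) : conjBy g T ∈ Cfsg.maxStraddlingTwoSubgroups M := by
  obtain ⟨⟨hT2, hT1, hTM, L, ⟨R, hR2, hR1, rfl⟩, hTL, hLM⟩, hmax⟩ := hT
  have hm : Cfsg.maxElemAbelianOrder (conjBy g T) = Cfsg.maxElemAbelianOrder T := by
    obtain ⟨A, hA⟩ := exists_max T
    rw [maxElemAbelianOrder_eq hA, maxElemAbelianOrder_eq (isMaxEA_conjBy g hA),
      CfsgLib.Fusion.card_conjBy]
  have hj : Nat.card (jOf (conjBy g T)) = Nat.card (jOf T) := by
    rw [← conjBy_jOf, CfsgLib.Fusion.card_conjBy]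
  refine ⟨⟨hT2.map _, fun h => hT1 ?_, CfsgLib.Fusion.conjBy_le_iff.2 fun x hx =>
    mul_mem (mul_mem hg (hTM hx)) (inv_mem hg), normalizer (conjBy g R : Set G),
    ⟨_, hR2.map _, fun h => hR1 ?_, rfl⟩, ?_, fun h => hLM fun x hx => ?_⟩, fun P hP => ?_⟩
  · rw [← CfsgLib.Fusion.conjBy_inv_conjBy g T, show conjBy g T = ⊥ from h]; exact Subgroup.map_bot _
  · rw [← CfsgLib.Fusion.conjBy_inv_conjBy g R, show conjBy g R = ⊥ from h]; exact Subgroup.map_bot _
  · rw [← CfsgLib.Fusion.conjBy_normalizer]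
    exact CfsgLib.Fusion.conjBy_mono hTL
  · rw [← CfsgLib.Fusion.conjBy_normalizer] at h
    have := mul_mem (mul_mem (inv_mem hg) (h (CfsgLib.Fusion.conj_mem_conjBy hx))) hg
    simpa [mul_assoc] using this
  · rw [hm, CfsgLib.Fusion.card_conjBy]
    exact ⟨(hmax P hP).1, fun he => hj.symm ▸ (hmax P hP).2 he⟩

/-- Involutions outside one of two self-centralizing elementary abelian subgroups of index two. -/
theorem mem_of_invol_two_elementary {T E E' : Subgroup G} (hE : E ≤ T) (hE' : E' ≤ T)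
    (hi : E.relIndex T = 2) (hsq : ∀ x ∈ E, x * x = 1) (hsq' : ∀ x ∈ E', x * x = 1)
    (hc' : centralizer (E' : Set G) ≤ E') {b : G} (hb : b ∈ E') (hbE : b ∉ E) {a : G} (ha : a ∈ T)
    (ha2 : a * a = 1) (haE : a ∉ E) : a ∈ E' := by
  have hprod : ∀ x ∈ T, ∀ y ∈ T, x ∉ E → y ∉ E → x * y ∈ E := by
    intro x hx y hy hxE hyE
    have h := (mul_mem_iff_of_index_two (H := E.subgroupOf T) hi (a := (⟨x, hx⟩ : T)) (b := ⟨y, hy⟩))
    simp only [mem_subgroupOf] at h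
    exact h.2 ⟨fun h1 => absurd h1 hxE, fun h1 => absurd h1 hyE⟩
  have habel : ∀ x ∈ E, ∀ y ∈ E, x * y = y * x := fun x hx y hy => by
    have h := hsq _ (mul_mem hx hy)
    calc x * y = x * (x * y * (x * y)) * y := by rw [h]; group
      _ = (x * x) * (y * x) * (y * y) := by group
      _ = y * x := by rw [hsq x hx, hsq y hy, one_mul, mul_one]
  have habel' : ∀ x ∈ E', ∀ y ∈ E', x * y = y * x := fun x hx y hy => by
    have h := hsq' _ (mul_mem hx hy)
    calc x * y = x * (x * y * (x * y)) * y := by rw [h]; group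
      _ = (x * x) * (y * x) * (y * y) := by group
      _ = y * x := by rw [hsq' x hx, hsq' y hy, one_mul, mul_one]
  have hb2 : b * b = 1 := hsq' b hb
  have he : a * b ∈ E := hprod a ha b (hE' hb) haE hbE
  have heb : (a * b) * b = b * (a * b) := by
    have h1 := hsq _ he
    calc a * b * b = a * (b * b) := mul_assoc _ _ _
      _ = a * (a * b * (a * b)) := by rw [hb2, h1]
      _ = (a * a) * (b * (a * b)) := by group
      _ = b * (a * b) := by rw [ha2, one_mul]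
  have hmem : a * b ∈ E' := hc' (mem_centralizer_iff.2 fun f hf => by
    by_cases hfE : f ∈ E
    · exact habel _ hfE _ he
    · have hfb : f * b ∈ E := hprod f (hE' hf) b (hE' hb) hfE hbE
      have h1 := habel _ hfb _ he
      calc f * (a * b) = f * (a * b) * (b * b) := by rw [hb2, mul_one]
        _ = f * ((a * b) * b) * b := by group
        _ = f * (b * (a * b)) * b := by rw [heb]
        _ = (f * b * (a * b)) * b := by group
        _ = (a * b * (f * b)) * b := by rw [h1]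
        _ = a * b * f * (b * b) := by group
        _ = a * b * f := by rw [hb2, mul_one])
  have := mul_mem hmem hb
  rwa [mul_assoc, hb2, mul_one] at this

theorem no_envelope (hL : Cfsg.IsCharacteristicTwoType G)
    (hN : ∀ N : Subgroup G, Cfsg.IsTwoLocal N → Group.IsSolvable ↥N) (hZ : ZHyp G)
    (hO : Cfsg.pCore 2 G = ⊥) (P : Sylow 2 G) {M₀ Q K : Subgroup G} (hM₀ : Cfsg.IsTwoLocal M₀)
    (hJ : normalizer (jOf (P : Subgroup G) : Set G) ≤ M₀) (hQ : Cfsg.IsElementaryAbelian 2 Q)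
    (hQn : M₀ ≤ normalizer (Q : Set G)) (hQM : Q ≤ M₀) (hK : Cfsg.IsJComponent (P : Subgroup G) K)
    (hKM : K ≤ M₀) (hWQ : Cfsg.wOf K ≤ Q)
    (hloc : ∀ L : Subgroup G, Cfsg.IsTwoLocal L → (P : Subgroup G) ≤ L → L ≤ M₀) : False := by
  haveI : Fact (Nat.Prime 2) := ⟨Nat.prime_two⟩
  have hPM : (P : Subgroup G) ≤ M₀ := (le_normalizer_jOf _).trans hJ
  have hPsyl : Cfsg.IsSylowTwoIn (P : Subgroup G) M₀ := ⟨hPM, P.2, Odd.of_dvd_nat
    (Nat.odd_iff.2 (Nat.two_dvd_ne_zero.1 P.not_dvd_index)) (relIndex_dvd_index_of_le hPM)⟩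
  have hQp : IsPGroup 2 Q := fun a => ⟨1, Subtype.ext (by rw [pow_one]; exact hQ.2 _ a.2)⟩
  have hQP : Q ≤ (P : Subgroup G) := le_of_normalized hPsyl hQp hQM hQn
  have hQab : ∀ a ∈ Q, ∀ b ∈ Q, a * b = b * a := fun a ha b hb => comm_of_isElementaryAbelian hQ ha hb
  obtain ⟨⟨w, hw⟩, hw1'⟩ := Subgroup.ne_bot_iff_exists_ne_one.1 (wOf_ne_bot hK)
  have hw1 : w ≠ 1 := fun e => hw1' (Subtype.ext e)
  rcases (Cfsg.straddlingTwoSubgroups M₀).eq_empty_or_nonempty with hemp | hne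
  · -- strongly embedded
    have hse := (Cfsg.Agent.S2947.result hL hN hZ hO P M₀ hM₀ hJ).2 hemp
    obtain ⟨A, hA, a, ha, haW⟩ := exists_moving hK P.2
    have hwo : orderOf w = 2 := orderOf_eq_prime (by rw [pow_two]; exact wOf_sq hK w hw) hw1
    have hao : orderOf a = 2 := orderOf_eq_prime (hA.2.1.2 a ha) fun e => haW (e ▸ one_mem _)
    obtain ⟨g, hg⟩ := isConj_iff.1 (CfsgLib.Invol.exists_conj_fixing hse hwo hao)
    have hgM : g ∈ M₀ := CfsgLib.Invol.mem_of_conj_mem hse (hQM (hWQ hw)) hwo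
      (hg ▸ hPM (hA.1 ha))
    have haQ : a ∈ Q := hg ▸ conj_mem hQn hgM (hWQ hw)
    exact haW (mem_centralizer_iff.2 fun v hv => hQab v (hWQ hv) a haQ)
  obtain ⟨T₁, hT₁⟩ := exists_maxStraddling hne
  obtain ⟨g, hg, hgle⟩ := exists_conjBy_le hPsyl hT₁.1.1 hT₁.1.2.2.1
  obtain ⟨T, hTd⟩ : ∃ T, T = conjBy g T₁ := ⟨_, rfl⟩
  have hT : T ∈ Cfsg.maxStraddlingTwoSubgroups M₀ := hTd ▸ maxStraddling_conjBy hT₁ hg
  have hTP : T ≤ (P : Subgroup G) := hTd ▸ hgle
  have hTne : T ≠ (P : Subgroup G) := fun e => by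
    obtain ⟨L, hL2, hTL, hLM⟩ := hT.1.2.2.2
    exact hLM (hloc L hL2 (e ▸ hTL))
  obtain ⟨R, hR, hRP⟩ := exists_ext P.2 hTP hTne hPM
  obtain ⟨K₁, hK₁⟩ := Cfsg.Agent.S2949.result hL hN hZ hO P M₀ hM₀ hJ T hT
  have hKo : K₁ ∈ outer M₀ T := ⟨hK₁.1.1, hK₁.2.1⟩
  have hnice := nice_outer hL hN hZ hJ hT hR hKo hK₁.2.2
  obtain ⟨y, hy, hyT, hKo', hnice', -, -⟩ := exists_partner hL hN hZ hJ hT hR hKo hnice
  obtain ⟨E, hEd⟩ : ∃ E, E = Cfsg.pCoreOf 2 (K₁ ⊔ T) := ⟨_, rfl⟩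
  obtain ⟨E', hEd'⟩ : ∃ E', E' = Cfsg.pCoreOf 2 (conjBy y K₁ ⊔ T) := ⟨_, rfl⟩
  have hyT' : conjBy y T = T := CfsgLib.Fusion.conjBy_eq_iff.2 (hR.norm hy)
  have hEy : conjBy y E = E' := by
    rw [hEd, hEd']
    show conjBy y (coreOf (K₁ ⊔ T)) = _
    rw [conjBy_pCoreOf]
    show coreOf ((K₁ ⊔ T).map _) = _
    rw [Subgroup.map_sup]
    exact congrArg (fun X => coreOf (conjBy y K₁ ⊔ X)) hyT'
  have hET : E ≤ T := hEd ▸ Nice.core_sup_le hT.1.1 hnice
  have hET' : E' ≤ T := hEd' ▸ Nice.core_sup_le hT.1.1 hnice'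
  have hidx : ∀ X : Subgroup G, Nice T X → (Cfsg.pCoreOf 2 (X ⊔ T)).relIndex T = 2 := fun X hX => by
    have h := relIndex_mul_relIndex _ T (X ⊔ T) (Nice.core_sup_le hT.1.1 hX) le_sup_right
    rw [Nice.relIndex_core hT.1.1 hX, Nice.relIndex_sylow hT.1.1 hX] at h
    omega
  have hsq : ∀ x ∈ E, x * x = 1 := fun x hx => core_sq hL hN hZ hJ hT hR hKo hnice (hEd ▸ hx)
  have hsq' : ∀ x ∈ E', x * x = 1 := fun x hx => core_sq hL hN hZ hJ hT hR hKo' hnice' (hEd' ▸ hx)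
  have hCE' : centralizer (E' : Set G) ≤ E' := hEd' ▸ Nice.centralizer_core_sup_le hL hN hZ hT.1.1 hnice'
  -- `N(E)` lies in `N(K₁)`, which meets `P` in `T`
  have hPK : ∀ q ∈ (P : Subgroup G), q ∈ normalizer (K₁ : Set G) → q ∈ T := fun q hq hqn =>
    le_of_sylowTwoIn hnice.sylow (Q := T ⊔ zpowers q) (P.2.to_le (sup_le hTP (zpowers_le.2 hq))) le_sup_left
      (sup_le hnice.le_norm (zpowers_le.2 hqn)) (mem_sup_right (mem_zpowers q))
  have hNE : normalizer (E : Set G) ≤ normalizer (K₁ : Set G) :=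
    Nice.le_local hL hN hZ hT.1.1 hnice ⟨E, hT.1.1.to_le hET,
      hEd ▸ Nice.core_ne_bot' hT.1.1 hnice, rfl⟩
      (hEd ▸ (sup_le_sup_left (jOf_le T) K₁).trans (le_normalizer_pCoreOf 2 _))
  obtain ⟨b, hb, hbE⟩ : ∃ b ∈ E', b ∉ E := by
    by_contra hno
    push Not at hno
    have he : E' = E := eq_of_le_of_card_ge hno (by rw [← hEy, CfsgLib.Fusion.card_conjBy])
    exact hyT (hPK y (hRP hy) (hNE (CfsgLib.Fusion.conjBy_eq_iff.1 (hEy.trans he))))
  obtain ⟨A, hAd⟩ : ∃ A, A = Q ⊓ T := ⟨_, rfl⟩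
  have hAy : conjBy y A = A := by
    refine CfsgLib.Fusion.conjBy_eq_of_le (CfsgLib.Fusion.conjBy_le_iff.2 fun x hx => ?_)
    rw [hAd] at hx ⊢
    exact ⟨conj_mem hQn (hPM (hRP hy)) hx.1, conj_mem hR.norm hy hx.2⟩
  have hAE : A ≤ E := by
    have hor : ∀ x ∈ A, x ∈ E ∨ x ∈ E' := fun x hx => by
      by_cases hxE : x ∈ E
      · exact Or.inl hxE
      · rw [hAd] at hx
        exact Or.inr (mem_of_invol_two_elementary hET hET' (hEd ▸ hidx K₁ hnice) hsq hsq' hCE' hb hbE hx.2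
          (by rw [← pow_two]; exact hQ.2 x hx.1) hxE)
    have hback : A ≤ E' → A ≤ E := fun h => by
      have h1 := CfsgLib.Fusion.conjBy_mono (g := y⁻¹) h
      rw [← hEy, CfsgLib.Fusion.conjBy_inv_conjBy] at h1
      conv_lhs at h1 => rw [← hAy, CfsgLib.Fusion.conjBy_inv_conjBy]
      exact h1
    by_contra hno
    obtain ⟨x, hx, hxE⟩ := SetLike.not_le_iff_exists.1 hno
    refine hno (hback fun z hz => ?_)
    have hxE' := (hor x hx).resolve_left hxE
    rcases hor z hz with hzE | hzE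
    · rcases hor _ (mul_mem hx hz) with h | h
      · exact absurd ((mul_mem_cancel_right hzE).1 h) hxE
      · exact (mul_mem_cancel_left hxE').1 h
    · exact hzE
  have hQT : Q ≤ T := by
    have hstep : ∀ q ∈ Q, q ∈ normalizer (T : Set G) → q ∈ T := by
      intro q hq hqT
      refine hPK q (hQP hq) (hNE (CfsgLib.Fusion.conjBy_eq_iff.1 (CfsgLib.Fusion.conjBy_eq_of_le
        (CfsgLib.Fusion.conjBy_le_iff.2 fun e he => ?_))))
      have h1 : q * e * q⁻¹ * e⁻¹ ∈ A := by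
        rw [hAd]
        refine ⟨?_, T.mul_mem (conj_mem le_rfl hqT (hET he)) (T.inv_mem (hET he))⟩
        rw [show q * e * q⁻¹ * e⁻¹ = q * (e * q⁻¹ * e⁻¹) by group]
        exact Q.mul_mem hq (conj_mem hQn (hPM (hTP (hET he))) (Q.inv_mem hq))
      have := mul_mem (hAE h1) he
      rwa [inv_mul_cancel_right] at this
    by_contra hno
    have hHne : T ≠ Q ⊔ T := fun e => hno (e ▸ le_sup_left)
    obtain ⟨u, hu, huN, huT⟩ := exists_mem_normalizer_not_mem (P.2.to_le (sup_le hQP hTP))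
      (le_sup_right : T ≤ Q ⊔ T) hHne
    obtain ⟨q, hq, t, ht, rfl⟩ := CfsgLib.Coprime.mem_sup_exists (hTP.trans (hPM.trans hQn)) hu
    have hqN : q ∈ normalizer (T : Set G) := by
      have := mul_mem huN (inv_mem (le_normalizer ht))
      rwa [mul_inv_cancel_right] at this
    exact huT (mul_mem (hstep q hq hqN) ht)
  have hQA : Q ≤ A := hAd ▸ le_inf le_rfl hQT
  have hQE' : Q ≤ E' := by
    refine hQA.trans ?_
    rw [← hAy, ← hEy]
    exact CfsgLib.Fusion.conjBy_mono hAE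
  have hEab : ∀ {X : Subgroup G}, (∀ x ∈ X, x * x = 1) → ∀ x ∈ X, ∀ z ∈ X, x * z = z * x :=
    fun {X} h x hx z hz => by
      have h1 := h _ (mul_mem hx hz)
      calc x * z = x * (x * z * (x * z)) * z := by rw [h1]; group
        _ = (x * x) * (z * x) * (z * z) := by group
        _ = z * x := by rw [h x hx, h z hz, one_mul, mul_one]
  have hQZ : Q ≤ zJ T := fun q hq => by
    refine omegaCenterOf_le_zJ T (mem_omegaCenterOf.2 ⟨hQT hq, fun t ht => ?_, hQ.2 q hq⟩)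
    by_cases htE : t ∈ E
    · exact hEab hsq t htE q (hAE (hQA hq))
    · have hi : E.relIndex T = 2 := hEd ▸ hidx K₁ hnice
      have h := (mul_mem_iff_of_index_two (H := E.subgroupOf T) hi (a := (⟨t, ht⟩ : T))
        (b := ⟨b, hET' hb⟩))
      simp only [mem_subgroupOf] at h
      have htb : t * b ∈ E := h.2 ⟨fun h1 => absurd h1 htE, fun h1 => absurd h1 hbE⟩
      have h1 : Commute (t * b) q := hEab hsq _ htb q (hAE (hQA hq))
      have h2 : Commute b q := hEab hsq' b hb q (hQE' hq)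
      have h3 := (h1.mul_left h2).eq
      rwa [mul_assoc t b b, hsq' b hb, mul_one] at h3
  have hWZ : Cfsg.wOf K = zJ T := eq_of_le_of_card_ge (hWQ.trans hQZ) (by
    rw [hK.2.2.2.2.1]
    rcases card_zJ_outer hL hN hZ hJ hT hR hKo with h | h <;> omega)
  obtain ⟨v, hv, hv1, hfix⟩ := exists_rigid hL hN hZ hJ hT hR hKo hnice
  obtain ⟨c, hc⟩ := exists_isGen hK.2.2.1
  rw [← hWZ] at hv hfix
  exact hv1 (hc.wOf_eq_one hv (hfix c (normalizer_le_normalizer_wOf K (le_normalizer hc.mem))))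

end CfsgLib.JComp
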