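import Cfsg.Agent.Lib.JComp.Overgroup

/-!
# Existence of components inside a member of the family attached to a `2`-subgroup
-/

set_option autoImplicit false
set_option linter.style.haveILetI false
set_option linter.unusedSectionVars false

open Subgroup
open scoped commutatorElement

namespace CfsgLib.JComp

open CfsgLib.Fusion (IsMaxEA conjBy)
open CfsgLib.EABasic (comm_of_isElementaryAbelian)

universe u

variable {G : Type u} [Group G] [Finite G]

theorem relIndex_sup_eq {Z Q : Subgroup G} (hn : Z ≤ normalizer (Q : Set G)) :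
    Q.relIndex (Z ⊔ Q) = Q.relIndex Z := by
  have h := CfsgLib.EABasic.card_sup_mul_card_inf_of_le_normalizer hn
  have h1 := relIndex_mul_relIndex ⊥ Q (Z ⊔ Q) bot_le le_sup_right
  have h2 := relIndex_mul_relIndex ⊥ (Z ⊓ Q) Z bot_le inf_le_left
  rw [relIndex_bot_left, relIndex_bot_left] at h1 h2
  rw [inf_relIndex_left] at h2
  rw [← h1, ← h2] at h
  have : 0 < Nat.card Q * Nat.card ↥(Z ⊓ Q) := Nat.mul_pos Nat.card_pos Nat.card_pos
  exact Nat.eq_of_mul_eq_mul_left this (by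
    calc Nat.card Q * Nat.card ↥(Z ⊓ Q) * Q.relIndex (Z ⊔ Q)
        = Nat.card Q * Q.relIndex (Z ⊔ Q) * Nat.card ↥(Z ⊓ Q) := by ring
      _ = Nat.card ↥(Z ⊓ Q) * Q.relIndex Z * Nat.card Q := h
      _ = _ := by ring)

/-- Above a subgroup of prime index, an element outside generates. -/
theorem sup_eq_of_prime_index {N Q H : Subgroup G} {p : ℕ} (hp : p.Prime) (hQH : Q ≤ H)
    (hNH : N ≤ H) (hidx : Q.relIndex H = p) (hN : ¬ N ≤ Q) : N ⊔ Q = H := by
  have h := relIndex_mul_relIndex Q (N ⊔ Q) H le_sup_right (sup_le hNH hQH)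
  rw [hidx] at h
  have h1 : Q.relIndex (N ⊔ Q) ≠ 1 := fun e => hN (le_sup_left.trans (relIndex_eq_one.1 e))
  rcases hp.eq_one_or_self_of_dvd _ (Dvd.intro _ h) with e | e
  · exact absurd e h1
  · rw [e] at h
    exact le_antisymm (sup_le hNH hQH) (relIndex_eq_one.1
      (Nat.eq_of_mul_eq_mul_left hp.pos (by rw [h, mul_one])))

/-- A subgroup with pairwise products of outside elements inside has index at most two. -/
theorem card_le_two_mul {A B : Subgroup G} (hBA : B ≤ A)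
    (h : ∀ a ∈ A, a ∉ B → ∀ b ∈ A, b ∉ B → a * b ∈ B) : Nat.card A ≤ 2 * Nat.card B := by
  classical
  by_cases hall : A ≤ B
  · have := card_le_of_le hall; omega
  obtain ⟨a₀, ha₀, ha₀B⟩ := SetLike.not_le_iff_exists.1 hall
  let f : A → B × Bool := fun a =>
    if ha : (a : G) ∈ B then (⟨a, ha⟩, false) else (⟨a₀ * a, h a₀ ha₀ ha₀B a a.2 ha⟩, true)
  have hinj : Function.Injective f := by
    intro a b hab
    simp only [f] at hab
    apply Subtype.ext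
    split_ifs at hab with ha hb
    · simpa using hab
    · simp at hab
    · simp at hab
    · simpa using hab
  have := Nat.card_le_card_of_injective f hinj
  rw [Nat.card_prod, Nat.card_eq_fintype_card (α := Bool), Fintype.card_bool] at this
  omega

/-- Fixed points of an involution inverting a generator. -/
theorem card_eq_sq {K : Subgroup G} {c j : G} (hc : IsGen K c) (hj : j * j = 1)
    (hjc : j * c * j = c⁻¹) {X : Subgroup G} (hXV : X ≤ Cfsg.wOf K)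
    (hXc : ∀ x ∈ X, c * x * c⁻¹ ∈ X) (hXj : ∀ x ∈ X, j * x * j ∈ X) :
    Nat.card X = Nat.card ↥(X ⊓ centralizer ({j} : Set G)) * Nat.card ↥(X ⊓ centralizer ({j} : Set G)) := by
  have hU := omegaCenterOf_ea (coreOf K)
  have hXU : X ≤ uOf K := hXV.trans (wOf_le_uOf K)
  have hcomm : ∀ a ∈ X, ∀ b ∈ X, a * b = b * a := fun a ha b hb =>
    comm_of_isElementaryAbelian hU (hXU ha) (hXU hb)
  have hsq : ∀ a ∈ X, a * a = 1 := fun a ha => by rw [← pow_two]; exact hU.2 a (hXU ha)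
  have hjinv : j⁻¹ = j := inv_eq_of_mul_eq_one_right hj
  have hmem : ∀ a, a ∈ centralizer ({j} : Set G) ↔ j * a * j = a := fun a => by
    rw [mem_centralizer_singleton_iff]
    constructor
    · intro h; rw [← h, mul_assoc, hj, mul_one]
    · intro h
      calc a * j = j * a * j * j := by rw [h]
        _ = j * a := by rw [mul_assoc (j * a), hj, mul_one]
  have hzero : ∀ d ∈ X, j * d * j = d → j * (c * d * c⁻¹) * j = c * d * c⁻¹ → d = 1 := by
    intro d hd h1 h2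
    refine hc.wOf_eq_one (hXV hd) ?_
    have h3 : c⁻¹ * d * c = c * d * c⁻¹ := by
      calc c⁻¹ * d * c = (j * c * j) * (j * d * j) * (j * c * j)⁻¹ := by rw [h1, hjc, inv_inv]
        _ = j * (c * d * c⁻¹) * j := by
            simp only [mul_inv_rev, hjinv, mul_assoc]
            rw [← mul_assoc j j, hj, one_mul, ← mul_assoc j j, hj, one_mul]
        _ = _ := h2
    have h4 := hc.cube_fix (hXU hd)
    have h5 : c * (c * d * c⁻¹) * c⁻¹ = d := by rw [← h3]; group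
    rw [h5] at h4
    exact h4
  obtain ⟨X0, hX0⟩ : ∃ X0, X0 = X ⊓ centralizer ({j} : Set G) := ⟨_, rfl⟩
  rw [← hX0]
  have hX0mem : ∀ a, a ∈ X0 ↔ a ∈ X ∧ j * a * j = a := fun a => by rw [hX0, mem_inf, hmem]
  have hnorm : ∀ a ∈ X, a * (j * a * j) ∈ X0 := fun a ha => (hX0mem _).2 ⟨mul_mem ha (hXj a ha), by
    calc j * (a * (j * a * j)) * j = (j * a * j) * a * (j * j) := by group
      _ = (j * a * j) * a := by rw [hj, mul_one]
      _ = _ := hcomm _ (hXj a ha) _ ha⟩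
  refine le_antisymm ?_ ?_
  · rw [← Nat.card_prod]
    refine Nat.card_le_card_of_injective (fun x : X => ((⟨_, hnorm x x.2⟩ : X0),
      (⟨_, hnorm _ (hXc x x.2)⟩ : X0))) ?_
    rintro ⟨a, ha⟩ ⟨b, hb⟩ hab
    obtain ⟨e1, e2⟩ := Prod.ext_iff.1 hab
    have key : ∀ {p q : G}, p ∈ X → q ∈ X → p * (j * p * j) = q * (j * q * j) →
        j * (p * q) * j = p * q := by
      intro p q hp hq h
      have e : j * (p * q) * j = (j * p * j) * (j * q * j) := by
        simp only [mul_assoc]; rw [← mul_assoc j j, hj, one_mul]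
      have e3 : j * p * j = p * (q * (j * q * j)) := by rw [← h, ← mul_assoc, hsq p hp, one_mul]
      rw [e, e3, mul_assoc, mul_assoc, hsq _ (hXj q hq), mul_one]
    have h1 := key ha hb (congrArg Subtype.val e1)
    have h2 := key (hXc a ha) (hXc b hb) (congrArg Subtype.val e2)
    rw [show c * a * c⁻¹ * (c * b * c⁻¹) = c * (a * b) * c⁻¹ by group] at h2
    have h3 := hzero _ (mul_mem ha hb) h1 h2
    refine Subtype.ext ?_
    show a = b
    rw [eq_inv_of_mul_eq_one_left h3]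
    exact inv_eq_of_mul_eq_one_right (hsq b hb)
  · rw [← Nat.card_prod]
    refine Nat.card_le_card_of_injective (fun p : X0 × X0 =>
      (⟨p.1 * (c * p.2 * c⁻¹), mul_mem ((hX0mem _).1 p.1.2).1 (hXc _ ((hX0mem _).1 p.2.2).1)⟩ : X)) ?_
    rintro ⟨⟨a, ha⟩, ⟨b, hb⟩⟩ ⟨⟨a', ha'⟩, ⟨b', hb'⟩⟩ hab
    have h : a * (c * b * c⁻¹) = a' * (c * b' * c⁻¹) := congrArg Subtype.val hab
    obtain ⟨ha1, ha2⟩ := (hX0mem a).1 ha
    obtain ⟨hb1, hb2⟩ := (hX0mem b).1 hb
    obtain ⟨ha1', ha2'⟩ := (hX0mem a').1 ha'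
    obtain ⟨hb1', hb2'⟩ := (hX0mem b').1 hb'
    have e : c * (b * b'⁻¹) * c⁻¹ = a⁻¹ * a' := by
      calc c * (b * b'⁻¹) * c⁻¹ = a⁻¹ * (a * (c * b * c⁻¹)) * (c * b' * c⁻¹)⁻¹ := by group
        _ = _ := by rw [h]; group
    have hm1 : b * b'⁻¹ ∈ X0 := mul_mem hb (inv_mem hb')
    have hm2 : a⁻¹ * a' ∈ X0 := mul_mem (inv_mem ha) ha'
    have h3 := hzero _ ((hX0mem _).1 hm1).1 ((hX0mem _).1 hm1).2 (by rw [e]; exact ((hX0mem _).1 hm2).2)
    rw [h3, mul_one, mul_inv_cancel] at e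
    rw [mul_inv_eq_one] at h3
    obtain rfl := h3
    obtain rfl := inv_mul_eq_one.1 e.symm
    rfl

namespace Data

variable {T L : Subgroup G} (d : Data T L) (hZ : ZHyp G) (hLT : L ∈ Cfsg.jOvergroups T)

theorem conj_cOf {g x : G} (hg : g ∈ L) (hx : x ∈ cOf L) : g * x * g⁻¹ ∈ cOf L :=
  conj_mem (le_normalizer_cOf L) hg hx

theorem conj_cOf' {g x : G} (hg : g ∈ L) (hx : x ∈ cOf L) : g⁻¹ * x * g ∈ cOf L := by
  simpa using conj_cOf (inv_mem hg) hx

theorem e_mem_L (i : d.ι) : d.e i ∈ L := d.P_le (d.e_mem i).1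

theorem e_sq_not (i : d.ι) : d.e i * d.e i ∉ cOf L := fun h => d.e_not i (by
  have h3 := d.cube (d.e i) (d.e_mem i).1
  have e : d.e i = (d.e i * d.e i)⁻¹ * d.e i ^ 3 := by
    rw [pow_succ, pow_two]; group
  rw [e]
  exact mul_mem (inv_mem h) h3)

theorem line_rep (i : d.ι) {x : G} (hx : x ∈ zpowers (d.e i) ⊔ cOf L) :
    x ∈ cOf L ∨ x * (d.e i)⁻¹ ∈ cOf L ∨ x * d.e i ∈ cOf L := by
  have hn : zpowers (d.e i) ≤ normalizer (cOf L : Set G) :=
    (zpowers_le.2 (d.e_mem_L i)).trans (le_normalizer_cOf L)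
  rw [sup_comm] at hx
  obtain ⟨z, hz, y, hy, rfl⟩ := CfsgLib.Coprime.mem_sup_exists hn hx
  obtain ⟨n, rfl⟩ := (mem_powers_iff_mem_zpowers (x := d.e i)).2 hy
  have h3 := d.cube (d.e i) (d.e_mem i).1
  have hk : ∀ q : ℕ, d.e i ^ (3 * q) ∈ cOf L := fun q => by rw [pow_mul]; exact pow_mem h3 q
  have hn3 : n % 3 = 0 ∨ n % 3 = 1 ∨ n % 3 = 2 := by omega
  rcases hn3 with h | h | h
  · refine Or.inl (mul_mem hz ?_)
    show d.e i ^ n ∈ cOf L
    rw [show n = 3 * (n / 3) by omega]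
    exact hk _
  · refine Or.inr (Or.inl ?_)
    show z * d.e i ^ n * (d.e i)⁻¹ ∈ cOf L
    rw [show n = 3 * (n / 3) + 1 by omega, pow_succ, ← mul_assoc, mul_inv_cancel_right]
    exact mul_mem hz (hk _)
  · refine Or.inr (Or.inr ?_)
    show z * d.e i ^ n * d.e i ∈ cOf L
    rw [mul_assoc, ← pow_succ, show n + 1 = 3 * (n / 3 + 1) by omega]
    exact mul_mem hz (hk _)

/-- an element of `M` fixes or inverts `e i` modulo `C_L(U)` -/
theorem line_cases (i : d.ι) {x : G} (hx : x ∈ d.M) :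
    x * d.e i * x⁻¹ * (d.e i)⁻¹ ∈ cOf L ∨ x * d.e i * x⁻¹ * d.e i ∈ cOf L := by
  rcases d.line_rep i (d.e_line i x hx) with h | h | h
  · refine absurd ?_ (d.e_not i)
    have := conj_cOf' (d.M_le hx) h
    simpa [mul_assoc] using this
  · exact Or.inl h
  · exact Or.inr h

include hZ hLT in
/-- every `e i` is inverted by a member of a maximal elementary abelian subgroup -/
theorem exists_inverting (i : d.ι) :
    ∃ A, IsMaxEA 2 T A ∧ ∃ j ∈ A, j * d.e i * j⁻¹ * d.e i ∈ cOf L := by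
  by_contra hno
  push Not at hno
  obtain ⟨H, hH⟩ : ∃ H : Subgroup G, ∀ x, x ∈ H ↔ x ∈ d.M ∧ x * d.e i * x⁻¹ * (d.e i)⁻¹ ∈ cOf L := by
    refine ⟨{ carrier := {x | x ∈ d.M ∧ x * d.e i * x⁻¹ * (d.e i)⁻¹ ∈ cOf L}
              one_mem' := ⟨one_mem _, by simp [one_mem]⟩
              mul_mem' := ?_
              inv_mem' := ?_ }, fun x => Iff.rfl⟩
    · rintro x y ⟨hx, hx'⟩ ⟨hy, hy'⟩
      refine ⟨mul_mem hx hy, ?_⟩
      rw [show x * y * d.e i * (x * y)⁻¹ * (d.e i)⁻¹ =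
        (x * (y * d.e i * y⁻¹ * (d.e i)⁻¹) * x⁻¹) * (x * d.e i * x⁻¹ * (d.e i)⁻¹) by group]
      exact mul_mem (conj_cOf (d.M_le hx) hy') hx'
    · rintro x ⟨hx, hx'⟩
      refine ⟨inv_mem hx, ?_⟩
      rw [show x⁻¹ * d.e i * x⁻¹⁻¹ * (d.e i)⁻¹ = x⁻¹ * (x * d.e i * x⁻¹ * (d.e i)⁻¹)⁻¹ * x by group]
      exact conj_cOf' (d.M_le hx) (inv_mem hx')
  have hJ : jOf T ≤ H := jOf_le_iff.2 fun A hA a ha => (hH a).2 ⟨d.J_le (le_jOf hA ha),
    (d.line_cases i (d.J_le (le_jOf hA ha))).resolve_right (hno A hA a ha)⟩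
  have hM : d.M ≤ H := d.M_gen H fun g hg => by
    obtain ⟨a, ha, he⟩ := d.conj_jOf hZ hLT hg
    intro z hz
    have hzM : z ∈ d.M := by
      obtain ⟨x, hx, rfl⟩ := hz
      exact conj_mem d.M_normal hg (d.J_le hx)
    rw [he] at hz
    obtain ⟨x, hx, rfl⟩ := hz
    obtain ⟨hxM, hxe⟩ := (hH x).1 (hJ hx)
    refine (hH _).2 ⟨hzM, ?_⟩
    obtain ⟨t, ht, htC⟩ : ∃ t, a⁻¹ * d.e i * a = t * d.e i ∧ t ∈ cOf L :=
      ⟨a⁻¹ * d.e i * a * (d.e i)⁻¹, by group, by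
        have := d.comm_P a⁻¹ (inv_mem ha) (d.e i) (d.e_mem i).1
        simpa using this⟩
    show MulAut.conj a x * d.e i * (MulAut.conj a x)⁻¹ * (d.e i)⁻¹ ∈ cOf L
    rw [MulAut.conj_apply, show a * x * a⁻¹ * d.e i * (a * x * a⁻¹)⁻¹ * (d.e i)⁻¹ =
      a * (x * (a⁻¹ * d.e i * a) * x⁻¹ * (a⁻¹ * d.e i * a)⁻¹) * a⁻¹ by group, ht,
      show x * (t * d.e i) * x⁻¹ * (t * d.e i)⁻¹ =
        (x * t * x⁻¹) * (x * d.e i * x⁻¹ * (d.e i)⁻¹) * t⁻¹ by group]
    exact conj_cOf (d.P_le ha) (mul_mem (mul_mem (conj_cOf (d.M_le hxM) htC) hxe) (inv_mem htC))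
  have h1 := ((hH _).1 (hM (d.b_mem i))).2
  have h2 := d.b_inv i
  refine d.e_sq_not i ?_
  have := mul_mem (inv_mem h1) h2
  simpa [mul_assoc] using this

/-- an element of the line of `e i` moves `U` into the attached four group -/
theorem line_move (i : d.ι) {x u : G} (hx : x ∈ zpowers (d.e i) ⊔ cOf L) (hu : u ∈ uOf L) :
    x * u * x⁻¹ * u⁻¹ ∈ d.W i := by
  have hL := d.e_mem_L i
  rcases d.line_rep i hx with h | h | h
  · rw [fix_of_cOf h hu, mul_inv_cancel]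
    exact one_mem _
  · have hu' : d.e i * u * (d.e i)⁻¹ ∈ uOf L := conj_mem (le_normalizer_uOf L) hL hu
    rw [show x * u * x⁻¹ = (x * (d.e i)⁻¹) * (d.e i * u * (d.e i)⁻¹) * (x * (d.e i)⁻¹)⁻¹ by group,
      fix_of_cOf h hu']
    exact d.e_move i u hu
  · have hu' : (d.e i)⁻¹ * u * d.e i ∈ uOf L := by
      simpa using conj_mem (le_normalizer_uOf L) (inv_mem hL) hu
    rw [show x * u * x⁻¹ = (x * d.e i) * ((d.e i)⁻¹ * u * d.e i) * (x * d.e i)⁻¹ by group,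
      fix_of_cOf h hu']
    have := inv_mem (d.e_move i _ hu')
    rw [show d.e i * ((d.e i)⁻¹ * u * d.e i) * (d.e i)⁻¹ * ((d.e i)⁻¹ * u * d.e i)⁻¹ =
      u * ((d.e i)⁻¹ * u * d.e i)⁻¹ by group, mul_inv_rev, inv_inv] at this
    exact this

theorem line_fpf (i : d.ι) {x w : G} (hx : x ∈ zpowers (d.e i) ⊔ cOf L) (hxC : x ∉ cOf L)
    (hw : w ∈ d.W i) (h : x * w * x⁻¹ = w) : w = 1 := by
  have hu := d.W_le i hw
  have hL := d.e_mem_L i
  refine d.e_fpf i w hw ?_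
  rcases d.line_rep i hx with h' | h' | h'
  · exact absurd h' hxC
  · rw [show x * w * x⁻¹ = (x * (d.e i)⁻¹) * (d.e i * w * (d.e i)⁻¹) * (x * (d.e i)⁻¹)⁻¹ by group,
      fix_of_cOf h' (conj_mem (le_normalizer_uOf L) hL hu)] at h
    exact h
  · rw [show x * w * x⁻¹ = (x * d.e i) * ((d.e i)⁻¹ * w * d.e i) * (x * d.e i)⁻¹ by group,
      fix_of_cOf h' (by simpa using conj_mem (le_normalizer_uOf L) (inv_mem hL) hu)] at h
    conv_lhs => rw [← h]
    group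

include hZ hLT in
/-- Each `e i` gives a component inside `L`. -/
theorem exists_component (i : d.ι) :
    ∃ K, Cfsg.IsJComponent T K ∧ K ≤ L ∧ d.e i ∈ K ⊔ cOf L := by
  classical
  haveI : Fact (Nat.Prime 2) := ⟨Nat.prime_two⟩
  obtain ⟨hTL, hT2, hodd⟩ := hLT.1
  obtain ⟨A, hA, j, hjA, hje⟩ := d.exists_inverting hZ hLT i
  have hAT : A ≤ T := hA.1
  have hAM : A ≤ d.M := (le_jOf hA).trans d.J_le
  have hAL : A ≤ L := hAT.trans hTL
  have hjj : j * j = 1 := by rw [← pow_two]; exact hA.2.1.2 j hjA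
  have hji : j⁻¹ = j := inv_eq_of_mul_eq_one_right hjj
  have hjL : j ∈ L := hAL hjA
  have hT2pow : ∀ x ∈ T, ∃ m : ℕ, x ^ 2 ^ m = 1 := fun x hx => by
    obtain ⟨m, hm⟩ := hT2 ⟨x, hx⟩
    exact ⟨m, congrArg Subtype.val hm⟩
  obtain ⟨heP, heM⟩ := d.e_mem i
  have heL := d.e_mem_L i
  obtain ⟨s, hs⟩ : ∃ s, s = j * d.e i * j⁻¹ * d.e i := ⟨_, rfl⟩
  rw [← hs] at hje
  obtain ⟨y, hy⟩ : ∃ y, y = d.e i * j * (d.e i)⁻¹ * j⁻¹ := ⟨_, rfl⟩
  have hjy : j * y * j⁻¹ = y⁻¹ := by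
    rw [hy]
    simp only [mul_inv_rev, inv_inv, mul_assoc, hji, hjj, mul_one]
  have hye : y = d.e i * d.e i * s⁻¹ := by
    rw [hy, hs]; group
  have hyM : y ∈ d.M := hy ▸ mul_mem (mul_mem (mul_mem heM (hAM hjA)) (inv_mem heM)) (inv_mem (hAM hjA))
  have hyL : y ∈ L := d.M_le hyM
  have hyP : y ∈ d.P := hye ▸ mul_mem (mul_mem heP heP) (inv_mem (d.C_le hje))
  have hyline : y ∈ zpowers (d.e i) ⊔ cOf L :=
    hye ▸ mul_mem (mem_sup_left (mul_mem (mem_zpowers _) (mem_zpowers _))) (mem_sup_right (inv_mem hje))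
  have hynC : y ∉ cOf L := fun h => d.e_sq_not i (by
    have := mul_mem h hje
    rwa [hye, inv_mul_cancel_right] at this)
  -- the cube of `y`
  have hy3C : y ^ 3 ∈ cOf L := d.cube y hyP
  have hy3 : y ^ 3 ∈ coreOf L := by
    have hz : j * y ^ 3 * j⁻¹ * (y ^ 3)⁻¹ ∈ cOf L := mul_mem (conj_cOf hjL hy3C) (inv_mem hy3C)
    have h := d.trick hZ hLT (hAM hjA) (m := 1) (by rw [pow_one]; exact hA.2.1.2 j hjA) hz
    rw [← conj_pow, hjy, inv_pow, ← mul_inv_rev, inv_mem_iff, ← pow_two] at h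
    exact two_pow_mem hZ hLT hy3C (m := 1) (by simpa using h)
  obtain ⟨Q, hQdef⟩ : ∃ Q, Q = coreOf L := ⟨_, rfl⟩
  have hQL : Q ≤ L := hQdef ▸ pCoreOf_le 2 L
  have hQn : L ≤ normalizer (Q : Set G) := hQdef ▸ le_normalizer_pCoreOf 2 L
  have hQT : Q ≤ T := hQdef ▸ core_le_sylow hLT
  have hQC : Q ≤ cOf L := hQdef ▸ core_le_cOf L
  have hynQ : y ∉ Q := fun h => hynC (hQC h)
  rw [← hQdef] at hy3
  obtain ⟨H0, hH0⟩ : ∃ H0, H0 = zpowers y ⊔ Q := ⟨_, rfl⟩
  have hyH0 : y ∈ H0 := hH0 ▸ mem_sup_left (mem_zpowers y)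
  have hQH0 : Q ≤ H0 := hH0 ▸ le_sup_right
  have hH0L : H0 ≤ L := hH0 ▸ sup_le (zpowers_le.2 hyL) hQL
  have hH0line : H0 ≤ zpowers (d.e i) ⊔ cOf L :=
    hH0 ▸ sup_le (zpowers_le.2 hyline) (hQC.trans le_sup_right)
  have hidx : Q.relIndex H0 = 3 := by
    rw [hH0, relIndex_sup_eq ((zpowers_le.2 hyL).trans hQn)]
    have h1 : Q.relIndex (zpowers y) ∣ (zpowers (y ^ 3)).relIndex (zpowers y) :=
      relIndex_dvd_of_le_left _ (zpowers_le.2 hy3)
    have h2 := relIndex_mul_relIndex ⊥ (zpowers (y ^ 3)) (zpowers y) bot_le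
      (zpowers_le.2 (pow_mem (mem_zpowers y) 3))
    rw [relIndex_bot_left, relIndex_bot_left, Nat.card_zpowers, Nat.card_zpowers, orderOf_pow] at h2
    have hpos : 0 < orderOf y := orderOf_pos y
    have h3 : (zpowers (y ^ 3)).relIndex (zpowers y) ∣ 3 := by
      have hg : (orderOf y).gcd 3 ∣ 3 := Nat.gcd_dvd_right _ _
      have hd : orderOf y / (orderOf y).gcd 3 * (orderOf y).gcd 3 = orderOf y :=
        Nat.div_mul_cancel (Nat.gcd_dvd_left _ _)
      have : (zpowers (y ^ 3)).relIndex (zpowers y) = (orderOf y).gcd 3 :=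
        Nat.eq_of_mul_eq_mul_left (Nat.div_pos (Nat.le_of_dvd hpos (Nat.gcd_dvd_left _ _))
          (Nat.gcd_pos_of_pos_left _ hpos)) (h2.trans hd.symm)
      rw [this]; exact hg
    rcases Nat.prime_three.eq_one_or_self_of_dvd _ (h1.trans h3) with e | e
    · exact absurd (relIndex_eq_one.1 e (mem_zpowers y)) hynQ
    · exact e
  -- the component
  obtain ⟨K, hKdef⟩ : ∃ K, K = closure {g : G | g ∈ H0 ∧ Odd (orderOf g)} := ⟨_, rfl⟩
  have hKH0 : K ≤ H0 := hKdef ▸ (closure_le _).2 fun g hg => hg.1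
  have hKL : K ≤ L := hKH0.trans hH0L
  have hNK : normalizer (H0 : Set G) ≤ normalizer (K : Set G) := fun g hg => by
    refine CfsgLib.Fusion.conjBy_eq_iff.1 (CfsgLib.Fusion.conjBy_eq_of_le ?_)
    rw [CfsgLib.Fusion.conjBy, hKdef, MonoidHom.map_closure]
    refine closure_mono ?_
    rintro _ ⟨x, ⟨hx, hxo⟩, rfl⟩
    exact ⟨conj_mem le_rfl hg hx, by rw [MulEquiv.coe_toMonoidHom, MulEquiv.orderOf_eq]; exact hxo⟩
  -- an element of odd order
  obtain ⟨m, r, hr, hmr⟩ := Nat.exists_eq_pow_mul_and_not_dvd (orderOf_pos y).ne' 2 (by norm_num)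
  obtain ⟨c, hc⟩ : ∃ c, c = y ^ 2 ^ m := ⟨_, rfl⟩
  have hcr : c ^ r = 1 := by rw [hc, ← pow_mul, ← hmr]; exact pow_orderOf_eq_one y
  have hrodd : Odd r := Nat.not_even_iff_odd.1 fun h => hr h.two_dvd
  have hco : Odd (orderOf c) := hrodd.of_dvd_nat (orderOf_dvd_of_pow_eq_one hcr)
  have hcK : c ∈ K := hKdef ▸ subset_closure ⟨hc ▸ pow_mem hyH0 _, hco⟩
  have hpow_not : ∀ (X : Subgroup G), y ^ 3 ∈ X → c ∈ X → y ∈ X := by
    intro X h3 hcX
    have hmod : 2 ^ m % 3 = 1 ∨ 2 ^ m % 3 = 2 := by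
      have : ¬ 3 ∣ 2 ^ m := fun h => by
        have := Nat.prime_three.dvd_of_dvd_pow h
        norm_num at this
      omega
    obtain ⟨q, hq⟩ : ∃ q, q = 2 ^ m / 3 := ⟨_, rfl⟩
    have hq3 : y ^ (3 * q) ∈ X := by rw [pow_mul]; exact pow_mem h3 q
    rw [hc] at hcX
    rcases hmod with h | h
    · rw [show 2 ^ m = 3 * q + 1 by omega, pow_succ] at hcX
      exact (Subgroup.mul_mem_cancel_left _ hq3).1 hcX
    · rw [show 2 ^ m = 3 * q + 2 by omega, pow_add] at hcX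
      have h2 := (Subgroup.mul_mem_cancel_left _ hq3).1 hcX
      rw [show y = y ^ 3 * (y ^ 2)⁻¹ by rw [pow_succ']; group]
      exact mul_mem h3 (inv_mem h2)
  have hcnQ : c ∉ Q := fun h => hynQ (hpow_not Q hy3 h)
  have hcnC : c ∉ cOf L := fun h => hynC (hpow_not _ hy3C h)
  have hcline : c ∈ zpowers (d.e i) ⊔ cOf L := hH0line (hKH0 hcK)
  have hKQ : K ⊔ Q = H0 :=
    sup_eq_of_prime_index Nat.prime_three hQH0 hKH0 hidx fun h => hcnQ (h hcK)
  -- `J(T)` acts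
  have hTM : ∀ x ∈ T, x ∈ d.M →
      x * y * x⁻¹ * y⁻¹ ∈ Q ∨ x * y * x⁻¹ * y ∈ Q := by
    intro x hxT hxM
    have hxL := d.M_le hxM
    obtain ⟨k, hk⟩ := hT2pow x hxT
    have hw : x * s⁻¹ * x⁻¹ ∈ cOf L := conj_cOf hxL (inv_mem hje)
    rcases d.line_cases i hxM with h | h
    · refine Or.inl (hQdef ▸ d.trick hZ hLT hxM hk ?_)
      rw [hye, show x * (d.e i * d.e i * s⁻¹) * x⁻¹ * (d.e i * d.e i * s⁻¹)⁻¹ =
        (x * d.e i * x⁻¹ * (d.e i)⁻¹) *
          (d.e i * ((x * d.e i * x⁻¹ * (d.e i)⁻¹) * (d.e i * ((x * s⁻¹ * x⁻¹) * s) * (d.e i)⁻¹)) *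
            (d.e i)⁻¹) by group]
      exact mul_mem h (conj_cOf heL (mul_mem h (conj_cOf heL (mul_mem hw hje))))
    · refine Or.inr ?_
      obtain ⟨v, hv⟩ : ∃ v, v = x * y * x⁻¹ * y := ⟨_, rfl⟩
      have hvC : v ∈ cOf L := by
        rw [hv, hye, show x * (d.e i * d.e i * s⁻¹) * x⁻¹ * (d.e i * d.e i * s⁻¹) =
          (x * d.e i * x⁻¹ * d.e i) * ((d.e i)⁻¹ * (x * d.e i * x⁻¹ * d.e i) * d.e i) *
            ((d.e i * d.e i)⁻¹ * (x * s⁻¹ * x⁻¹) * (d.e i * d.e i)) * s⁻¹ by group]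
        exact mul_mem (mul_mem (mul_mem h (conj_cOf' heL h))
          (conj_cOf' (mul_mem heL heL) hw)) (inv_mem hje)
      obtain ⟨k', hk'⟩ := hT2pow (j * x) (mul_mem (hAT hjA) hxT)
      have e : j * x * y * (j * x)⁻¹ * y⁻¹ = j * v * j⁻¹ := by
        rw [hv, show j * (x * y * x⁻¹ * y) * j⁻¹ = j * x * y * (j * x)⁻¹ * (j * y * j⁻¹) by group, hjy]
      have h2 := d.trick hZ hLT (mul_mem (hAM hjA) hxM) hk' (x := y)
        (e ▸ conj_cOf hjL hvC)
      rw [e, ← hQdef] at h2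
      have := conj_mem hQn (inv_mem hjL) h2
      rw [← hv]
      simpa [mul_assoc] using this
  have hH0conj : ∀ x ∈ T, x ∈ d.M → x ∈ normalizer (H0 : Set G) := by
    intro x hxT hxM
    refine CfsgLib.Fusion.conjBy_eq_iff.1 (CfsgLib.Fusion.conjBy_eq_of_le ?_)
    rw [CfsgLib.Fusion.conjBy, map_le_iff_le_comap, hH0, sup_le_iff, zpowers_le]
    refine ⟨?_, fun q hq => mem_sup_right (conj_mem hQn (d.M_le hxM) hq)⟩
    show x * y * x⁻¹ ∈ zpowers y ⊔ Q
    rcases hTM x hxT hxM with h | h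
    · have := mul_mem (mem_sup_right (S := zpowers y) h) (mem_sup_left (T := Q) (mem_zpowers y))
      simpa [mul_assoc] using this
    · have := mul_mem (mem_sup_right (S := zpowers y) h)
        (inv_mem (mem_sup_left (T := Q) (mem_zpowers y)))
      simpa [mul_assoc] using this
  have hJK : jOf T ≤ normalizer (K : Set G) := fun x hx =>
    hNK (hH0conj x (jOf_le T hx) (d.J_le hx))
  have hQK : Q ≤ normalizer (K : Set G) := (hQH0.trans le_normalizer).trans hNK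
  have hjc : j * c * j⁻¹ = c⁻¹ := by rw [hc, ← conj_pow, hjy, inv_pow]
  have hjc' : j * c * j = c⁻¹ := by
    conv_lhs => arg 2; rw [← hji]
    exact hjc
  have hKr : ∀ x, x ∈ closure {g : G | g ∈ K ∧ Odd (orderOf g)} → x ∈ K := fun x hx =>
    (closure_le _).2 (fun g hg => hg.1) hx
  have hKgen : closure {g : G | g ∈ K ∧ Odd (orderOf g)} = K := by
    refine le_antisymm hKr ?_
    conv_lhs => rw [hKdef]
    exact closure_mono fun g hg => ⟨hKdef ▸ subset_closure hg, hg.2⟩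
  -- the core
  obtain ⟨R, hR⟩ : ∃ R, R = K ⊓ Q := ⟨_, rfl⟩
  have hRK : R ≤ K := hR ▸ inf_le_left
  have hRQ : R ≤ Q := hR ▸ inf_le_right
  have hKNR : K ≤ normalizer (R : Set G) :=
    hR ▸ CfsgLib.Coprime.inf_le_normalizer le_normalizer (hKL.trans hQn)
  have hRidx : R.relIndex K = 3 := by
    rw [hR, inf_relIndex_left, ← relIndex_sup_eq (hKL.trans hQn), hKQ, hidx]
  have hQ2 : IsPGroup 2 Q := hQdef ▸ isPGroup_pCoreOf 2 L
  have hcoreK : coreOf K = R := by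
    refine le_antisymm ?_ (le_pCoreOf hRK (hQ2.to_le hRQ) hKNR)
    by_contra hnle
    have h := sup_eq_of_prime_index Nat.prime_three hRK (pCoreOf_le 2 K) hRidx hnle
    rw [sup_eq_left.2 (le_pCoreOf hRK (hQ2.to_le hRQ) hKNR)] at h
    obtain ⟨k, hk⟩ := isPGroup_pCoreOf 2 K ⟨c, h.ge hcK⟩
    have hk' : c ^ 2 ^ k = 1 := congrArg Subtype.val hk
    have h1 : orderOf c = 1 := Nat.eq_one_of_dvd_coprimes
      ((Nat.coprime_two_left.2 hco).pow_left k) (orderOf_dvd_of_pow_eq_one hk') dvd_rfl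
    exact hcnQ (by rw [orderOf_eq_one_iff.1 h1]; exact one_mem _)
  have hgen : IsGen K c := by
    refine ⟨hcK, hcoreK ▸ hR ▸ mem_inf.2 ⟨pow_mem hcK 3, ?_⟩, fun x hx => ?_⟩
    · rw [hc, ← pow_mul, mul_comm, pow_mul]
      exact pow_mem hy3 _
    · have hsup : zpowers c ⊔ R = K :=
        sup_eq_of_prime_index Nat.prime_three hRK (zpowers_le.2 hcK) hRidx
          fun h => hcnQ (hRQ (h (mem_zpowers c)))
      rw [← hsup, sup_comm] at hx
      obtain ⟨q, hq, z, hz, rfl⟩ := CfsgLib.Coprime.mem_sup_exists ((zpowers_le.2 hcK).trans hKNR) hx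
      obtain ⟨n, rfl⟩ := (mem_powers_iff_mem_zpowers (x := c)).2 hz
      refine ⟨n, (c ^ n)⁻¹ * q * c ^ n, hcoreK.symm ▸ ?_, by group⟩
      simpa using conj_mem hKNR (inv_mem (pow_mem hcK n)) hq
  -- `K = [K, J(T)]`
  have hcomm : ⁅K, jOf T⁆ = K := by
    obtain ⟨N, hN⟩ : ∃ N, N = ⁅K, jOf T⁆ := ⟨_, rfl⟩
    rw [← hN]
    have hNle : N ≤ K := hN ▸ commutator_le_of_le_normalizer hJK
    have hKN : K ≤ normalizer (N : Set G) := le_normalizer_of_conj fun k hk z hz => by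
      suffices h : N ≤ N.comap (MulAut.conj k).toMonoidHom from h hz
      conv_lhs => rw [hN]
      refine commutator_le.2 fun a ha t ht => ?_
      show k * ⁅a, t⁆ * k⁻¹ ∈ N
      rw [hN, show k * ⁅a, t⁆ * k⁻¹ = ⁅k * a, t⁆ * ⁅k, t⁆⁻¹ by
        simp only [commutatorElement_def]; group]
      exact mul_mem (commutator_mem_commutator (mul_mem hk ha) ht)
        (inv_mem (commutator_mem_commutator hk ht))
    have hc2 : c * j * c⁻¹ * j⁻¹ = c * c := by
      rw [mul_assoc c, mul_assoc c]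
      congr 1
      have := congrArg (fun z => z⁻¹) hjc
      simpa [mul_assoc, hji] using this
    have hnot : ¬ N ≤ R := by
      intro h
      have h2 : c * c ∈ Q := hRQ (h (by
        rw [← hc2, hN, ← commutatorElement_def]
        exact commutator_mem_commutator hcK (le_jOf hA hjA)))
      obtain ⟨k, hk⟩ := hrodd
      refine hcnQ ?_
      have e : c = (c * c) ^ (k + 1) := by
        rw [← pow_two, ← pow_mul, show 2 * (k + 1) = r + 1 by omega, pow_succ, hcr, one_mul]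
      rw [e]
      exact pow_mem h2 _
    have hsup := sup_eq_of_prime_index Nat.prime_three hRK hNle hRidx hnot
    refine le_antisymm hNle ?_
    conv_lhs => rw [hKdef]
    refine (closure_le _).2 fun g hg => ?_
    exact odd_mem_sup (hQ2.to_le hRQ) (hRK.trans hKN)
      (hsup.symm ▸ (hKdef ▸ subset_closure hg : g ∈ K)) hg.2
  -- the four group
  obtain ⟨W, hWdef⟩ : ∃ W, W = d.W i := ⟨_, rfl⟩
  have hWU : W ≤ uOf L := hWdef ▸ d.W_le i
  have hW4 : Nat.card W = 4 := hWdef ▸ d.W_card i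
  have hU := omegaCenterOf_ea (coreOf L)
  have hWsq : ∀ w ∈ W, w * w = 1 := fun w hw => by rw [← pow_two]; exact hU.2 w (hWU hw)
  have hmove : ∀ x ∈ zpowers (d.e i) ⊔ cOf L, ∀ u ∈ uOf L, x * u * x⁻¹ * u⁻¹ ∈ W :=
    fun x hx u hu => hWdef ▸ d.line_move i hx hu
  have hfpf : ∀ w ∈ W, c * w * c⁻¹ = w → w = 1 := fun w hw h =>
    d.line_fpf i hcline hcnC (hWdef ▸ hw) h
  have hsurj : ∀ w ∈ W, ∃ v ∈ W, c * v * c⁻¹ * v⁻¹ = w := by
    intro w hw
    let φ : W → W := fun v => ⟨c * v * c⁻¹ * (v : G)⁻¹, hmove c hcline v (hWU v.2)⟩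
    have hinj : Function.Injective φ := by
      rintro ⟨p, hp⟩ ⟨q, hq⟩ h
      have h' : c * p * c⁻¹ * p⁻¹ = c * q * c⁻¹ * q⁻¹ := congrArg Subtype.val h
      have hpq : c * (q⁻¹ * p) * c⁻¹ = q⁻¹ * p := by
        calc c * (q⁻¹ * p) * c⁻¹ = (c * q * c⁻¹)⁻¹ * (c * p * c⁻¹ * p⁻¹) * p := by group
          _ = q⁻¹ * p := by rw [h']; group
      exact Subtype.ext (inv_mul_eq_one.1 (hfpf _ (mul_mem (inv_mem hq) hp) hpq)).symm
    obtain ⟨⟨v, hv⟩, hvw⟩ := Finite.surjective_of_injective hinj ⟨w, hw⟩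
    exact ⟨v, hv, congrArg Subtype.val hvw⟩
  have hWK : W ≤ uOf K := by
    intro w hw
    obtain ⟨v, hv, rfl⟩ := hsurj w hw
    have hvQ : v ∈ Q := hQdef ▸ uOf_le_core L (hWU hv)
    have hwQ : c * v * c⁻¹ * v⁻¹ ∈ Q := hQdef ▸ uOf_le_core L (hWU hw)
    have hwK : c * v * c⁻¹ * v⁻¹ ∈ K := by
      rw [show c * v * c⁻¹ * v⁻¹ = c * (v * c⁻¹ * v⁻¹) by group]
      exact mul_mem hcK (conj_mem hQK hvQ (inv_mem hcK))
    exact mem_omegaCenterOf.2 ⟨hcoreK ▸ hR ▸ mem_inf.2 ⟨hwK, hwQ⟩,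
      fun z hz => core_fix (hQdef ▸ hRQ (hcoreK ▸ hz) : z ∈ coreOf L) (hWU hw), hU.2 _ (hWU hw)⟩
  have hWV : W ≤ Cfsg.wOf K := by
    intro w hw
    obtain ⟨v, hv, rfl⟩ := hsurj w hw
    have h := inv_mem (commutator_mem_commutator (H₁ := uOf K) (hWK hv) hcK)
    rw [commutatorElement_def] at h
    rw [show c * v * c⁻¹ * v⁻¹ = (v * c * v⁻¹ * c⁻¹)⁻¹ by group]
    exact h
  obtain ⟨V, hV⟩ : ∃ V, V = Cfsg.wOf K := ⟨_, rfl⟩
  rw [← hV] at hWV
  have hVU : V ≤ uOf K := hV ▸ wOf_le_uOf K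
  have hUK := omegaCenterOf_ea (coreOf K)
  have hVe : Cfsg.IsElementaryAbelian 2 V :=
    ⟨⟨⟨fun a b => Subtype.ext (comm_of_isElementaryAbelian hUK (hVU a.2) (hVU b.2))⟩⟩,
      fun a ha => hUK.2 a (hVU ha)⟩
  have hVT : V ≤ T := hVU.trans ((uOf_le_core K).trans (hcoreK.le.trans (hRQ.trans hQT)))
  have hAK : A ≤ normalizer (K : Set G) := (le_jOf hA).trans hJK
  have hAV : A ≤ normalizer (V : Set G) := hV ▸ hAK.trans (normalizer_le_normalizer_wOf K)
  have hcV : ∀ x ∈ V, c * x * c⁻¹ ∈ V := fun x hx => hV ▸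
    conj_mem (le_normalizer.trans (normalizer_le_normalizer_wOf K)) hcK (hV ▸ hx)
  have hjV : ∀ x ∈ V, j * x * j ∈ V := fun x hx => by
    have := conj_mem hAV hjA hx
    rwa [hji] at this
  -- `A` on the four group
  have hAW : A ≤ normalizer (W : Set G) := le_normalizer_of_conj fun a ha w hw => by
    obtain ⟨v, hv, rfl⟩ := hsurj w hw
    rw [show a * (c * v * c⁻¹ * v⁻¹) * a⁻¹ =
      (a * c * a⁻¹) * (a * v * a⁻¹) * (a * c * a⁻¹)⁻¹ * (a * v * a⁻¹)⁻¹ by group]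
    exact hmove _ (hH0line (hKH0 (conj_mem hAK ha hcK))) _
      (conj_mem (le_normalizer_uOf L) (hAL ha) (hWU hv))
  obtain ⟨A₀, hA₀⟩ : ∃ A₀, A₀ = A ⊓ centralizer (W : Set G) := ⟨_, rfl⟩
  have hA₀A : A₀ ≤ A := hA₀ ▸ inf_le_left
  have hjA₀ : j ∉ A₀ := by
    intro h
    obtain ⟨⟨w, hw⟩, hw1'⟩ := Subgroup.ne_bot_iff_exists_ne_one.1
      (show W ≠ ⊥ from fun h => by rw [h, Subgroup.card_bot] at hW4; omega)
    refine hw1' (Subtype.ext (hfpf w hw ?_))
    have hjC := fun z (hz : z ∈ W) => mem_centralizer_iff.1 (mem_inf.1 (hA₀ ▸ h : j ∈ A ⊓ _)).2 z hz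
    -- `c` and `c⁻¹` act alike
    have hwu := hWU hw
    have h1 : c * w * c⁻¹ ∈ W := by
      have := mul_mem (hmove c hcline w hwu) hw
      rwa [inv_mul_cancel_right] at this
    have h2 : c⁻¹ * w * c = c * w * c⁻¹ := by
      calc c⁻¹ * w * c = (j * c * j⁻¹) * (j * w * j⁻¹) * (j * c * j⁻¹)⁻¹ := by
            rw [hjc, ← hjC w hw, mul_inv_cancel_right, inv_inv]
        _ = j * (c * w * c⁻¹) * j⁻¹ := by group
        _ = c * w * c⁻¹ := by rw [← hjC _ h1, mul_inv_cancel_right]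
    have h3 := hgen.cube_fix (hWK hw)
    have h5 : c * (c * w * c⁻¹) * c⁻¹ = w := by rw [← h2]; group
    rw [h5] at h3
    exact h3
  have hA2 : Nat.card A ≤ 2 * Nat.card A₀ := card_le_two_mul hA₀A fun a ha ha' b hb hb' =>
    hA₀.ge (mem_inf.2 ⟨mul_mem ha hb, mul_fixes_four (hT2.to_le hAT) hAW hW4 hWsq ha hb
      (fun h => ha' (hA₀.ge (mem_inf.2 ⟨ha, h⟩))) (fun h => hb' (hA₀.ge (mem_inf.2 ⟨hb, h⟩)))⟩)
  have hjpair : ∀ a ∈ A, a ∈ A₀ ∨ a * j ∈ A₀ := fun a ha => by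
    by_cases h : a ∈ A₀
    · exact Or.inl h
    · exact Or.inr (hA₀.ge (mem_inf.2 ⟨mul_mem ha hjA, mul_fixes_four (hT2.to_le hAT) hAW hW4 hWsq
        ha hjA (fun h' => h (hA₀.ge (mem_inf.2 ⟨ha, h'⟩)))
        (fun h' => hjA₀ (hA₀.ge (mem_inf.2 ⟨hjA, h'⟩)))⟩))
  -- `A₀` commutes with `c` on `V`
  have hA₀c : ∀ a ∈ A₀, a * c * a⁻¹ * c⁻¹ ∈ coreOf K := by
    intro a ha
    obtain ⟨haA, haW⟩ := mem_inf.1 (hA₀ ▸ ha : a ∈ A ⊓ _)
    have h1 : a * y * a⁻¹ * y⁻¹ ∈ Q := by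
      refine (hTM a (hAT haA) (hAM haA)).resolve_right fun h => ?_
      obtain ⟨⟨w, hw⟩, hw1'⟩ := Subgroup.ne_bot_iff_exists_ne_one.1
        (show W ≠ ⊥ from fun h => by rw [h, Subgroup.card_bot] at hW4; omega)
      refine hw1' (Subtype.ext (d.line_fpf i hyline hynC (hWdef ▸ hw) ?_))
      have hwu := hWU hw
      have h1 : y * w * y⁻¹ ∈ W := by
        have := mul_mem (hmove y hyline w hwu) hw
        rwa [inv_mul_cancel_right] at this
      have hfix : ∀ z ∈ W, a * z * a⁻¹ = z := fun z hz => by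
        rw [← mem_centralizer_iff.1 haW z hz, mul_inv_cancel_right]
      obtain ⟨q, hq⟩ : ∃ q, q = a * y * a⁻¹ * y := ⟨_, rfl⟩
      have h2 : y * w * y⁻¹ = y⁻¹ * w * y := by
        calc y * w * y⁻¹ = a * (y * w * y⁻¹) * a⁻¹ := (hfix _ h1).symm
          _ = (a * y * a⁻¹) * (a * w * a⁻¹) * (a * y * a⁻¹)⁻¹ := by group
          _ = q * (y⁻¹ * w * y) * q⁻¹ := by rw [hfix w hw, hq]; group
          _ = y⁻¹ * w * y := by
              refine fix_of_cOf (hQC (hq ▸ h)) ?_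
              simpa using conj_mem (le_normalizer_uOf L) (inv_mem hyL) hwu
      have h3 : y ^ 3 * w * (y ^ 3)⁻¹ = w := fix_of_cOf hy3C hwu
      have h5 : y * (y * w * y⁻¹) * y⁻¹ = w := by rw [h2]; group
      rw [show y ^ 3 * w * (y ^ 3)⁻¹ = y * (y * (y * w * y⁻¹) * y⁻¹) * y⁻¹ by
        simp [pow_succ, mul_assoc], h5] at h3
      exact h3
    have hpw : ∀ n : ℕ, a * y ^ n * a⁻¹ * (y ^ n)⁻¹ ∈ Q := by
      intro n
      induction n with
      | zero => simp [one_mem]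
      | succ n ih =>
        rw [pow_succ', show a * (y * y ^ n) * a⁻¹ * (y * y ^ n)⁻¹ =
          (a * y * a⁻¹ * y⁻¹) * (y * (a * y ^ n * a⁻¹ * (y ^ n)⁻¹) * y⁻¹) by group]
        exact mul_mem h1 (conj_mem hQn hyL ih)
    rw [hcoreK, hR]
    exact mem_inf.2 ⟨mul_mem (conj_mem hAK haA hcK) (inv_mem hcK), hc ▸ hpw _⟩
  -- invariant fixed subgroups
  have hX : ∀ B ≤ A₀, Nat.card ↥(V ⊓ centralizer (B : Set G)) =
      Nat.card ↥((V ⊓ centralizer (B : Set G)) ⊓ centralizer ({j} : Set G)) *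
      Nat.card ↥((V ⊓ centralizer (B : Set G)) ⊓ centralizer ({j} : Set G)) := by
    intro B hB
    refine card_eq_sq hgen hjj hjc' (hV ▸ inf_le_left) (fun x hx => ?_) (fun x hx => ?_)
    · obtain ⟨hxV, hxB⟩ := mem_inf.1 hx
      refine mem_inf.2 ⟨hcV x hxV, mem_centralizer_iff.2 fun b hb => ?_⟩
      have hfixb : b * x * b⁻¹ = x := by
        rw [mem_centralizer_iff.1 hxB b hb, mul_inv_cancel_right]
      have hr := hA₀c b (hB hb)
      refine mul_inv_eq_iff_eq_mul.1 ?_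
      calc b * (c * x * c⁻¹) * b⁻¹ =
          (b * c * b⁻¹ * c⁻¹) * (c * (b * x * b⁻¹) * c⁻¹) * (b * c * b⁻¹ * c⁻¹)⁻¹ := by group
        _ = c * x * c⁻¹ := by rw [hfixb, core_fix hr (hVU (hcV x hxV)), mul_inv_cancel_right]
    · obtain ⟨hxV, hxB⟩ := mem_inf.1 hx
      refine mem_inf.2 ⟨hjV x hxV, mem_centralizer_iff.2 fun b hb => ?_⟩
      have hbj : b * j = j * b := comm_of_isElementaryAbelian hA.2.1 (hA₀A (hB hb)) hjA
      calc b * (j * x * j) = (b * j) * x * j := by group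
        _ = j * (b * x) * j := by rw [hbj]; group
        _ = j * x * (b * j) := by rw [mem_centralizer_iff.1 hxB b hb]; group
        _ = (j * x * j) * b := by rw [hbj]; group
  -- the fixed points of `A` on `V`
  obtain ⟨w, hw, hw1, hwfix⟩ := exists_fixed (hT2.to_le hAT) hAW (isPGroup_four hWsq)
    (fun h => by rw [h, Subgroup.card_bot] at hW4; omega)
  have hwA : w ∈ V ⊓ centralizer (A : Set G) :=
    mem_inf.2 ⟨hWV hw, mem_centralizer_iff.2 fun a ha => hwfix a ha⟩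
  have hfixA : V ⊓ centralizer (A : Set G) =
      (V ⊓ centralizer (A₀ : Set G)) ⊓ centralizer ({j} : Set G) := by
    refine le_antisymm (le_inf (inf_le_inf_left _ (centralizer_le hA₀A)) (fun x hx => ?_)) ?_
    · exact mem_centralizer_singleton_iff.2 (mem_centralizer_iff.1 (mem_inf.1 hx).2 j hjA).symm
    · intro x hx
      obtain ⟨hx1, hxj⟩ := mem_inf.1 hx
      obtain ⟨hxV, hxA₀⟩ := mem_inf.1 hx1
      refine mem_inf.2 ⟨hxV, mem_centralizer_iff.2 fun a ha => ?_⟩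
      have hxj' : x * j = j * x := mem_centralizer_singleton_iff.1 hxj
      rcases hjpair a ha with h | h
      · exact mem_centralizer_iff.1 hxA₀ a h
      · have h' := mem_centralizer_iff.1 hxA₀ _ h
        calc a * x = a * x * (j * j) := by rw [hjj, mul_one]
          _ = a * (x * j) * j := by group
          _ = (a * j * x) * j := by rw [hxj']; group
          _ = x * a * (j * j) := by rw [h']; group
          _ = x * a := by rw [hjj, mul_one]
  have hk2 : Nat.card ↥(V ⊓ centralizer (A : Set G)) = 2 := by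
    have h := max_ineq hA hVe hVT hA₀A
    rw [hX A₀ le_rfl, ← hfixA] at h
    obtain ⟨k, hk⟩ : ∃ k, k = Nat.card ↥(V ⊓ centralizer (A : Set G)) := ⟨_, rfl⟩
    rw [← hk] at h ⊢
    have hk1 : 2 ≤ k := by
      rw [hk]
      have : V ⊓ centralizer (A : Set G) ≠ ⊥ := fun e => hw1 (by
        have := hwA
        rwa [e, mem_bot] at this)
      exact (Subgroup.one_lt_card_iff_ne_bot _).2 this
    have h2 : Nat.card A₀ * (k * k) ≤ Nat.card A₀ * (2 * k) :=
      h.trans (by rw [show Nat.card A₀ * (2 * k) = 2 * Nat.card A₀ * k by ring]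
                  exact Nat.mul_le_mul_right _ hA2)
    have h3 : k * k ≤ 2 * k := Nat.le_of_mul_le_mul_left h2 Nat.card_pos
    nlinarith
  have hVcard : Nat.card V ≤ 4 := by
    obtain ⟨V0, hV0⟩ : ∃ V0, V0 = V ⊓ centralizer ({j} : Set G) := ⟨_, rfl⟩
    have hsq : Nat.card V = Nat.card V0 * Nat.card V0 := by
      have h := card_eq_sq hgen hjj hjc' (le_of_eq hV) hcV hjV
      rwa [← hV0] at h
    suffices hle : V0 ≤ zpowers w by
      have h1 := card_le_of_le hle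
      rw [Nat.card_zpowers] at h1
      have : orderOf w ≤ 2 := orderOf_le_of_pow_eq_one (by norm_num) (by rw [pow_two]; exact hWsq w hw)
      nlinarith
    by_contra hnle
    obtain ⟨v₁, hv₁, hv₁D⟩ := SetLike.not_le_iff_exists.1 hnle
    -- a vector fixed modulo `w`
    let Fx : G → Set G := fun v => {a | a ∈ A ∧ a * v * a⁻¹ * v⁻¹ ∈ zpowers w}
    obtain ⟨v, ⟨hv, hvD⟩, hmax⟩ := (Set.toFinite {v | v ∈ V0 ∧ v ∉ zpowers w}).exists_maximalFor
      (fun v => (Fx v).ncard) _ ⟨v₁, hv₁, hv₁D⟩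
    obtain ⟨hvV, hvj⟩ := mem_inf.1 (hV0 ▸ hv : v ∈ V ⊓ _)
    have hV0V : V0 ≤ V := hV0 ▸ inf_le_left
    have hcommV : ∀ p ∈ V, ∀ q ∈ V, p * q = q * p := fun p hp q hq => comm_of_isElementaryAbelian hVe hp hq
    have hconjV0 : ∀ a ∈ A, ∀ p ∈ V0, a * p * a⁻¹ ∈ V0 := by
      intro a ha p hp
      obtain ⟨hpV, hpj⟩ := mem_inf.1 (hV0 ▸ hp : p ∈ V ⊓ _)
      refine hV0.ge (mem_inf.2 ⟨conj_mem hAV ha hpV, mem_centralizer_singleton_iff.2 ?_⟩)
      have hpj' : p * j = j * p := mem_centralizer_singleton_iff.1 hpj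
      have haj : a * j = j * a := comm_of_isElementaryAbelian hA.2.1 ha hjA
      have haj' : a⁻¹ * j = j * a⁻¹ :=
        comm_of_isElementaryAbelian hA.2.1 (inv_mem ha) hjA
      calc a * p * a⁻¹ * j = a * (p * j) * a⁻¹ := by rw [mul_assoc _ a⁻¹, haj']; group
        _ = (a * j) * p * a⁻¹ := by rw [hpj']; group
        _ = j * (a * p * a⁻¹) := by rw [haj]; group
    have hall : ∀ a ∈ A, a * v * a⁻¹ * v⁻¹ ∈ zpowers w := by
      by_contra hna
      push Not at hna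
      obtain ⟨a, ha, haD⟩ := hna
      have hav := hconjV0 a ha v hv
      have hv' : a * v * a⁻¹ * v⁻¹ ∈ V0 := mul_mem hav (inv_mem hv)
      have hsub : Fx v ⊆ Fx (a * v * a⁻¹ * v⁻¹) := by
        rintro b ⟨hb, hbD⟩
        refine ⟨hb, ?_⟩
        have hab : b * a = a * b := comm_of_isElementaryAbelian hA.2.1 hb ha
        have hwD : ∀ z ∈ zpowers w, a * z * a⁻¹ = z := by
          intro z hz
          have hz' : z ∈ centralizer (A : Set G) :=
            (zpowers_le.2 (mem_inf.1 hwA).2) hz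
          rw [mem_centralizer_iff.1 hz' a ha, mul_inv_cancel_right]
        obtain ⟨t, ht⟩ : ∃ t, t = b * v * b⁻¹ * v⁻¹ := ⟨_, rfl⟩
        rw [← ht] at hbD
        have e : b * (a * v * a⁻¹ * v⁻¹) * b⁻¹ =
            (a * t * a⁻¹) * (a * v * a⁻¹) * v⁻¹ * t⁻¹ := by
          rw [ht]
          calc b * (a * v * a⁻¹ * v⁻¹) * b⁻¹ =
              (b * a) * v * (b * a)⁻¹ * (b * v * b⁻¹)⁻¹ := by group
            _ = (a * b) * v * (a * b)⁻¹ * (b * v * b⁻¹)⁻¹ := by rw [hab]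
            _ = _ := by group
        have htV : t ∈ V := hV0V (mul_mem (hconjV0 b hb v hv) (inv_mem hv) |> fun h => ht ▸ h)
        have hcc : ∀ p ∈ V, t * p = p * t := fun p hp => hcommV t htV p hp
        rw [e, hwD t hbD, show t * (a * v * a⁻¹) * v⁻¹ * t⁻¹ =
          t * (a * v * a⁻¹ * v⁻¹) * t⁻¹ by group, hcc _ (hV0V hv'), mul_inv_cancel_right,
          mul_inv_cancel]
        exact one_mem _
      have hmem : a ∈ Fx (a * v * a⁻¹ * v⁻¹) := by
        refine ⟨ha, ?_⟩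
        have haa : a * a = 1 := by rw [← pow_two]; exact hA.2.1.2 a ha
        have hai : a⁻¹ = a := inv_eq_of_mul_eq_one_right haa
        have hvi : ∀ p ∈ V, p⁻¹ = p := fun p hp =>
          inv_eq_of_mul_eq_one_right (by rw [← pow_two]; exact hVe.2 p hp)
        have h1 : (a * v * a⁻¹ * v⁻¹)⁻¹ = a * v * a⁻¹ * v⁻¹ := hvi _ (hV0V hv')
        have e : a * (a * v * a⁻¹ * v⁻¹) * a⁻¹ = a * v * a⁻¹ * v⁻¹ := by
          conv_rhs => rw [← h1]
          rw [show a * (a * v * a⁻¹ * v⁻¹) * a⁻¹ = (a * a) * v * (a * a)⁻¹ * (a * v⁻¹ * a⁻¹) by group,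
            haa]
          group
        rw [e, mul_inv_cancel]
        exact one_mem _
      have hlt : (Fx v).ncard < (Fx (a * v * a⁻¹ * v⁻¹)).ncard :=
        Set.ncard_lt_ncard (Set.ssubset_iff_of_subset hsub |>.2 ⟨a, hmem, fun h => haD h.2⟩)
          (Set.toFinite _)
      exact absurd (hmax ⟨hv', haD⟩ hlt.le) (not_le.2 hlt)
    -- large fixed space of a large subgroup
    obtain ⟨A₂, hA₂⟩ : ∃ A₂, A₂ = A₀ ⊓ centralizer ({v} : Set G) := ⟨_, rfl⟩
    have hA₂A₀ : A₂ ≤ A₀ := hA₂ ▸ inf_le_left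
    have hwo : ∀ z ∈ zpowers w, z = 1 ∨ z = w := by
      intro z hz
      obtain ⟨n, rfl⟩ := (mem_powers_iff_mem_zpowers (x := w)).2 hz
      show w ^ n = 1 ∨ w ^ n = w
      rcases Nat.even_or_odd n with ⟨k, rfl⟩ | ⟨k, rfl⟩
      · exact Or.inl (by rw [← two_mul, pow_mul, pow_two, hWsq w hw, one_pow])
      · exact Or.inr (by rw [pow_succ, pow_mul, pow_two, hWsq w hw, one_pow, one_mul])
    have hA22 : Nat.card A₀ ≤ 2 * Nat.card A₂ := card_le_two_mul hA₂A₀ fun a ha ha' b hb hb' => by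
      refine hA₂.ge (mem_inf.2 ⟨mul_mem ha hb, mem_centralizer_singleton_iff.2 ?_⟩)
      have hmv : ∀ p ∈ A₀, p ∉ A₂ → p * v * p⁻¹ = w * v := by
        intro p hp hp'
        rcases hwo _ (hall p (hA₀A hp)) with h | h
        · exact absurd (hA₂.ge (mem_inf.2 ⟨hp, mem_centralizer_singleton_iff.2
            (mul_inv_eq_iff_eq_mul.1 (mul_inv_eq_one.1 h))⟩)) hp'
        · exact mul_inv_eq_iff_eq_mul.1 h
      refine mul_inv_eq_iff_eq_mul.1 ?_
      calc a * b * v * (a * b)⁻¹ = a * (b * v * b⁻¹) * a⁻¹ := by group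
        _ = (a * w * a⁻¹) * (a * v * a⁻¹) := by rw [hmv b hb hb']; group
        _ = v := by
            rw [hmv a ha ha', hwfix a (hA₀A ha), mul_inv_cancel_right, ← mul_assoc, hWsq w hw, one_mul]
    have h := max_ineq hA hVe hVT (hA₂A₀.trans hA₀A)
    rw [hk2, hX A₂ hA₂A₀] at h
    obtain ⟨k, hk⟩ : ∃ k, k = Nat.card ↥((V ⊓ centralizer (A₂ : Set G)) ⊓ centralizer ({j} : Set G)) :=
      ⟨_, rfl⟩
    rw [← hk] at h
    have hk3 : 3 ≤ k := by
      rw [hk, ← SetLike.coe_sort_coe, Nat.card_coe_set_eq]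
      have hvne : v ≠ w := fun e => hvD (e ▸ mem_zpowers w)
      have hv1 : v ≠ 1 := fun e => hvD (e ▸ one_mem _)
      have h3 : ({1, w, v} : Finset G).card = 3 := by
        simp [Ne.symm hw1, Ne.symm hv1, Ne.symm hvne]
      rw [← h3, ← Set.ncard_coe_finset]
      refine Set.ncard_le_ncard ?_ (Set.toFinite _)
      intro z hz
      simp only [Finset.coe_insert, Finset.coe_singleton, Set.mem_insert_iff, Set.mem_singleton_iff] at hz
      rcases hz with rfl | rfl | rfl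
      · exact one_mem _
      · exact mem_inf.2 ⟨mem_inf.2 ⟨hWV hw, mem_centralizer_iff.2 fun a ha =>
          hwfix a (hA₀A (hA₂A₀ ha))⟩, mem_centralizer_singleton_iff.2 (hwfix j hjA).symm⟩
      · exact mem_inf.2 ⟨mem_inf.2 ⟨hvV, mem_centralizer_iff.2 fun a ha =>
          mem_centralizer_singleton_iff.1 (mem_inf.1 (hA₂ ▸ ha : a ∈ A₀ ⊓ _)).2⟩, hvj⟩
    have h1 : Nat.card A * 2 ≤ Nat.card A₂ * 8 := by omega
    have h2 := h.trans h1
    have h3 : k * k ≤ 8 := Nat.le_of_mul_le_mul_left h2 Nat.card_pos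
    nlinarith
  refine ⟨K, ⟨hKgen, hcomm, ?_, fun S hS hJS => ?_, ?_, fun z hz => ?_⟩, hKL, ?_⟩
  · show (coreOf K).relIndex K = 3
    rw [hcoreK, hRidx]
  · obtain ⟨g, hg, hle⟩ := exists_conjBy_le hLT.1 hS.2.1
      (hS.1.trans (sup_le hKL ((jOf_le T).trans hTL)))
    exact jOf_eq_of_conj_le hJS hle
  · rw [← hV]
    exact le_antisymm hVcard (hW4 ▸ card_le_of_le hWV)
  · rw [← pow_two]
    exact hVe.2 z (hV ▸ hz)
  · rcases d.line_rep i hcline with h | h | h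
    · exact absurd h hcnC
    · have := mul_mem (inv_mem (mem_sup_right (S := K) h)) (mem_sup_left (T := cOf L) hcK)
      simpa [mul_assoc] using this
    · have := mul_mem (inv_mem (mem_sup_left (T := cOf L) hcK)) (mem_sup_right (S := K) h)
      simpa [mul_assoc] using this

end Data

end CfsgLib.JComp
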