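import Cfsg.Agent.Lib.JComp.Component

/-!
# The splitting of `Ω₁(Z(J(T)))` along a component
-/

set_option autoImplicit false
set_option linter.style.haveILetI false
set_option linter.unusedSectionVars false

open Subgroup
open scoped commutatorElement

namespace CfsgLib.JComp

open CfsgLib.Fusion (IsMaxEA conjBy)
open CfsgLib.EABasic (comm_of_isElementaryAbelian)

universe u

variable {G : Type u} [Group G] [Finite G] {T K : Subgroup G}

theorem card_center_inter (hK : Cfsg.IsJComponent T K) (hT : IsPGroup 2 T) :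
    Nat.card ↥(Cfsg.omegaCenterOf (jOf T) ⊓ Cfsg.wOf K) = 2 := by
  obtain ⟨A, hA, a, ha, haW⟩ := exists_moving hK hT
  obtain ⟨-, hWA, -⟩ := moving_facts hK hT hA ha haW
  refine le_antisymm (hWA ▸ card_le_of_le fun x hx => ⟨hx.2, mem_centralizer_iff.2 fun b hb =>
    (mem_omegaCenterOf.1 hx.1).2.1 b (le_jOf hA hb)⟩) ?_
  obtain ⟨w, hw, hw1, hwfix⟩ := exists_fixed (jOf_isPGroup hK hT)
    ((le_sup_right).trans (x_le_normalizer_wOf hK)) (isPGroup_four (wOf_sq hK)) (wOf_ne_bot hK)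
  haveI : Nontrivial ↥(Cfsg.omegaCenterOf (jOf T) ⊓ Cfsg.wOf K) :=
    ⟨⟨⟨w, mem_omegaCenterOf.2 ⟨wOf_le_jOf hK hT hw, hwfix, by rw [pow_two]; exact wOf_sq hK w hw⟩, hw⟩,
      1, fun h => hw1 (congrArg Subtype.val h)⟩⟩
  exact Finite.one_lt_card

theorem center_split (hK : Cfsg.IsJComponent T K) (hT : IsPGroup 2 T) {f : G}
    (hf : f ∈ Cfsg.omegaCenterOf (jOf T)) :
    f ∈ (Cfsg.omegaCenterOf (jOf T) ⊓ ((K ⊔ jOf T) ⊓ centralizer ((K ⊔ jOf T : Subgroup G) : Set G))) ⊔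
      (Cfsg.omegaCenterOf (jOf T) ⊓ Cfsg.wOf K) := by
  obtain ⟨c, hc⟩ := exists_isGen hK.2.2.1
  obtain ⟨R', hR'⟩ : ∃ R', R' = (K ⊔ jOf T) ⊓ centralizer (Cfsg.wOf K : Set G) := ⟨_, rfl⟩
  have hR'p : IsPGroup 2 R' := hR' ▸ inf_centralizer_isPGroup hK hT
  have hXW := x_le_normalizer_wOf hK
  have hXR' : K ⊔ jOf T ≤ normalizer (R' : Set G) := by
    refine le_normalizer_of_conj fun x hx y hy => ?_
    rw [hR'] at hy ⊢
    refine ⟨(K ⊔ jOf T).mul_mem ((K ⊔ jOf T).mul_mem hx (mem_inf.1 hy).1) ((K ⊔ jOf T).inv_mem hx), mem_centralizer_iff.2 fun w hw => ?_⟩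
    have hw' : x⁻¹ * w * x ∈ Cfsg.wOf K := by simpa using conj_mem hXW (inv_mem hx) hw
    calc w * (x * y * x⁻¹) = x * ((x⁻¹ * w * x) * y) * x⁻¹ := by group
      _ = x * (y * (x⁻¹ * w * x)) * x⁻¹ := by rw [mem_centralizer_iff.1 hy.2 _ hw']
      _ = x * y * x⁻¹ * w := by group
  have hR'X : R' ≤ K ⊔ jOf T := hR' ▸ inf_le_left
  -- the Sylow group above `R'`
  obtain ⟨hmaxS, hJS⟩ := cond_two hK hT (P := R' ⊔ jOf T)
    (hR'p.to_sup_of_normal_left' (jOf_isPGroup hK hT) (le_sup_right.trans hXR'))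
    le_sup_right (sup_le hR'X le_sup_right)
  have hZe := omegaCenterOf_ea (jOf T)
  have hZJ : ∀ z ∈ Cfsg.omegaCenterOf (jOf T), z ∈ jOf T ∧ ∀ y ∈ jOf T, y * z = z * y := fun z hz =>
    ⟨(mem_omegaCenterOf.1 hz).1, (mem_omegaCenterOf.1 hz).2.1⟩
  have hZR' : Cfsg.omegaCenterOf (jOf T) ≤ R' := fun z hz => hR' ▸
    ⟨mem_sup_right (hZJ z hz).1, mem_centralizer_iff.2 fun w hw => (hZJ z hz).2 w (wOf_le_jOf hK hT hw)⟩
  -- the largest subgroups of `R'`
  obtain ⟨A, hA, a, ha, haW⟩ := exists_moving hK hT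
  have hmove : ∀ A, IsMaxEA 2 T A → ∀ a ∈ A, a ∉ centralizer (Cfsg.wOf K : Set G) →
      IsMaxEA 2 R' ((A ⊓ centralizer (Cfsg.wOf K : Set G)) ⊔ Cfsg.wOf K) := by
    intro A hA a ha haW
    have hm := (moving_facts hK hT hA ha haW).2.2
    refine ⟨sup_le (fun x hx => hR' ▸ ⟨mem_sup_right (le_jOf hA hx.1), hx.2⟩) (fun x hx => hR' ▸
      ⟨mem_sup_left (pCoreOf_le 2 K (wOf_le_core K hx)), mem_centralizer_iff.2 fun w hw =>
        comm_of_isElementaryAbelian (omegaCenterOf_ea _) (wOf_le_uOf K hw) (wOf_le_uOf K hx)⟩), hm.2.1,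
      fun B hB hBe => (hmaxS _ hm).2.2 B (hB.trans le_sup_left) hBe⟩
  have hA₁ := hmove A hA a ha haW
  have hmaxR : ∀ B, IsMaxEA 2 R' B → B ≤ jOf T := fun B hB => by
    rw [← hJS]
    refine le_jOf ⟨hB.1.trans le_sup_left, hB.2.1, fun D hD hDe => ?_⟩
    rw [max_card_eq hB hA₁]
    exact (hmaxS _ (moving_facts hK hT hA ha haW).2.2).2.2 D hD hDe
  obtain ⟨V, hV⟩ : ∃ V, V = Cfsg.omegaCenterOf (jOf R') := ⟨_, rfl⟩
  have hVe : Cfsg.IsElementaryAbelian 2 V := hV ▸ omegaCenterOf_ea _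
  have hfV : f ∈ V := by
    rw [hV]
    refine mem_omegaCenterOf.2 ⟨le_jOf hA₁ (le_max_of_commute hA₁ hZe hZR'
      (fun x hx z hz => (hZJ z hz).2 x (hmaxR _ hA₁ hx)) hf), fun y hy => ?_, (mem_omegaCenterOf.1 hf).2.2⟩
    exact (hZJ f hf).2 y (jOf_le_iff.2 hmaxR hy)
  have hVle : ∀ B, IsMaxEA 2 R' B → V ≤ B := fun B hB => le_max_of_commute hB hVe
    (hV ▸ fun x hx => jOf_le R' (mem_omegaCenterOf.1 hx).1)
    (hV ▸ fun x hx v hv => (mem_omegaCenterOf.1 hv).2.1 x (le_jOf hB hx))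
  have hXV : K ⊔ jOf T ≤ normalizer (V : Set G) :=
    hV ▸ (hXR'.trans (CfsgLib.Fusion.normalizer_le_normalizer_thompsonSubgroupOf R')).trans
      (normalizer_le_normalizer_omegaCenterOf _)
  -- the subgroup acting trivially on `V / W`
  obtain ⟨D, hD⟩ : ∃ D : Subgroup G, ∀ x, x ∈ D ↔ x ∈ normalizer (Cfsg.wOf K : Set G) ∧
      x ∈ normalizer (V : Set G) ∧ ∀ v ∈ V, x * v * x⁻¹ * v⁻¹ ∈ Cfsg.wOf K := by
    refine ⟨{ carrier := {x | x ∈ normalizer (Cfsg.wOf K : Set G) ∧ x ∈ normalizer (V : Set G) ∧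
                ∀ v ∈ V, x * v * x⁻¹ * v⁻¹ ∈ Cfsg.wOf K}
              one_mem' := ⟨one_mem _, one_mem _, fun v _ => by simp [one_mem]⟩
              mul_mem' := ?_
              inv_mem' := ?_ }, fun x => Iff.rfl⟩
    · rintro x y ⟨hx1, hx2, hx3⟩ ⟨hy1, hy2, hy3⟩
      refine ⟨mul_mem hx1 hy1, mul_mem hx2 hy2, fun v hv => ?_⟩
      rw [show x * y * v * (x * y)⁻¹ * v⁻¹ =
        (x * (y * v * y⁻¹ * v⁻¹) * x⁻¹) * (x * v * x⁻¹ * v⁻¹) by group]
      exact mul_mem (conj_mem le_rfl hx1 (hy3 v hv)) (hx3 v hv)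
    · rintro x ⟨hx1, hx2, hx3⟩
      refine ⟨inv_mem hx1, inv_mem hx2, fun v hv => ?_⟩
      rw [show x⁻¹ * v * x⁻¹⁻¹ * v⁻¹ = x⁻¹ * (x * v * x⁻¹ * v⁻¹)⁻¹ * x⁻¹⁻¹ by group]
      exact conj_mem le_rfl (inv_mem hx1) (inv_mem (hx3 v hv))
  have hJD : jOf T ≤ D := by
    refine jOf_le_iff.2 fun B hB b hb => ?_
    have hbX : b ∈ K ⊔ jOf T := mem_sup_right (le_jOf hB hb)
    refine (hD b).2 ⟨hXW hbX, hXV hbX, fun v hv => ?_⟩
    by_cases h : ∃ b' ∈ B, b' ∉ centralizer (Cfsg.wOf K : Set G)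
    · obtain ⟨b', hb', hb'W⟩ := h
      have hv' := hVle _ (hmove B hB b' hb' hb'W) hv
      obtain ⟨y, hy, x, hx, rfl⟩ := CfsgLib.RootSub.mem_sup_of_commute
        (H := B ⊓ centralizer (Cfsg.wOf K : Set G)) (K := Cfsg.wOf K)
        (fun p hp q hq => (mem_centralizer_iff.1 hp.2 q hq).symm) hv'
      have hby : b * y = y * b := comm_of_isElementaryAbelian hB.2.1 hb hy.1
      rw [show b * (y * x) * b⁻¹ * (y * x)⁻¹ = (b * y * b⁻¹) * ((b * x * b⁻¹) * x⁻¹) * y⁻¹ by group,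
        hby, mul_inv_cancel_right]
      have hz : b * x * b⁻¹ * x⁻¹ ∈ Cfsg.wOf K := mul_mem (conj_mem hXW hbX hx) (inv_mem hx)
      rw [← mem_centralizer_iff.1 hy.2 _ hz, mul_inv_cancel_right]
      exact hz
    · push Not at h
      have hBR : IsMaxEA 2 R' B := ⟨fun x hx => hR' ▸ ⟨mem_sup_right (le_jOf hB hx), h x hx⟩, hB.2.1,
        fun E hE hEe => (hmaxS B hB).2.2 E (hE.trans le_sup_left) hEe⟩
      rw [comm_of_isElementaryAbelian hB.2.1 hb (hVle B hBR hv), mul_inv_cancel_right, mul_inv_cancel]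
      exact one_mem _
  have hKD : K ≤ D := by
    conv_lhs => rw [← hK.2.1]
    refine commutator_le.2 fun k hk j hj => ?_
    rw [commutatorElement_def]
    refine mul_mem ?_ (inv_mem (hJD hj))
    obtain ⟨h1, h2, h3⟩ := (hD j).1 (hJD hj)
    have hkW : k ∈ normalizer (Cfsg.wOf K : Set G) := hXW (mem_sup_left hk)
    have hkV : k ∈ normalizer (V : Set G) := hXV (mem_sup_left hk)
    refine (hD _).2 ⟨mul_mem (mul_mem hkW h1) (inv_mem hkW), mul_mem (mul_mem hkV h2) (inv_mem hkV),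
      fun v hv => ?_⟩
    rw [show k * j * k⁻¹ * v * (k * j * k⁻¹)⁻¹ * v⁻¹ =
      k * (j * (k⁻¹ * v * k) * j⁻¹ * (k⁻¹ * v * k)⁻¹) * k⁻¹ by group]
    exact conj_mem le_rfl hkW (h3 _ (by simpa using conj_mem le_rfl (inv_mem hkV) hv))
  have hcf : c * f * c⁻¹ * f⁻¹ ∈ Cfsg.wOf K := ((hD c).1 (hKD hc.mem)).2.2 f hfV
  -- adjust by an element of `W`
  obtain ⟨u, hu, hcu⟩ : ∃ u ∈ Cfsg.wOf K, c * u * c⁻¹ * u⁻¹ = c * f * c⁻¹ * f⁻¹ := by
    let φ : Cfsg.wOf K → Cfsg.wOf K := fun w => ⟨c * w * c⁻¹ * (w : G)⁻¹,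
      mul_mem (conj_mem hXW (mem_sup_left hc.mem) w.2) (inv_mem w.2)⟩
    have hinj : Function.Injective φ := by
      rintro ⟨x, hx⟩ ⟨y, hy⟩ h
      have h' : c * x * c⁻¹ * x⁻¹ = c * y * c⁻¹ * y⁻¹ := congrArg Subtype.val h
      have hxy : c * (y⁻¹ * x) * c⁻¹ = y⁻¹ * x := by
        calc c * (y⁻¹ * x) * c⁻¹ = (c * y * c⁻¹)⁻¹ * (c * x * c⁻¹ * x⁻¹) * x := by group
          _ = y⁻¹ * x := by rw [h']; group
      exact Subtype.ext (inv_mul_eq_one.1 (hc.wOf_eq_one (mul_mem (inv_mem hy) hx) hxy)).symm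
    obtain ⟨⟨u, hu⟩, h⟩ := Finite.surjective_of_injective hinj ⟨_, hcf⟩
    exact ⟨u, hu, congrArg Subtype.val h⟩
  have hui : u⁻¹ = u := inv_eq_of_mul_eq_one_right (wOf_sq hK u hu)
  have hfu : f * u = u * f := ((hZJ f hf).2 u (wOf_le_jOf hK hT hu)).symm
  have hcf0 : c * (f * u) * c⁻¹ = f * u := by
    calc c * (f * u) * c⁻¹ = (c * f * c⁻¹ * f⁻¹) * f * (c * u * c⁻¹) := by group
      _ = (c * u * c⁻¹ * u⁻¹) * f * (c * u * c⁻¹) := by rw [hcu]
      _ = (c * u * c⁻¹ * u⁻¹) * (c * u * c⁻¹) * f := by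
          rw [mul_assoc, ← (hZJ f hf).2 _ (wOf_le_jOf hK hT (conj_mem hXW (mem_sup_left hc.mem) hu)),
            ← mul_assoc]
      _ = u * ((c * u * c⁻¹) * (c * u * c⁻¹)) * f := by
          rw [hui, comm_of_isElementaryAbelian (omegaCenterOf_ea _)
            (wOf_le_uOf K (conj_mem hXW (mem_sup_left hc.mem) hu)) (wOf_le_uOf K hu)]
          group
      _ = f * u := by rw [wOf_sq hK _ (conj_mem hXW (mem_sup_left hc.mem) hu), mul_one, hfu]
  by_cases huJ : ∀ j ∈ jOf T, j * u = u * j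
  · -- `u` is central in `J(T)`
    have huZ : u ∈ Cfsg.omegaCenterOf (jOf T) :=
      mem_omegaCenterOf.2 ⟨wOf_le_jOf hK hT hu, huJ, by rw [pow_two]; exact wOf_sq hK u hu⟩
    have hN : K ⊔ jOf T ≤ centralizer ({f * u} : Set G) := by
      obtain ⟨N, hN⟩ : ∃ N : Subgroup G, N = jOf T ⊔ zpowers c := ⟨_, rfl⟩
      have hNc : N ≤ centralizer ({f * u} : Set G) := by
        rw [hN]
        refine sup_le (fun j hj => mem_centralizer_singleton_iff.2
          ((mem_omegaCenterOf.1 (mul_mem hf huZ)).2.1 j hj)) ?_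
        rw [zpowers_le, mem_centralizer_singleton_iff]
        exact mul_inv_eq_iff_eq_mul.1 hcf0
      have hconj : ∀ k ∈ K, ∀ j ∈ jOf T, k * j * k⁻¹ ∈ N := by
        intro k hk j hj
        obtain ⟨i, r, hr, rfl⟩ := hc.gen k hk
        have hrS : r ∈ R' ⊔ jOf T := mem_sup_left (hR' ▸ ⟨mem_sup_left (pCoreOf_le 2 K hr),
          mem_centralizer_iff.2 fun w hw => (core_fix hr (wOf_le_uOf K hw)).symm⟩)
        have h1 : r * j * r⁻¹ ∈ jOf T := by
          have := (CfsgLib.Fusion.normalizer_le_normalizer_thompsonSubgroupOf (p := 2) (R' ⊔ jOf T))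
            (le_normalizer hrS)
          rw [← hJS] at hj ⊢
          exact conj_mem le_rfl this hj
        rw [show c ^ i * r * j * (c ^ i * r)⁻¹ = c ^ i * (r * j * r⁻¹) * (c ^ i)⁻¹ by group, hN]
        exact mul_mem (mul_mem (mem_sup_right (pow_mem (mem_zpowers c) i)) (mem_sup_left h1))
          (inv_mem (mem_sup_right (pow_mem (mem_zpowers c) i)))
      refine sup_le ?_ ((hN ▸ le_sup_left).trans hNc)
      conv_lhs => rw [← hK.2.1]
      refine (commutator_le.2 fun k hk j hj => ?_ : ⁅K, jOf T⁆ ≤ N).trans hNc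
      rw [commutatorElement_def]
      exact mul_mem (hconj k hk j hj) (inv_mem (hN ▸ mem_sup_left hj))
    have h1 : f * u ∈ Cfsg.omegaCenterOf (jOf T) ⊓
        ((K ⊔ jOf T) ⊓ centralizer ((K ⊔ jOf T : Subgroup G) : Set G)) :=
      ⟨mul_mem hf huZ, mem_sup_right (mem_omegaCenterOf.1 (mul_mem hf huZ)).1,
        mem_centralizer_iff.2 fun x hx => mem_centralizer_singleton_iff.1 (hN hx)⟩
    have := mul_mem (mem_sup_left h1 : f * u ∈ _ ⊔ (Cfsg.omegaCenterOf (jOf T) ⊓ Cfsg.wOf K))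
      (mem_sup_right (⟨huZ, hu⟩ : u ∈ Cfsg.omegaCenterOf (jOf T) ⊓ Cfsg.wOf K))
    rwa [mul_assoc, wOf_sq hK u hu, mul_one] at this
  · -- impossible
    exfalso
    push Not at huJ
    obtain ⟨j, hj, hju⟩ := huJ
    have hjX : j ∈ K ⊔ jOf T := mem_sup_right hj
    obtain ⟨w, hwdef⟩ : ∃ w, w = j * u * j⁻¹ * u⁻¹ := ⟨_, rfl⟩
    have hwW : w ∈ Cfsg.wOf K := hwdef ▸ mul_mem (conj_mem hXW hjX hu) (inv_mem hu)
    have hw1 : w ≠ 1 := fun h => hju (mul_inv_eq_iff_eq_mul.1 (mul_inv_eq_one.1 (hwdef ▸ h)))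
    obtain ⟨z, hz⟩ : ∃ z, z = Cfsg.omegaCenterOf (jOf T) ⊓ Cfsg.wOf K := ⟨_, rfl⟩
    have hjf : j * (f * u) * j⁻¹ = (f * u) * w := by
      calc j * (f * u) * j⁻¹ = (j * f * j⁻¹) * (j * u * j⁻¹) := by group
        _ = f * (j * u * j⁻¹) := by rw [(hZJ f hf).2 j hj, mul_inv_cancel_right]
        _ = f * (u * (j * u * j⁻¹ * u⁻¹)) := by
            rw [comm_of_isElementaryAbelian (omegaCenterOf_ea _) (wOf_le_uOf K (conj_mem hXW hjX hu))
              (inv_mem (wOf_le_uOf K hu)), ← mul_assoc u, mul_inv_cancel, one_mul]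
        _ = (f * u) * w := by rw [hwdef]; group
    -- `w` lies in the centre part
    have hwfix : ∀ b ∈ jOf T, b * w = w * b := by
      intro b hb
      have hJp := jOf_isPGroup hK hT
      obtain ⟨w₀, hw₀, hw₀1, hfix⟩ := exists_fixed hJp (le_sup_right.trans hXW)
        (isPGroup_four (wOf_sq hK)) (wOf_ne_bot hK)
      have hu1 : u ≠ 1 := fun h => hju (by rw [h, mul_one, one_mul])
      have huw : w₀ ≠ u := fun h => hju (h ▸ hfix j hj)
      rcases four_cases hK.2.2.2.2.1 (wOf_sq hK) hw₀ hu hw₀1 hu1 huw (conj_mem hXW hjX hu) with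
        h | h | h | h
      · exact absurd (conj_eq_one_iff.1 h) hu1
      · refine absurd ?_ huw
        rw [mul_inv_eq_iff_eq_mul, ← hfix j hj] at h
        exact (mul_left_cancel h).symm
      · exact absurd (mul_inv_eq_iff_eq_mul.1 h) hju
      · rw [hwdef, h, mul_inv_cancel_right]
        exact hfix b hb
    -- the conjugate generator
    have hc' : j * c * j⁻¹ ∈ K := conj_mem (j_le_normalizer hK) hj hc.mem
    obtain ⟨i, r, hr, hcr⟩ := hc.gen _ hc'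
    have hfix' : (j * c * j⁻¹) * ((f * u) * w) * (j * c * j⁻¹)⁻¹ = (f * u) * w := by
      rw [← hjf]
      calc j * c * j⁻¹ * (j * (f * u) * j⁻¹) * (j * c * j⁻¹)⁻¹ = j * (c * (f * u) * c⁻¹) * j⁻¹ := by group
        _ = _ := by rw [hcf0]
    have hrS : r ∈ R' ⊔ jOf T := mem_sup_left (hR' ▸ ⟨mem_sup_left (pCoreOf_le 2 K hr),
      mem_centralizer_iff.2 fun w hw => (core_fix hr (wOf_le_uOf K hw)).symm⟩)
    have hrf : r * f * r⁻¹ * f⁻¹ ∈ Cfsg.omegaCenterOf (jOf T) ⊓ Cfsg.wOf K := by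
      refine ⟨Subgroup.mul_mem _ ?_ (Subgroup.inv_mem _ hf), ((hD r).1 (hKD (pCoreOf_le 2 K hr))).2.2 f hfV⟩
      have := (CfsgLib.Fusion.normalizer_le_normalizer_thompsonSubgroupOf (p := 2) (R' ⊔ jOf T)).trans
        (normalizer_le_normalizer_omegaCenterOf _) (le_normalizer hrS)
      rw [← hJS] at hf ⊢
      exact conj_mem le_rfl this hf
    obtain ⟨e, he⟩ : ∃ e, e = r * f * r⁻¹ * f⁻¹ := ⟨_, rfl⟩
    rw [← he] at hrf
    have hrfu : r * ((f * u) * w) * r⁻¹ = e * ((f * u) * w) := by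
      calc r * ((f * u) * w) * r⁻¹ = (r * f * r⁻¹) * (r * (u * w) * r⁻¹) := by group
        _ = (r * f * r⁻¹) * (u * w) := by
            rw [core_fix hr (wOf_le_uOf K (mul_mem hu hwW)), mul_inv_cancel_right]
        _ = e * ((f * u) * w) := by rw [he]; group
    rw [hcr] at hfix'
    have hci : c ^ i * (f * u) * (c ^ i)⁻¹ = f * u := by
      have : c ∈ centralizer ({f * u} : Set G) := mem_centralizer_singleton_iff.2 (mul_inv_eq_iff_eq_mul.1 hcf0)
      rw [mem_centralizer_singleton_iff.1 (pow_mem this i), mul_inv_cancel_right]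
    -- `c ^ i` moves the fixed element into the centre part
    have hkey : c ^ i * (e * w) * (c ^ i)⁻¹ = w := by
      have hcomm : ∀ {x : G}, x ∈ Cfsg.wOf K → x * f = f * x := fun hx => (hZJ f hf).2 _ (wOf_le_jOf hK hT hx)
      have h1 : e * ((f * u) * w) = (f * u) * (e * w) := by
        calc e * ((f * u) * w) = (e * f) * u * w := by group
          _ = (f * e) * u * w := by rw [hcomm hrf.2]
          _ = f * (e * u) * w := by group
          _ = f * (u * e) * w := by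
              rw [comm_of_isElementaryAbelian (omegaCenterOf_ea _) (wOf_le_uOf K hrf.2) (wOf_le_uOf K hu)]
          _ = (f * u) * (e * w) := by group
      have h2 : c ^ i * r * ((f * u) * w) * (c ^ i * r)⁻¹ =
          (c ^ i * (f * u) * (c ^ i)⁻¹) * (c ^ i * (e * w) * (c ^ i)⁻¹) := by
        rw [show c ^ i * r * ((f * u) * w) * (c ^ i * r)⁻¹ =
          c ^ i * (r * ((f * u) * w) * r⁻¹) * (c ^ i)⁻¹ by group, hrfu, h1]
        group
      rw [h2, hci] at hfix'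
      exact mul_left_cancel hfix'
    -- both lie in a group of order two, so `e * w = w`
    have hwZ : w ∈ Cfsg.omegaCenterOf (jOf T) ⊓ Cfsg.wOf K :=
      ⟨mem_omegaCenterOf.2 ⟨wOf_le_jOf hK hT hwW, hwfix, by rw [pow_two]; exact wOf_sq hK w hwW⟩, hwW⟩
    have hewW := mul_mem hrf hwZ
    have hew : e * w = w := by
      by_contra hne
      have hew1 : e * w ≠ 1 := fun h => hw1 (by rw [h] at hkey; simpa using hkey.symm)
      have h2 := card_center_inter hK hT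
      haveI : Fact (Nat.Prime 2) := ⟨Nat.prime_two⟩
      obtain ⟨x₀, -, huniq⟩ := (Nat.card_eq_two_iff' (1 : ↥(Cfsg.omegaCenterOf (jOf T) ⊓ Cfsg.wOf K))).1 h2
      exact hne (congrArg Subtype.val ((huniq ⟨_, hewW⟩ (fun h => hew1 (congrArg Subtype.val h))).trans
        (huniq ⟨w, hwZ⟩ (fun h => hw1 (congrArg Subtype.val h))).symm))
    rw [hew] at hkey
    have hciW : c ^ i ∈ centralizer ({w} : Set G) :=
      mem_centralizer_singleton_iff.2 (mul_inv_eq_iff_eq_mul.1 hkey)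
    -- hence the conjugate generator fixes `w`
    have hjw : (j * c * j⁻¹) * w * (j * c * j⁻¹)⁻¹ = w := by
      rw [hcr, show c ^ i * r * w * (c ^ i * r)⁻¹ = c ^ i * (r * w * r⁻¹) * (c ^ i)⁻¹ by group,
        core_fix hr (wOf_le_uOf K hwW), mul_inv_cancel_right, hkey]
    refine hw1 (hc.wOf_eq_one hwW ?_)
    have hj' : j⁻¹ * w * j = w := by rw [mul_assoc, ← hwfix j hj, inv_mul_cancel_left]
    calc c * w * c⁻¹ = j⁻¹ * ((j * c * j⁻¹) * (j * w * j⁻¹) * (j * c * j⁻¹)⁻¹) * j := by group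
      _ = j⁻¹ * w * j := by rw [hwfix j hj, mul_inv_cancel_right, hjw]
      _ = w := hj'

end CfsgLib.JComp
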