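import Cfsg.Agent.Lib.JComp.Straddle
import Cfsg.Agent.Lib.JComp.Split

/-!
# Families of components whose local overgroups keep the Thompson subgroup
-/

set_option autoImplicit false
set_option linter.style.haveILetI false
set_option linter.unusedSectionVars false

open Subgroup
open scoped commutatorElement

namespace CfsgLib.JComp

open CfsgLib.Fusion (conjBy)
open CfsgLib.EABasic (comm_of_isElementaryAbelian)

universe u

variable {G : Type u} [Group G]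

/-- `Ω₁(Z(J(T)))` -/
abbrev zJ (T : Subgroup G) : Subgroup G := Cfsg.omegaCenterOf (jOf T)

/-- the part of `Ω₁(Z(J(T)))` centralizing `K` -/
abbrev cPart (T K : Subgroup G) : Subgroup G := zJ T ⊓ centralizer (K : Set G)

/-- the part of `Ω₁(Z(J(T)))` in the four group of `K` -/
abbrev zPart (T K : Subgroup G) : Subgroup G := zJ T ⊓ Cfsg.wOf K

/-- `K` is a component all of whose local overgroups containing `J(T)` keep it as Thompson subgroup. -/
def KeepsJ (T K : Subgroup G) : Prop :=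
  Cfsg.IsJComponent T K ∧ ∀ L T0 : Subgroup G, Cfsg.IsTwoLocal L → K ≤ L →
    Cfsg.IsSylowTwoIn T0 L → jOf T ≤ T0 → jOf T0 = jOf T

/-- two subgroups lie with `J(T)` in one `2`-local subgroup -/
def Compat (T K K' : Subgroup G) : Prop :=
  ∃ L : Subgroup G, Cfsg.IsTwoLocal L ∧ jOf T ≤ L ∧ K ≤ L ∧ K' ≤ L

/-- no other conjugate under `N(J(T))` is compatible -/
def Fixed (T K : Subgroup G) : Prop :=
  ∀ n ∈ normalizer (jOf T : Set G), Compat T K (conjBy n K) → conjBy n K = K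

theorem Compat.symm {T K K' : Subgroup G} : Compat T K K' → Compat T K' K :=
  fun ⟨L, h1, h2, h3, h4⟩ => ⟨L, h1, h2, h4, h3⟩

/-! ### Elementary facts -/

theorem two_local_centralizer_singleton {v : G} (hv : v * v = 1) (hv1 : v ≠ 1) :
    Cfsg.IsTwoLocal (centralizer ({v} : Set G)) := by
  have hmem : ∀ y : G, y ∈ zpowers v → y = 1 ∨ y = v := by
    intro y hy
    obtain ⟨i, rfl⟩ := mem_zpowers_iff.1 hy
    have h2 : v ^ (2 : ℤ) = 1 := by rw [zpow_two, hv]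
    rcases Int.even_or_odd i with ⟨j, rfl⟩ | ⟨j, rfl⟩
    · exact Or.inl (by rw [← two_mul, zpow_mul, h2, one_zpow])
    · exact Or.inr (by rw [zpow_add, zpow_mul, h2, one_zpow, one_mul, zpow_one])
  refine ⟨zpowers v, fun y => ⟨1, Subtype.ext ?_⟩, fun h => hv1 (mem_bot.1 (h ▸ mem_zpowers v)), ?_⟩
  · rw [pow_one, pow_two]
    rcases hmem _ y.2 with h | h <;> simp [h, hv]
  · ext x
    constructor
    · intro hx
      exact centralizer_le_normalizer _ (mem_centralizer_iff.2 fun y hy => by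
        rcases hmem y hy with rfl | rfl
        · simp
        · exact (mem_centralizer_singleton_iff.1 hx).symm)
    · intro hx
      rcases hmem _ ((mem_normalizer_iff.1 hx v).1 (mem_zpowers v)) with h | h
      · exact absurd (conj_eq_one_iff.1 h) hv1
      · exact mem_centralizer_singleton_iff.2 (mul_inv_eq_iff_eq_mul.1 h)

theorem exists_ne_one_of_card_two {X : Subgroup G} (h : Nat.card X = 2) : ∃ x ∈ X, x ≠ 1 := by
  obtain ⟨⟨x, hx⟩, hx1⟩ := (Subgroup.ne_bot_iff_exists_ne_one (H := X)).1 (fun e => by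
    rw [e, Subgroup.card_bot] at h; omega)
  exact ⟨x, hx, fun e => hx1 (Subtype.ext e)⟩

theorem eq_of_card_two {X : Subgroup G} (h : Nat.card X = 2) {x y : G} (hx : x ∈ X) (hy : y ∈ X)
    (hx1 : x ≠ 1) (hy1 : y ≠ 1) : x = y := by
  obtain ⟨a, -, huniq⟩ := (Nat.card_eq_two_iff' (1 : ↥X)).1 h
  exact congrArg Subtype.val ((huniq ⟨x, hx⟩ fun e => hx1 (congrArg Subtype.val e)).trans
    (huniq ⟨y, hy⟩ fun e => hy1 (congrArg Subtype.val e)).symm)

variable [Finite G]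

theorem zJ_le (T : Subgroup G) : zJ T ≤ jOf T := fun _ h => (mem_omegaCenterOf.1 h).1

theorem jOf_le_centralizer_singleton {T : Subgroup G} {v : G} (hv : v ∈ zJ T) :
    jOf T ≤ centralizer ({v} : Set G) := fun _j hj =>
  mem_centralizer_singleton_iff.2 ((mem_omegaCenterOf.1 hv).2.1 _ hj)

theorem le_centralizer_of_mem_cPart {T K : Subgroup G} {v : G} (hv : v ∈ cPart T K) :
    K ≤ centralizer ({v} : Set G) := fun _k hk =>
  mem_centralizer_singleton_iff.2 (mem_centralizer_iff.1 hv.2 _ hk)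

theorem zJ_sq {T : Subgroup G} {v : G} (hv : v ∈ zJ T) : v * v = 1 := by
  rw [← pow_two]; exact (mem_omegaCenterOf.1 hv).2.2

theorem compat_of_mem {T K K' : Subgroup G} {v : G} (hv : v ∈ cPart T K) (hv' : v ∈ cPart T K')
    (hv1 : v ≠ 1) : Compat T K K' :=
  ⟨_, two_local_centralizer_singleton (zJ_sq hv.1) hv1, jOf_le_centralizer_singleton hv.1,
    le_centralizer_of_mem_cPart hv, le_centralizer_of_mem_cPart hv'⟩

/-- an element of `Ω₁(Z(T))` lies in `Ω₁(Z(J(T)))` -/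
theorem omegaCenterOf_le_zJ (T : Subgroup G) : Cfsg.omegaCenterOf T ≤ zJ T := by
  intro z hz
  obtain ⟨h1, h2, h3⟩ := mem_omegaCenterOf.1 hz
  obtain ⟨A, hA⟩ := exists_max T
  have hzA : Cfsg.omegaCenterOf T ≤ A := le_max_of_commute hA (omegaCenterOf_ea T)
    (fun x hx => (mem_omegaCenterOf.1 hx).1) fun a ha v hv => (mem_omegaCenterOf.1 hv).2.1 a (hA.1 ha)
  exact mem_omegaCenterOf.2 ⟨le_jOf hA (hzA hz), fun y hy => h2 y (jOf_le T hy), h3⟩

theorem le_normalizer_jOf (T : Subgroup G) : T ≤ normalizer (jOf T : Set G) :=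
  le_normalizer.trans (CfsgLib.Fusion.normalizer_le_normalizer_thompsonSubgroupOf T)

theorem normalizer_jOf_le_normalizer_zJ (T : Subgroup G) :
    normalizer (jOf T : Set G) ≤ normalizer (zJ T : Set G) :=
  normalizer_le_normalizer_omegaCenterOf _

/-- Conjugation by an element of `N(J(T))`. -/
theorem isJComponent_conjBy_normalizer {T K : Subgroup G} (hK : Cfsg.IsJComponent T K) {n : G}
    (hn : n ∈ normalizer (jOf T : Set G)) : Cfsg.IsJComponent T (conjBy n K) :=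
  isJComponent_of_jOf_eq (by rw [← conjBy_jOf, CfsgLib.Fusion.conjBy_eq_iff.2 hn])
    (isJComponent_conjBy n hK)

theorem conjBy_cPart {T K : Subgroup G} {n : G} (hn : n ∈ normalizer (jOf T : Set G)) {v : G}
    (hv : v ∈ cPart T K) : n * v * n⁻¹ ∈ cPart T (conjBy n K) := by
  refine ⟨conj_mem (normalizer_jOf_le_normalizer_zJ T) hn hv.1, mem_centralizer_iff.2 ?_⟩
  rintro _ ⟨k, hk, rfl⟩
  show n * k * n⁻¹ * (n * v * n⁻¹) = n * v * n⁻¹ * (n * k * n⁻¹)
  calc n * k * n⁻¹ * (n * v * n⁻¹) = n * (k * v) * n⁻¹ := by group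
    _ = n * (v * k) * n⁻¹ := by rw [mem_centralizer_iff.1 hv.2 k hk]
    _ = _ := by group

theorem conjBy_zPart {T K : Subgroup G} {n : G} (hn : n ∈ normalizer (jOf T : Set G)) {v : G}
    (hv : v ∈ zPart T K) : n * v * n⁻¹ ∈ zPart T (conjBy n K) :=
  ⟨conj_mem (normalizer_jOf_le_normalizer_zJ T) hn hv.1,
    conjBy_wOf n K ▸ CfsgLib.Fusion.conj_mem_conjBy hv.2⟩

section Center

variable {T K : Subgroup G} (hK : Cfsg.IsJComponent T K) (hT : IsPGroup 2 T)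
include hK hT

theorem card_zPart : Nat.card ↥(zPart T K) = 2 := card_center_inter hK hT

omit hT in
theorem wOf_inter_centralizer_eq_bot : Cfsg.wOf K ⊓ centralizer (K : Set G) = ⊥ := by
  obtain ⟨c, hc⟩ := exists_isGen hK.2.2.1
  refine eq_bot_iff.2 fun w ⟨hw, hwC⟩ => mem_bot.2 (hc.wOf_eq_one hw ?_)
  rw [mem_centralizer_iff.1 hwC c hc.mem, mul_inv_cancel_right]

omit hT in
theorem not_mem_cPart_of_mem_zPart {z : G} (hz : z ∈ zPart T K) (hz1 : z ≠ 1) : z ∉ cPart T K := fun h =>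
  hz1 (mem_bot.1 ((wOf_inter_centralizer_eq_bot hK).le ⟨hz.2, h.2⟩))

theorem card_zJ : Nat.card ↥(zJ T) = 2 * Nat.card ↥(cPart T K) := by
  have hsup : cPart T K ⊔ zPart T K = zJ T := by
    refine le_antisymm (sup_le inf_le_left inf_le_left) fun f hf => ?_
    have h : zJ T ⊓ ((K ⊔ jOf T) ⊓ centralizer ((K ⊔ jOf T : Subgroup G) : Set G)) ≤ cPart T K :=
      inf_le_inf_left _ (inf_le_right.trans (centralizer_le (SetLike.coe_subset_coe.2 le_sup_left)))
    exact (sup_le (h.trans le_sup_left) le_sup_right : _ ≤ cPart T K ⊔ zPart T K) (center_split hK hT hf)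
  have hinf : cPart T K ⊓ zPart T K = ⊥ := eq_bot_iff.2 fun w ⟨h1, h2⟩ =>
    (wOf_inter_centralizer_eq_bot hK).le ⟨h2.2, h1.2⟩
  have h := CfsgLib.EABasic.card_sup_mul_card_inf_of_le_normalizer (H := cPart T K) (N := zPart T K)
    (fun x hx => mem_normalizer_iff.2 fun y => by
      constructor
      · intro hy
        rwa [comm_of_isElementaryAbelian (omegaCenterOf_ea _) hx.1 hy.1, mul_inv_cancel_right]
      · intro hy
        have hyZ : y ∈ zJ T := by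
          have := (zJ T).mul_mem ((zJ T).mul_mem ((zJ T).inv_mem hx.1) hy.1) hx.1
          simpa [mul_assoc] using this
        rwa [comm_of_isElementaryAbelian (omegaCenterOf_ea _) hx.1 hyZ, mul_inv_cancel_right] at hy)
  rw [hsup, hinf, Subgroup.card_bot, mul_one, card_zPart hK hT, mul_comm] at h
  exact h

theorem two_le_card_zJ : 2 ≤ Nat.card ↥(zJ T) := by
  rw [card_zJ hK hT]
  have : 0 < Nat.card ↥(cPart T K) := Nat.card_pos
  omega

end Center

/-! ### Pairs -/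

section Pairs

variable (hL : Cfsg.IsCharacteristicTwoType G)
  (hN : ∀ N : Subgroup G, Cfsg.IsTwoLocal N → Group.IsSolvable ↥N)
  (hZ : ZHyp G) {T K K' : Subgroup G} (hT : IsPGroup 2 T)
  (hK : KeepsJ T K) (hK' : KeepsJ T K')
include hT hK

theorem KeepsJ.jOf_ne_bot : jOf T ≠ ⊥ := fun h =>
  wOf_ne_bot hK.1 (eq_bot_iff.2 (h ▸ wOf_le_jOf hK.1 hT))

theorem KeepsJ.ne_bot : T ≠ ⊥ := fun h =>
  KeepsJ.jOf_ne_bot hT hK (eq_bot_iff.2 (h ▸ jOf_le T))

theorem KeepsJ.compat_self : Compat T K K :=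
  ⟨normalizer (Cfsg.wOf K : Set G), ⟨_, isPGroup_four (wOf_sq hK.1), wOf_ne_bot hK.1, rfl⟩,
    le_sup_right.trans (x_le_normalizer_wOf hK.1), le_sup_left.trans (x_le_normalizer_wOf hK.1),
    le_sup_left.trans (x_le_normalizer_wOf hK.1)⟩

include hL

theorem KeepsJ.overgroup {L : Subgroup G} (hL2 : Cfsg.IsTwoLocal L) (hKL : K ≤ L) (hJL : jOf T ≤ L) :
    ∃ T0, jOf T0 = jOf T ∧ T0 ≠ ⊥ ∧ L ∈ Cfsg.jOvergroups T0 := by
  haveI : Fact (Nat.Prime 2) := ⟨Nat.prime_two⟩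
  obtain ⟨T0, hT0, hle⟩ := exists_sylowTwoIn (jOf_isPGroup hK.1 hT) hJL
  have hJ := hK.2 L T0 hL2 hKL hT0 hle
  refine ⟨T0, hJ, fun h => KeepsJ.jOf_ne_bot hT hK (eq_bot_iff.2 (h ▸ hle)), hT0, fun hcore => ?_, ?_⟩
  · have hJQ : jOf T ≤ coreOf L := hJ ▸ hcore
    have hKQ : K ≤ coreOf L := by
      conv_lhs => rw [← hK.1.2.1]
      refine commutator_le.2 fun k hk j hj => ?_
      rw [commutatorElement_def]
      exact mul_mem (conj_mem (le_normalizer_pCoreOf 2 L) (hKL hk) (hJQ hj)) (inv_mem (hJQ hj))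
    obtain ⟨n, hn⟩ := ((isPGroup_pCoreOf 2 L).to_le hKQ).exists_card_eq
    have h3 : 3 ∣ 2 ^ n := by
      rw [← hn, ← hK.1.2.2.1]
      exact relIndex_dvd_card _ _
    have := Nat.prime_three.dvd_of_dvd_pow h3
    norm_num at this
  · obtain ⟨R, hR2, hR1, rfl⟩ := hL2
    intro x hx
    have hRQ : R ≤ coreOf (normalizer (R : Set G)) := le_pCoreOf le_normalizer hR2 le_rfl
    have hxN : x ∈ normalizer (R : Set G) := centralizer_le_normalizer _ (centralizer_le hRQ hx)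
    have hx' : (⟨x, hxN⟩ : normalizer (R : Set G)) ∈
        centralizer (Cfsg.pCore 2 ↥(normalizer (R : Set G)) : Set _) :=
      mem_centralizer_iff.2 fun y hy => Subtype.ext (mem_centralizer_iff.1 hx _ ⟨y, hy, rfl⟩)
    exact ⟨⟨x, hxN⟩, hL.2 R hR2 hR1 hx', rfl⟩

include hN hZ hK'

theorem le_of_wOf_eq (hW : Cfsg.wOf K = Cfsg.wOf K') : K ≤ K' := by
  haveI : Fact (Nat.Prime 2) := ⟨Nat.prime_two⟩
  obtain ⟨L, hLd⟩ : ∃ L, L = normalizer (Cfsg.wOf K : Set G) := ⟨_, rfl⟩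
  have hKL : K ≤ L := hLd ▸ le_sup_left.trans (x_le_normalizer_wOf hK.1)
  have hK'L : K' ≤ L := hLd ▸ hW ▸ le_sup_left.trans (x_le_normalizer_wOf hK'.1)
  obtain ⟨T0, hJ, hT01, hLT⟩ := hK.overgroup hL hT
    (hLd ▸ ⟨_, isPGroup_four (wOf_sq hK.1), wOf_ne_bot hK.1, rfl⟩) hKL
    (hLd ▸ le_sup_right.trans (x_le_normalizer_wOf hK.1))
  have hc := isJComponent_of_jOf_eq hJ hK.1
  have hc' := isJComponent_of_jOf_eq hJ hK'.1
  obtain ⟨d⟩ := exists_data hN hZ hT01 hLT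
  obtain ⟨c, hcg⟩ := exists_isGen hK'.1.2.2.1
  have hC := cOf_le_normalizer_comp hL hN hZ hT01 hLT hc' hK'L
  have hKP := (comp_mem hL hN hZ hT01 hLT hc hKL d).1
  have hK'P := (comp_mem hL hN hZ hT01 hLT hc' hK'L d).1
  have hline : K ≤ K' ⊔ cOf L := fun k hk => (sup_le_sup_right (zpowers_le.2 hcg.mem) _)
    (d.same_line hZ hLT (wOf_le_u hL hN hZ hT01 hLT hc' hK'L) hK'.1.2.2.2.2.1 (hK'P hcg.mem)
      (fun u hu => comp_move hL hN hZ hT01 hLT hc' hK'L hcg.mem hu) (fun w hw h => hcg.wOf_eq_one hw h)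
      (hKP hk) fun u hu => hW ▸ comp_move hL hN hZ hT01 hLT hc hKL hk hu)
  have hQN : coreOf L ≤ normalizer (K' : Set G) := (core_le_cOf L).trans hC
  have hle : K ≤ K' ⊔ coreOf L := by
    conv_lhs => rw [← hK.1.2.1]
    refine commutator_le.2 fun x hx j hj => ?_
    obtain ⟨k, hk, z, hz, rfl⟩ := CfsgLib.Coprime.mem_sup_exists hC (hline hx)
    have hjn := j_le_normalizer hK'.1 hj
    have hjT0 : j ∈ T0 := jOf_le T0 (hJ.symm ▸ hj)
    obtain ⟨m, hm⟩ := hLT.1.2.1 ⟨j, hjT0⟩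
    have hq := inv_mem (two_comm hZ hLT (hLT.1.1 hjT0) (m := m) (congrArg Subtype.val hm) hz)
    rw [commutatorElement_def, show k * z * j * (k * z)⁻¹ * j⁻¹ =
      (k * (j * z * j⁻¹ * z⁻¹)⁻¹ * k⁻¹) * (k * (j * k⁻¹ * j⁻¹)) by group]
    exact mul_mem (mem_sup_right (conj_core (hK'L hk) hq))
      (mem_sup_left (mul_mem hk ((mem_normalizer_iff.1 hjn _).1 (inv_mem hk))))
  conv_lhs => rw [← hK.1.1]
  exact (closure_le _).2 fun k ⟨hk, hko⟩ => odd_mem_sup (isPGroup_pCoreOf 2 L) hQN (hle hk) hko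

theorem eq_of_wOf_eq (hW : Cfsg.wOf K = Cfsg.wOf K') : K = K' :=
  le_antisymm (le_of_wOf_eq hL hN hZ hT hK hK' hW) (le_of_wOf_eq hL hN hZ hT hK' hK hW.symm)

/-- compatible components with meeting four groups are equal -/
theorem Compat.eq_of_meet (h : Compat T K K') {w : G} (hw : w ∈ Cfsg.wOf K) (hw' : w ∈ Cfsg.wOf K')
    (hw1 : w ≠ 1) : K = K' := by
  obtain ⟨L, hL2, hJL, hKL, hK'L⟩ := h
  obtain ⟨T0, hJ, hT01, hLT⟩ := hK.overgroup hL hT hL2 hKL hJL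
  have hc := isJComponent_of_jOf_eq hJ hK.1
  have hc' := isJComponent_of_jOf_eq hJ hK'.1
  obtain ⟨d⟩ := exists_data hN hZ hT01 hLT
  obtain ⟨c, hcg⟩ := exists_isGen hK.1.2.2.1
  obtain ⟨c', hcg'⟩ := exists_isGen hK'.1.2.2.1
  have hn := d.norm_four hZ hLT (wOf_le_u hL hN hZ hT01 hLT hc' hK'L)
    ((comp_mem hL hN hZ hT01 hLT hc' hK'L d).1 hcg'.mem)
    (fun u hu => comp_move hL hN hZ hT01 hLT hc' hK'L hcg'.mem hu) (fun v hv h => hcg'.wOf_eq_one hv h)
    ((comp_mem hL hN hZ hT01 hLT hc hKL d).1 hcg.mem)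
  have hcw' : c * w * c⁻¹ ∈ Cfsg.wOf K' := (mem_normalizer_iff.1 hn w).1 hw'
  have hcw : c * w * c⁻¹ ∈ Cfsg.wOf K :=
    conj_mem (le_normalizer.trans (normalizer_le_normalizer_wOf K)) hcg.mem hw
  have hle : Cfsg.wOf K ≤ Cfsg.wOf K' := fun x hx => by
    rcases four_cases hK.1.2.2.2.2.1 (wOf_sq hK.1) hw hcw hw1 (fun h => hw1 (conj_eq_one_iff.1 h))
      (fun h => hw1 (hcg.wOf_eq_one hw h.symm)) hx with rfl | rfl | rfl | rfl
    · exact one_mem _
    · exact hw'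
    · exact hcw'
    · exact mul_mem hw' hcw'
  exact eq_of_wOf_eq hL hN hZ hT hK hK'
    (eq_of_le_of_card_ge hle (by rw [hK.1.2.2.2.2.1, hK'.1.2.2.2.2.1]))

/-- distinct compatible components centralize each other's four group -/
theorem Compat.le_centralizer (h : Compat T K K') (hne : K ≠ K') :
    K ≤ centralizer (Cfsg.wOf K' : Set G) := by
  obtain ⟨L, hL2, hJL, hKL, hK'L⟩ := id h
  obtain ⟨T0, hJ, hT01, hLT⟩ := hK.overgroup hL hT hL2 hKL hJL
  have hc := isJComponent_of_jOf_eq hJ hK.1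
  have hc' := isJComponent_of_jOf_eq hJ hK'.1
  obtain ⟨d⟩ := exists_data hN hZ hT01 hLT
  intro k hk
  refine mem_centralizer_iff.2 fun u hu => ?_
  have h1 := comp_move hL hN hZ hT01 hLT hc hKL hk (wOf_le_u hL hN hZ hT01 hLT hc' hK'L hu)
  have h2 : k * u * k⁻¹ * u⁻¹ ∈ Cfsg.wOf K' := mul_mem (conj_mem
    (((comp_mem hL hN hZ hT01 hLT hc hKL d).1.trans (p_le_normalizer_comp hL hN hZ hT01 hLT hc' hK'L d)).trans
      (normalizer_le_normalizer_wOf K')) hk hu) (inv_mem hu)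
  by_contra hku
  refine hne (Compat.eq_of_meet hL hN hZ hT hK hK' h h1 h2 fun e => hku ?_)
  exact (mul_inv_eq_iff_eq_mul.1 (mul_inv_eq_one.1 e)).symm

theorem Compat.zPart_le (h : Compat T K K') (hne : K ≠ K') : zPart T K' ≤ cPart T K := fun _ hz =>
  ⟨hz.1, mem_centralizer_iff.2 fun _k hk =>
    (mem_centralizer_iff.1 (Compat.le_centralizer hL hN hZ hT hK hK' h hne hk) _ hz.2).symm⟩

theorem Compat.zPart_ne (h : Compat T K K') (hne : K ≠ K') {z z' : G} (hz : z ∈ zPart T K)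
    (hz' : z' ∈ zPart T K') (hz1 : z ≠ 1) : z ≠ z' := fun e =>
  hne (Compat.eq_of_meet hL hN hZ hT hK hK' h hz.2 (e ▸ hz'.2) hz1)

theorem compat_of_eight_le (h8 : 8 ≤ Nat.card ↥(zJ T)) : Compat T K K' := by
  have h1 := card_zJ hK.1 hT
  have h2 := card_zJ hK'.1 hT
  have h := CfsgLib.Fusion.card_mul_le_sup_inf (cPart T K) (cPart T K')
  have h3 : Nat.card ↥(cPart T K ⊔ cPart T K') ≤ Nat.card ↥(zJ T) :=
    card_le_of_le (sup_le inf_le_left inf_le_left)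
  have h4 : 2 ≤ Nat.card ↥(cPart T K ⊓ cPart T K') := by
    have := h.trans (Nat.mul_le_mul_right _ h3)
    nlinarith
  obtain ⟨⟨v, hv⟩, hv1⟩ := (Subgroup.ne_bot_iff_exists_ne_one (H := cPart T K ⊓ cPart T K')).1
    (fun e => by rw [e, Subgroup.card_bot] at h4; omega)
  exact compat_of_mem hv.1 hv.2 fun e => hv1 (Subtype.ext e)

omit hK'

theorem le_normalizer_of_fixed (hF : Fixed T K) {L : Subgroup G} (hL2 : Cfsg.IsTwoLocal L) (hKL : K ≤ L)
    (hJL : jOf T ≤ L) : L ≤ normalizer (K : Set G) := by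
  obtain ⟨T0, hJ, hT01, hLT⟩ := hK.overgroup hL hT hL2 hKL hJL
  obtain ⟨d⟩ := exists_data hN hZ hT01 hLT
  have hP := p_le_normalizer_comp hL hN hZ hT01 hLT (isJComponent_of_jOf_eq hJ hK.1) hKL d
  intro g hg
  obtain ⟨a, ha, he⟩ := d.conj_jOf hZ hLT hg
  rw [hJ] at he
  have hn : a⁻¹ * g ∈ normalizer (jOf T : Set G) := by
    refine CfsgLib.Fusion.conjBy_eq_iff.1 ?_
    rw [← conjBy_conjBy, he, CfsgLib.Fusion.conjBy_inv_conjBy]
  have hnL : a⁻¹ * g ∈ L := mul_mem (inv_mem (d.P_le ha)) hg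
  have hnK := CfsgLib.Fusion.conjBy_eq_iff.1 (hF _ hn ⟨L, hL2, hJL, hKL,
    CfsgLib.Fusion.conjBy_le_iff.2 fun x hx => mul_mem (mul_mem hnL (hKL hx)) (inv_mem hnL)⟩)
  simpa using mul_mem (hP ha) hnK

end Pairs

/-! ### A family of pairwise compatible components -/

theorem exists_envelope (hL : Cfsg.IsCharacteristicTwoType G)
    (hN : ∀ N : Subgroup G, Cfsg.IsTwoLocal N → Group.IsSolvable ↥N) (hZ : ZHyp G)
    {T : Subgroup G} (hT : IsPGroup 2 T) (F : Set (Subgroup G)) (hne : F.Nonempty)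
    (hkeep : ∀ K ∈ F, KeepsJ T K) (hcompat : ∀ K ∈ F, ∀ K' ∈ F, Compat T K K')
    (hinv : ∀ n ∈ normalizer (jOf T : Set G), ∀ K ∈ F, conjBy n K ∈ F) :
    ∃ Q : Subgroup G, Cfsg.IsTwoLocal (normalizer (Q : Set G)) ∧ Cfsg.IsElementaryAbelian 2 Q ∧
      normalizer (jOf T : Set G) ≤ normalizer (Q : Set G) ∧
      ∀ K ∈ F, Cfsg.wOf K ≤ Q ∧ K ≤ normalizer (Q : Set G) := by
  obtain ⟨Q, hQd⟩ : ∃ Q : Subgroup G, Q = closure {g : G | ∃ K ∈ F, g ∈ Cfsg.wOf K} := ⟨_, rfl⟩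
  have hWQ : ∀ K ∈ F, Cfsg.wOf K ≤ Q := fun K hK g hg => hQd ▸ subset_closure ⟨K, hK, hg⟩
  have hcomm : ∀ K ∈ F, ∀ K' ∈ F, ∀ a ∈ Cfsg.wOf K, ∀ b ∈ Cfsg.wOf K', a * b = b * a := by
    intro K hK K' hK' a ha b hb
    by_cases he : K = K'
    · subst he
      exact comm_of_isElementaryAbelian (omegaCenterOf_ea _) (wOf_le_uOf K ha) (wOf_le_uOf K hb)
    · exact (mem_centralizer_iff.1 (Compat.le_centralizer hL hN hZ hT (hkeep K hK) (hkeep K' hK')
        (hcompat K hK K' hK') he (pCoreOf_le 2 K (wOf_le_core K ha))) b hb).symm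
  have hQc : Q ≤ centralizer (Q : Set G) := by
    conv_lhs => rw [hQd]
    refine (closure_le _).2 ?_
    rintro a ⟨K, hK, ha⟩
    rw [hQd, centralizer_closure]
    refine mem_centralizer_iff.2 ?_
    rintro b ⟨K', hK', hb⟩
    exact hcomm K' hK' K hK b hb a ha
  have hab : ∀ a ∈ Q, ∀ b ∈ Q, a * b = b * a := fun a ha b hb =>
    (mem_centralizer_iff.1 (hQc ha) b hb).symm
  have hQe : Cfsg.IsElementaryAbelian 2 Q := by
    refine ⟨⟨⟨fun a b => Subtype.ext (hab _ a.2 _ b.2)⟩⟩, fun a ha => ?_⟩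
    have h : Q ≤ Cfsg.omegaOne 2 Q := by
      conv_lhs => rw [hQd]
      refine (closure_le _).2 ?_
      rintro g ⟨K, hK, hg⟩
      exact subset_closure ⟨hWQ K hK hg, by rw [pow_two]; exact wOf_sq (hkeep K hK).1 g hg⟩
    exact (omegaOne_ea hab).2 a (h ha)
  have hnorm : ∀ g : G, (∀ K ∈ F, ∀ w ∈ Cfsg.wOf K, g * w * g⁻¹ ∈ Q) → g ∈ normalizer (Q : Set G) := by
    intro g hg
    refine CfsgLib.Fusion.conjBy_eq_iff.1 (CfsgLib.Fusion.conjBy_eq_of_le ?_)
    rw [CfsgLib.Fusion.conjBy, map_le_iff_le_comap]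
    conv_lhs => rw [hQd]
    refine (closure_le _).2 ?_
    rintro w ⟨K, hK, hw⟩
    exact hg K hK w hw
  obtain ⟨K₀, hK₀⟩ := hne
  refine ⟨Q, ⟨Q, fun a => ⟨1, Subtype.ext ?_⟩, fun h => wOf_ne_bot (hkeep K₀ hK₀).1
    (eq_bot_iff.2 (h ▸ hWQ K₀ hK₀)), rfl⟩, hQe, fun n hn => hnorm n fun K hK w hw => ?_,
    fun K hK => ⟨hWQ K hK, fun k hk => hnorm k fun K' hK' w hw => ?_⟩⟩
  · rw [pow_one]; exact hQe.2 _ a.2
  · exact hWQ _ (hinv n hn K hK) (conjBy_wOf n K ▸ CfsgLib.Fusion.conj_mem_conjBy hw)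
  · by_cases he : K = K'
    · subst he
      exact hWQ K hK (conj_mem (le_normalizer.trans (normalizer_le_normalizer_wOf K)) hk hw)
    · rw [← mem_centralizer_iff.1 (Compat.le_centralizer hL hN hZ hT (hkeep K hK) (hkeep K' hK')
        (hcompat K hK K' hK') he hk) w hw, mul_inv_cancel_right]
      exact hWQ K' hK' hw

end CfsgLib.JComp
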