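import Cfsg.Agent.Lib.JComp.Component

/-!
# The members of the family attached to a `2`-subgroup
-/

set_option autoImplicit false
set_option linter.style.haveILetI false
set_option linter.unusedSectionVars false

open Subgroup
open scoped commutatorElement

namespace CfsgLib.JComp

open CfsgLib.Fusion (IsMaxEA conjBy)

universe u

variable {G : Type u} [Group G]

/-- the standing hypothesis on the centralizers of central involutions -/
def ZHyp (G : Type u) [Group G] : Prop :=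
  ∀ S : Sylow 2 G, centralizer (Cfsg.omegaCenterOf (S : Subgroup G) : Set G) ≤
    normalizer ((S : Subgroup G) : Set G)

/-- `C_L(Ω₁(Z(O₂(L))))` -/
abbrev cOf (L : Subgroup G) : Subgroup G := L ⊓ centralizer (uOf L : Set G)

variable [Finite G] {T L : Subgroup G}

theorem core_ne_bot (hT1 : T ≠ ⊥) (hLT : L ∈ Cfsg.jOvergroups T) : coreOf L ≠ ⊥ := by
  intro h
  have h2 := hLT.2.2
  have hc : centralizer ((Cfsg.pCoreOf 2 L : Subgroup G) : Set G) = ⊤ := by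
    rw [show Cfsg.pCoreOf 2 L = ⊥ from h]
    exact eq_top_iff.2 fun x _ => mem_centralizer_iff.2 fun y hy => by simp [mem_bot.1 hy]
  rw [hc, show Cfsg.pCoreOf 2 L = ⊥ from h, top_le_iff] at h2
  refine hT1 (eq_bot_iff.2 fun x hx => ?_)
  have : x ∈ (⊤ : Subgroup G) := mem_top x
  rwa [← h2] at this

theorem isSolvable_local (hN : ∀ N : Subgroup G, Cfsg.IsTwoLocal N → Group.IsSolvable ↥N)
    (hT1 : T ≠ ⊥) (hLT : L ∈ Cfsg.jOvergroups T) : Group.IsSolvable ↥L := by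
  haveI : Fact (Nat.Prime 2) := ⟨Nat.prime_two⟩
  haveI := hN (normalizer (coreOf L : Set G))
    ⟨coreOf L, isPGroup_pCoreOf 2 L, core_ne_bot hT1 hLT, rfl⟩
  exact Group.isSolvable_of_isSolvable_injective (f := inclusion (le_normalizer_pCoreOf 2 L)) (inclusion_injective _)

theorem cOf_le (L : Subgroup G) : cOf L ≤ L := inf_le_left

theorem core_le_cOf (L : Subgroup G) : coreOf L ≤ cOf L := fun _x hx =>
  ⟨pCoreOf_le 2 L hx, mem_centralizer_iff.2 fun _u hu => (core_fix hx hu).symm⟩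

theorem le_normalizer_cOf (L : Subgroup G) : L ≤ normalizer (cOf L : Set G) := by
  refine le_normalizer_of_conj fun x hx y hy => ⟨L.mul_mem (L.mul_mem hx (mem_inf.1 hy).1) (L.inv_mem hx),
    mem_centralizer_iff.2 fun u hu => ?_⟩
  have hu' : x⁻¹ * u * x ∈ uOf L := by simpa using conj_mem (le_normalizer_uOf L) (inv_mem hx) hu
  calc u * (x * y * x⁻¹) = x * ((x⁻¹ * u * x) * y) * x⁻¹ := by group
    _ = x * (y * (x⁻¹ * u * x)) * x⁻¹ := by rw [mem_centralizer_iff.1 (mem_inf.1 hy).2 _ hu']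
    _ = x * y * x⁻¹ * u := by group

theorem core_le_sylow (hLT : L ∈ Cfsg.jOvergroups T) : coreOf L ≤ T := by
  haveI : Fact (Nat.Prime 2) := ⟨Nat.prime_two⟩
  obtain ⟨g, hg, hle⟩ := exists_conjBy_le hLT.1 (isPGroup_pCoreOf 2 L) (pCoreOf_le 2 L)
  have h : conjBy g (coreOf L) = coreOf L :=
    CfsgLib.Fusion.conjBy_eq_iff.2 (le_normalizer_pCoreOf 2 L hg)
  rwa [h] at hle

theorem mem_of_isPGroup_normalized (hLT : L ∈ Cfsg.jOvergroups T) {x : G} (hxL : x ∈ L)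
    {m : ℕ} (hx : x ^ 2 ^ m = 1) (hxT : x ∈ normalizer (T : Set G)) : x ∈ T := by
  haveI : Fact (Nat.Prime 2) := ⟨Nat.prime_two⟩
  have hzp : IsPGroup 2 (zpowers x) := fun y => ⟨m, Subtype.ext (by
    obtain ⟨i, hi⟩ := mem_zpowers_iff.1 y.2
    show (y : G) ^ 2 ^ m = 1
    rw [← hi, ← zpow_natCast, ← zpow_mul, mul_comm, zpow_mul, zpow_natCast, hx, one_zpow])⟩
  have hP : IsPGroup 2 (zpowers x ⊔ T : Subgroup G) :=
    hzp.to_sup_of_normal_right' hLT.1.2.1 (zpowers_le.2 hxT)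
  obtain ⟨g, hg, hle⟩ := exists_conjBy_le hLT.1 hP (sup_le (zpowers_le.2 hxL) hLT.1.1)
  have hcard : Nat.card ↥(zpowers x ⊔ T) ≤ Nat.card T := by
    rw [← CfsgLib.Fusion.card_conjBy g]
    exact card_le_of_le hle
  exact (eq_of_le_of_card_ge (le_sup_right : T ≤ zpowers x ⊔ T) hcard).symm ▸
    mem_sup_left (mem_zpowers x)

theorem cOf_le_normalizer_sylow (hZ : ZHyp G) (hLT : L ∈ Cfsg.jOvergroups T) :
    cOf L ≤ normalizer (T : Set G) := by
  haveI : Fact (Nat.Prime 2) := ⟨Nat.prime_two⟩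
  obtain ⟨hTL, hT2, hodd⟩ := hLT.1
  obtain ⟨S, hS⟩ := hT2.exists_le_sylow
  have hZU : Cfsg.omegaCenterOf (S : Subgroup G) ≤ uOf L := by
    intro z hz
    obtain ⟨hz1, hz2, hz3⟩ := mem_omegaCenterOf.1 hz
    have hzc : z ∈ coreOf L := hLT.2.2 (mem_centralizer_iff.2 fun q hq =>
      hz2 q (hS (core_le_sylow hLT hq)))
    exact mem_omegaCenterOf.2 ⟨hzc, fun q hq => hz2 q (hS (core_le_sylow hLT hq)), hz3⟩
  have hLS : L ⊓ (S : Subgroup G) = T := by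
    obtain ⟨g, hg, hle⟩ := exists_conjBy_le hLT.1 (S.2.to_le inf_le_right) (inf_le_left : L ⊓ (S : Subgroup G) ≤ L)
    refine (eq_of_le_of_card_ge (le_inf hTL hS) ?_).symm
    rw [← CfsgLib.Fusion.card_conjBy g]
    exact card_le_of_le hle
  refine le_normalizer_of_conj fun c hc t ht => ?_
  rw [← hLS] at ht ⊢
  exact mem_inf.2 ⟨conj_mem le_normalizer (mem_inf.1 hc).1 (mem_inf.1 ht).1,
    conj_mem le_rfl (hZ S (centralizer_le hZU (mem_inf.1 hc).2)) (mem_inf.1 ht).2⟩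

theorem cOf_le_normalizer_jOf (hZ : ZHyp G) (hLT : L ∈ Cfsg.jOvergroups T) :
    cOf L ≤ normalizer (jOf T : Set G) :=
  (cOf_le_normalizer_sylow hZ hLT).trans (CfsgLib.Fusion.normalizer_le_normalizer_thompsonSubgroupOf T)

theorem two_mem_core (hZ : ZHyp G) (hLT : L ∈ Cfsg.jOvergroups T) {x : G} (hx : x ∈ cOf L) {m : ℕ}
    (hm : x ^ 2 ^ m = 1) : x ∈ coreOf L := by
  haveI : Fact (Nat.Prime 2) := ⟨Nat.prime_two⟩
  have hCT : ∀ y ∈ cOf L, ∀ k : ℕ, y ^ 2 ^ k = 1 → y ∈ T := fun y hy k hk =>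
    mem_of_isPGroup_normalized hLT (cOf_le L hy) hk (cOf_le_normalizer_sylow hZ hLT hy)
  refine le_pCoreOf (R := cOf L ⊓ T) (inf_le_left.trans (cOf_le L)) (hLT.1.2.1.to_le inf_le_right) ?_
    ⟨hx, hCT x hx m hm⟩
  refine le_normalizer_of_conj fun g hg y hy => ?_
  obtain ⟨k, hk⟩ := hLT.1.2.1 ⟨y, (mem_inf.1 hy).2⟩
  have hk' : y ^ 2 ^ k = 1 := congrArg Subtype.val hk
  have h1 := conj_mem (le_normalizer_cOf L) hg (mem_inf.1 hy).1
  exact mem_inf.2 ⟨h1, hCT _ h1 k (by rw [conj_pow, hk', mul_one, mul_inv_cancel])⟩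

/-- commutators of `C_L(U)` with `2`-elements lie in `O₂(L)` -/
theorem two_comm (hZ : ZHyp G) (hLT : L ∈ Cfsg.jOvergroups T) {s c : G} (hs : s ∈ L) {m : ℕ}
    (hm : s ^ 2 ^ m = 1) (hc : c ∈ cOf L) : s * c * s⁻¹ * c⁻¹ ∈ coreOf L := by
  haveI : Fact (Nat.Prime 2) := ⟨Nat.prime_two⟩
  have hzp : IsPGroup 2 (zpowers s) := fun y => ⟨m, Subtype.ext (by
    obtain ⟨i, hi⟩ := mem_zpowers_iff.1 y.2
    show (y : G) ^ 2 ^ m = 1
    rw [← hi, ← zpow_natCast, ← zpow_mul, mul_comm, zpow_mul, zpow_natCast, hm, one_zpow])⟩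
  obtain ⟨g, hg, hle⟩ := exists_conjBy_le hLT.1 hzp (zpowers_le.2 hs)
  have hgs : g * s * g⁻¹ ∈ T := hle ⟨s, mem_zpowers s, rfl⟩
  have hgc : g * c * g⁻¹ ∈ cOf L := conj_mem (le_normalizer_cOf L) hg hc
  have h1 : (g * s * g⁻¹) * (g * c * g⁻¹) * (g * s * g⁻¹)⁻¹ * (g * c * g⁻¹)⁻¹ ∈ T := by
    rw [show (g * s * g⁻¹) * (g * c * g⁻¹) * (g * s * g⁻¹)⁻¹ * (g * c * g⁻¹)⁻¹ =
      (g * s * g⁻¹) * ((g * c * g⁻¹) * (g * s * g⁻¹)⁻¹ * (g * c * g⁻¹)⁻¹) by group]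
    exact mul_mem hgs (conj_mem (cOf_le_normalizer_sylow hZ hLT) hgc (inv_mem hgs))
  have h2 : (g * s * g⁻¹) * (g * c * g⁻¹) * (g * s * g⁻¹)⁻¹ * (g * c * g⁻¹)⁻¹ ∈ cOf L :=
    mul_mem (conj_mem (le_normalizer_cOf L) (hLT.1.1 hgs) hgc) (inv_mem hgc)
  obtain ⟨k, hk⟩ := hLT.1.2.1 ⟨_, h1⟩
  have h3 := two_mem_core hZ hLT h2 (congrArg Subtype.val hk)
  have h4 := conj_mem (le_normalizer_pCoreOf 2 L) (inv_mem hg) h3
  rwa [show g⁻¹ * ((g * s * g⁻¹) * (g * c * g⁻¹) * (g * s * g⁻¹)⁻¹ * (g * c * g⁻¹)⁻¹) * g⁻¹⁻¹ =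
    s * c * s⁻¹ * c⁻¹ by group] at h4

theorem not_jOf_le_cOf (hZ : ZHyp G) (hLT : L ∈ Cfsg.jOvergroups T) : ¬ jOf T ≤ cOf L := fun h =>
  hLT.2.1 fun x hx => by
    obtain ⟨k, hk⟩ := hLT.1.2.1 ⟨x, jOf_le T hx⟩
    exact two_mem_core hZ hLT (h hx) (congrArg Subtype.val hk)

/-- no `2`-group normal in `L` modulo `C_L(U)` -/
theorem eq_cOf_of_two_power (hZ : ZHyp G) (hLT : L ∈ Cfsg.jOvergroups T) {D : Subgroup G}
    (hDL : D ≤ L) (hCD : cOf L ≤ D) (hLD : L ≤ normalizer (D : Set G)) {k : ℕ}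
    (hk : (cOf L).relIndex D = 2 ^ k) : D = cOf L := by
  haveI : Fact (Nat.Prime 2) := ⟨Nat.prime_two⟩
  obtain ⟨hTL, hT2, hodd⟩ := hLT.1
  refine le_antisymm ?_ hCD
  obtain ⟨P, hP⟩ : ∃ P, P = T ⊓ D := ⟨_, rfl⟩
  have hPp : IsPGroup 2 P := hP ▸ hT2.to_le inf_le_left
  have hsylow : Cfsg.IsSylowTwoIn P D := by
    refine ⟨hP ▸ inf_le_right, hPp, ?_⟩
    obtain ⟨S, hS, hPS⟩ := exists_sylowTwoIn hPp (hP ▸ inf_le_right : P ≤ D)
    obtain ⟨g, hg, hle⟩ := exists_conjBy_le hLT.1 hS.2.1 (hS.1.trans hDL)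
    have hle' : conjBy g S ≤ P := hP ▸ le_inf hle (by
      rintro _ ⟨x, hx, rfl⟩
      exact conj_mem hLD hg (hS.1 hx))
    have : P = S := eq_of_le_of_card_ge hPS (by
      rw [← CfsgLib.Fusion.card_conjBy g]; exact card_le_of_le hle')
    exact this ▸ hS.2.2
  have hCP : cOf L ≤ normalizer (P : Set G) := hP ▸ le_normalizer_of_conj fun c hc x hx =>
    mem_inf.2 ⟨conj_mem (cOf_le_normalizer_sylow hZ hLT) hc (mem_inf.1 hx).1,
      conj_mem le_normalizer (hCD hc) (mem_inf.1 hx).2⟩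
  have hsup : P ⊔ cOf L = D := by
    have hle : P ⊔ cOf L ≤ D := sup_le hsylow.1 hCD
    refine eq_of_le_of_card_ge hle ?_
    have h2 : (P ⊔ cOf L).relIndex D ∣ 2 ^ k := hk ▸ relIndex_dvd_of_le_left D le_sup_right
    have h1 : (P ⊔ cOf L).relIndex D ∣ P.relIndex D := relIndex_dvd_of_le_left D le_sup_left
    have h3 : (P ⊔ cOf L).relIndex D = 1 :=
      Nat.eq_one_of_dvd_coprimes ((Nat.coprime_two_left.2 hsylow.2.2).pow_left k) h2 h1
    exact card_le_of_le (relIndex_eq_one.1 h3)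
  have hPn : D ≤ normalizer (P : Set G) := hsup ▸ sup_le le_normalizer hCP
  -- `P` is normal in `L`
  have hLP : L ≤ normalizer (P : Set G) := by
    refine le_normalizer_of_conj fun g hg x hx => ?_
    have hQD : conjBy g P ≤ D := by
      rintro _ ⟨y, hy, rfl⟩
      exact conj_mem hLD hg (hsylow.1 hy)
    have hp : IsPGroup 2 (conjBy g P ⊔ P : Subgroup G) :=
      (hPp.map _).to_sup_of_normal_right' hPp (hQD.trans hPn)
    obtain ⟨d, hd, hle⟩ := exists_conjBy_le hsylow hp (sup_le hQD hsylow.1)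
    have hcard : Nat.card ↥(conjBy g P ⊔ P) ≤ Nat.card P := by
      rw [← CfsgLib.Fusion.card_conjBy d]
      exact card_le_of_le hle
    rw [eq_of_le_of_card_ge (le_sup_right : P ≤ conjBy g P ⊔ P) hcard]
    exact mem_sup_left ⟨x, hx, rfl⟩
  rw [← hsup]
  exact sup_le ((le_pCoreOf (hsylow.1.trans hDL) hPp hLP).trans (core_le_cOf L)) le_rfl

end CfsgLib.JComp
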