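import Cfsg.Agent.Lib.JComp.CaseA
import Cfsg.Agent.Lib.PGroup.IndexChain.TwoDihedral.Main

/-!
# The shape of `K T` for an outside component
-/

set_option autoImplicit false
set_option linter.style.haveILetI false
set_option linter.unusedSectionVars false

open Subgroup
open scoped commutatorElement Pointwise

namespace CfsgLib.JComp

open CfsgLib.Fusion (conjBy)

universe u

/-- the permutations of three points given by the dihedral group of order six -/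
def dihedralPerm : DihedralGroup 3 → Equiv.Perm (ZMod 3)
  | .r i => Equiv.addLeft i
  | .sr i => (Equiv.addLeft i).trans (Equiv.neg (ZMod 3))

theorem nonempty_dihedral_perm : Nonempty (Equiv.Perm (Fin 3) ≃* DihedralGroup 3) := by
  let f : DihedralGroup 3 →* Equiv.Perm (ZMod 3) := MonoidHom.mk' dihedralPerm (by decide)
  have hinj : Function.Injective f := by
    have : ∀ a b : DihedralGroup 3, dihedralPerm a = dihedralPerm b → a = b := by decide
    exact fun a b h => this a b h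
  have hcard : Nat.card (DihedralGroup 3) = Nat.card (Equiv.Perm (ZMod 3)) := by
    rw [DihedralGroup.nat_card, Nat.card_perm, Nat.card_zmod]; rfl
  exact ⟨(MulEquiv.ofBijective f ((Nat.bijective_iff_injective_and_card f).2 ⟨hinj, hcard⟩)).symm⟩

theorem dvd_eight {k : ℕ} (a : Equiv.Perm (Fin 4)) (h : orderOf a ∣ 2 ^ k) : orderOf a ∣ 2 ^ 3 := by
  obtain ⟨j, -, hj⟩ := (Nat.dvd_prime_pow Nat.prime_two).1 h
  have h24 := orderOf_dvd_natCard a
  rw [Nat.card_perm, Nat.card_fin, hj] at h24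
  rw [hj]
  refine pow_dvd_pow 2 ?_
  by_contra hj'
  have h16 : 2 ^ 4 ∣ Nat.factorial 4 := (pow_dvd_pow 2 (by omega)).trans h24
  norm_num [Nat.factorial] at h16

theorem sq_key : ∀ a : Equiv.Perm (Fin 4), a ^ 8 = 1 →
    (∀ b : Equiv.Perm (Fin 4), (a * b * a⁻¹ * b⁻¹) ^ 8 = 1) → a ^ 2 = 1 := by decide +kernel

/-- normal `2`-subgroups of `S₄` and of `S₄ × 2` have exponent two -/
theorem sq_of_normal_two {X : Type*} [Group X] {N : Subgroup X} [N.Normal] (hN : IsPGroup 2 N)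
    (he : Nonempty (X ≃* Equiv.Perm (Fin 4)) ∨ Nonempty (X ≃* Equiv.Perm (Fin 4) × Multiplicative (ZMod 2)))
    {x : X} (hx : x ∈ N) : x ^ 2 = 1 := by
  obtain ⟨f, hf, hinj⟩ : ∃ f : X →* Equiv.Perm (Fin 4), Function.Surjective f ∧
      (f x ^ 2 = 1 → x ^ 2 = 1) := by
    rcases he with he | he
    · obtain ⟨e⟩ := he
      exact ⟨e.toMonoidHom, e.surjective, fun h => e.injective (by simpa using h)⟩
    · obtain ⟨e⟩ := he
      refine ⟨(MonoidHom.fst _ _).comp e.toMonoidHom, fun a => ⟨e.symm (a, 1), by simp⟩,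
        fun h => e.injective (Prod.ext (by simpa using h) ?_)⟩
      have hz : ∀ z : Multiplicative (ZMod 2), z ^ 2 = 1 := by decide
      simpa using hz (e x).2
  refine hinj (sq_key _ ?_ fun b => ?_)
  · obtain ⟨k, hk⟩ := hN ⟨x, hx⟩
    have h1 : f x ^ 2 ^ k = 1 := by rw [← map_pow, show x ^ 2 ^ k = 1 from congrArg Subtype.val hk, map_one]
    exact orderOf_dvd_iff_pow_eq_one.1 (dvd_eight _ (orderOf_dvd_of_pow_eq_one h1))
  · obtain ⟨y, rfl⟩ := hf b
    have hmem : x * y * x⁻¹ * y⁻¹ ∈ N := by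
      rw [show x * y * x⁻¹ * y⁻¹ = x * (y * x⁻¹ * y⁻¹) by group]
      exact mul_mem hx (Subgroup.Normal.conj_mem inferInstance _ (inv_mem hx) y)
    obtain ⟨k, hk⟩ := hN ⟨_, hmem⟩
    have h1 : (f x * f y * (f x)⁻¹ * (f y)⁻¹) ^ 2 ^ k = 1 := by
      simpa using congrArg f (congrArg Subtype.val hk : (x * y * x⁻¹ * y⁻¹) ^ 2 ^ k = 1)
    exact orderOf_dvd_iff_pow_eq_one.1 (dvd_eight _ (orderOf_dvd_of_pow_eq_one h1))

variable {G : Type u} [Group G] [Finite G]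
  (hL : Cfsg.IsCharacteristicTwoType G)
  (hN : ∀ N : Subgroup G, Cfsg.IsTwoLocal N → Group.IsSolvable ↥N)
  (hZ : ZHyp G) {S : Sylow 2 G} {M T R K : Subgroup G}
  (hMJ : normalizer (jOf (S : Subgroup G) : Set G) ≤ M) (hT : T ∈ Cfsg.maxStraddlingTwoSubgroups M)
  (hR : Ext M T R) (hK : K ∈ outer M T) (hnice : Nice T K)
include hL hN hZ hMJ hT hR hK hnice

theorem shape_outer : (Nat.card T = 8 ∨ Nat.card T = 16) ∧ (Nonempty (↥(K ⊔ T) ≃* Equiv.Perm (Fin 4)) ∨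
    Nonempty (↥(K ⊔ T) ≃* Equiv.Perm (Fin 4) × Multiplicative (ZMod 2))) := by
  haveI : Fact (Nat.Prime 2) := ⟨Nat.prime_two⟩
  obtain ⟨y, hy, -, hK', hnice', hne, hno⟩ := exists_partner hL hN hZ hMJ hT hR hK hnice
  obtain ⟨-, ⟨eP⟩⟩ := Nice.quotient_core hT.1.1 hnice
  obtain ⟨eD⟩ := nonempty_dihedral_perm
  have hO : Cfsg.pCore 2 ↥(K ⊔ T) ≠ ⊥ := fun h => by
    refine Nice.core_ne_bot' hT.1.1 hnice ?_
    rw [Cfsg.pCoreOf, h, Subgroup.map_bot]
  have hsyl : ¬ 2 ∣ T.relIndex (K ⊔ T) := by rw [Nice.relIndex_sylow hT.1.1 hnice]; norm_num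
  have hyN : MulAut.conj y • T = T := CfsgLib.Fusion.conjBy_eq_iff.2 (hR.norm hy)
  have hodd : Cfsg.oddCore ↥(K ⊔ T) = ⊥ := by
    refine eq_bot_iff.2 fun x hx => ?_
    haveI := CfsgLib.Coprime.pCore_normal' (G := ↥(K ⊔ T)) 2
    have hdis : Disjoint (Cfsg.pPrimeCore 2 ↥(K ⊔ T)) (Cfsg.pCore 2 ↥(K ⊔ T)) := by
      rw [disjoint_iff]
      refine eq_bot_iff.2 fun w ⟨h1, h2⟩ => mem_bot.2 (orderOf_eq_one_iff.1 ?_)
      obtain ⟨k, hk⟩ := IsPGroup.iff_orderOf.1 (CfsgLib.Coprime.pCore_isPGroup 2) ⟨w, h2⟩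
      rw [Subgroup.orderOf_mk] at hk
      exact Nat.eq_one_of_dvd_coprimes ((CfsgLib.Coprime.pPrimeCore_coprime Nat.prime_two).pow_right k)
        (Subgroup.orderOf_dvd_natCard _ h1) (hk ▸ dvd_rfl)
    have hxC : (x : G) ∈ Cfsg.pCoreOf 2 (K ⊔ T) :=
      Nice.centralizer_core_sup_le hL hN hZ hT.1.1 hnice (mem_centralizer_iff.2 fun q hq => by
        obtain ⟨q', hq', rfl⟩ := hq
        exact (congrArg Subtype.val
          (commute_of_normal_of_disjoint _ _ inferInstance inferInstance hdis x q' hx hq').eq).symm)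
    obtain ⟨x', hx', hxx⟩ := hxC
    rw [show x' = x from Subtype.ext hxx] at hx'
    exact disjoint_iff.1 hdis ▸ ⟨hx, hx'⟩
  have hyR : ∀ R₁ R₂ : Subgroup G, R₁ ≤ T → R₂ ≤ T → (R₁.subgroupOf (K ⊔ T)).Normal →
      (R₂.subgroupOf (K ⊔ T)).Normal → MulAut.conj y • R₁ = R₂ → R₁ = ⊥ := by
    intro R₁ R₂ hR₁ hR₂ hn₁ hn₂ he
    replace he : conjBy y R₁ = R₂ := he
    by_contra hne1
    have hn₁' : K ⊔ T ≤ normalizer (R₁ : Set G) :=
      (normal_subgroupOf_iff_le_normalizer (hR₁.trans le_sup_right)).1 hn₁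
    have hn₂' : K ⊔ T ≤ normalizer (R₂ : Set G) :=
      (normal_subgroupOf_iff_le_normalizer (hR₂.trans le_sup_right)).1 hn₂
    have hKy : conjBy y K ≤ normalizer (R₂ : Set G) := by
      rw [← he, ← CfsgLib.Fusion.conjBy_normalizer]
      exact CfsgLib.Fusion.conjBy_mono (le_sup_left.trans hn₁')
    refine hno ⟨normalizer (R₂ : Set G), ⟨R₂, hT.1.1.to_le hR₂, fun h => hne1 ?_, rfl⟩,
      ((jOf_le T).trans le_sup_right).trans hn₂', le_sup_left.trans hn₂', hKy⟩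
    rw [← CfsgLib.Fusion.conjBy_inv_conjBy y R₁, he, h]
    exact Subgroup.map_bot _
  rcases CfsgLib.PGroup.IndexChain.TwoDihedral.shape (H := K ⊔ T) (P := T) (y := y) hO 3 (by norm_num)
      ⟨eP.trans eD⟩ le_sup_right hT.1.1 hsyl hyN hyR with
    ⟨-, hab, -⟩ | ⟨hcard, hiso⟩
  · exfalso
    exact j_not_centralize hK.1 fun j hj => mem_centralizer_iff.2 fun w hw =>
      (hab w (jOf_le T (wOf_le_jOf hK.1 hT.1.1 hw)) j (jOf_le T hj)).eq
  · refine ⟨hcard, hiso.imp ?_ ?_⟩ <;>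
    · rintro ⟨e⟩
      exact ⟨((QuotientGroup.quotientMulEquivOfEq hodd).trans QuotientGroup.quotientBot).symm.trans e⟩

theorem core_sq {e : G} (he : e ∈ Cfsg.pCoreOf 2 (K ⊔ T)) : e * e = 1 := by
  haveI : Fact (Nat.Prime 2) := ⟨Nat.prime_two⟩
  haveI := CfsgLib.Coprime.pCore_normal' (G := ↥(K ⊔ T)) 2
  obtain ⟨e', he', rfl⟩ := he
  have h := sq_of_normal_two (CfsgLib.Coprime.pCore_isPGroup 2)
    (shape_outer hL hN hZ hMJ hT hR hK hnice).2 he'
  rw [pow_two] at h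
  exact congrArg Subtype.val h

end CfsgLib.JComp
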