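import Cfsg.Agent.Lib.JComp.Outside
import Cfsg.Agent.Lib.JComp.Shape
import Cfsg.Agent.Lib.LocalStructure.ActiveCenter.Coset

/-!
# The two maximal `2`-local subgroups above a maximal straddling subgroup
-/

set_option autoImplicit false
set_option linter.style.haveILetI false
set_option linter.unusedSectionVars false

open Subgroup
open scoped commutatorElement

namespace CfsgLib.JComp

open CfsgLib.LS.ActiveCenter (Side shape_pair)

universe u

variable {G : Type u} [Group G] [Finite G]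

theorem side_subgroupOf {P T X : Subgroup G} (hPX : P ≤ X) (hs : Cfsg.IsSylowTwoIn T P)
    (hc : centralizer (Cfsg.pCoreOf 2 P : Set G) ≤ Cfsg.pCoreOf 2 P)
    (hq : Nonempty (↥P ⧸ Cfsg.pCore 2 ↥P ≃* Equiv.Perm (Fin 3)))
    (ha : ⁅Cfsg.omegaCenterOf T, P⁆ ≠ ⊥) : Side ↥X (P.subgroupOf X) (T.subgroupOf X) := by
  haveI : Fact (Nat.Prime 2) := ⟨Nat.prime_two⟩
  obtain ⟨hTP, hT2, hodd⟩ := hs
  obtain ⟨e, he⟩ : ∃ e : ↥(P.subgroupOf X) ≃* ↥P, e = subgroupOfEquivOfLe hPX := ⟨_, rfl⟩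
  haveI := CfsgLib.Coprime.pCore_normal' (G := ↥P) 2
  haveI := CfsgLib.Coprime.pCore_normal' (G := ↥(P.subgroupOf X)) 2
  have hmem : ∀ x : X, x ∈ Cfsg.pCoreOf 2 (P.subgroupOf X) ↔ (x : G) ∈ Cfsg.pCoreOf 2 P := by
    intro x
    constructor
    · rintro ⟨y, hy, rfl⟩
      exact ⟨e y, (CfsgLib.Coprime.map_pCore_equiv e 2).le ⟨y, hy, rfl⟩, by rw [he]; rfl⟩
    · rintro ⟨y, hy, hyx⟩
      obtain ⟨z, hz, rfl⟩ := (CfsgLib.Coprime.map_pCore_equiv e 2).ge hy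
      exact ⟨z, hz, Subtype.ext (by rw [← hyx, he]; rfl)⟩
  refine ⟨inferInstance, fun t ht => hTP ht, fun x hx => ?_, ?_, ?_, fun hle => ha ?_⟩
  · rw [hmem]
    refine hc (mem_centralizer_iff.2 fun y hy => ?_)
    exact congrArg Subtype.val (mem_centralizer_iff.1 hx.2 ⟨y, hPX (pCoreOf_le 2 P hy)⟩
      ((hmem _).2 hy))
  · have h2 : IsPGroup 2 ↥((T.subgroupOf X).subgroupOf (P.subgroupOf X)) := hT2.comap_subtype.comap_subtype
    have hni : ¬ 2 ∣ ((T.subgroupOf X).subgroupOf (P.subgroupOf X)).index := by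
      have h1 : (T.subgroupOf X).relIndex (P.subgroupOf X) = T.relIndex P := relIndex_subgroupOf hPX
      rw [Subgroup.relIndex] at h1
      rw [h1]
      exact hodd.not_two_dvd_nat
    exact ⟨h2.toSylow hni, rfl⟩
  · obtain ⟨q⟩ := hq
    exact ⟨(QuotientGroup.congr _ _ e (CfsgLib.Coprime.map_pCore_equiv e 2)).trans q⟩
  · refine eq_bot_iff.2 (commutator_le.2 fun w hw p hp => ?_)
    obtain ⟨h1, h2, h3⟩ := mem_omegaCenterOf.1 hw
    have hwX : (⟨w, hPX (hTP h1)⟩ : X) ∈ Cfsg.omegaCenterOf (T.subgroupOf X) :=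
      mem_omegaCenterOf.2 ⟨h1, fun y hy => Subtype.ext (h2 _ hy), Subtype.ext h3⟩
    rw [mem_bot, commutatorElement_eq_one_iff_mul_comm]
    exact congrArg Subtype.val (mem_centralizer_iff.1 (hle (x := ⟨p, hPX hp⟩) hp) _ hwX)

variable (hL : Cfsg.IsCharacteristicTwoType G)
  (hN : ∀ N : Subgroup G, Cfsg.IsTwoLocal N → Group.IsSolvable ↥N)
  (hZ : ZHyp G) {T K : Subgroup G} (hT : IsPGroup 2 T) (hK : Nice T K)
include hL hN hZ hT hK

omit hL hN hZ in
theorem core_card_le (he : Nonempty (↥(K ⊔ T) ≃* Equiv.Perm (Fin 4)) ∨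
    Nonempty (↥(K ⊔ T) ≃* Equiv.Perm (Fin 4) × Multiplicative (ZMod 2))) :
    Nat.card ↥(Cfsg.pCoreOf 2 (K ⊔ T)) ≤ 8 := by
  have h := relIndex_mul_relIndex ⊥ (Cfsg.pCoreOf 2 (K ⊔ T)) (K ⊔ T) bot_le (pCoreOf_le 2 _)
  rw [Nice.relIndex_core hT hK, relIndex_bot_left, relIndex_bot_left] at h
  rcases he with ⟨⟨e⟩⟩ | ⟨⟨e⟩⟩
  · rw [Nat.card_congr e.toEquiv, Nat.card_perm, Nat.card_fin] at h
    norm_num [Nat.factorial] at h; omega
  · rw [Nat.card_congr e.toEquiv, Nat.card_prod, Nat.card_perm, Nat.card_fin] at h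
    norm_num [Nat.factorial, Nat.card_zmod] at h; omega

/-- When `K T` has the shape of `S₄` or `S₄ × 2` it is the whole of `N(K)`. -/
theorem normalizer_eq_sup (he : Nonempty (↥(K ⊔ T) ≃* Equiv.Perm (Fin 4)) ∨
    Nonempty (↥(K ⊔ T) ≃* Equiv.Perm (Fin 4) × Multiplicative (ZMod 2))) :
    normalizer (K : Set G) = K ⊔ T := by
  classical
  haveI : Fact (Nat.Prime 2) := ⟨Nat.prime_two⟩
  obtain ⟨E, hE⟩ : ∃ E, E = Cfsg.pCoreOf 2 (K ⊔ T) := ⟨_, rfl⟩
  obtain ⟨L, hLdef⟩ : ∃ L, L = normalizer (K : Set G) := ⟨_, rfl⟩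
  have hHL : K ⊔ T ≤ L := hLdef ▸ sup_le le_normalizer hK.le_norm
  have hEab : ∀ a ∈ E, ∀ b ∈ E, a * b = b * a := by
    haveI := CfsgLib.Coprime.pCore_normal' (G := ↥(K ⊔ T)) 2
    have hsq : ∀ a ∈ E, a * a = 1 := by
      rw [hE]
      rintro a ⟨a', ha', rfl⟩
      have h := sq_of_normal_two (CfsgLib.Coprime.pCore_isPGroup 2) he ha'
      rw [pow_two] at h
      exact congrArg Subtype.val h
    intro a ha b hb
    have h1 := inv_eq_of_mul_eq_one_left (hsq _ (mul_mem ha hb))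
    rw [mul_inv_rev, inv_eq_of_mul_eq_one_left (hsq a ha), inv_eq_of_mul_eq_one_left (hsq b hb)] at h1
    exact h1.symm
  have hDE : coreOf L ≤ E := hE ▸ hLdef ▸ Nice.core_normalizer_le_core hL hN hZ hT hK
  have hDC : centralizer (coreOf L : Set G) ≤ coreOf L := hLdef ▸ Nice.centralizer_core_le hL hN hZ hT hK
  have hED : E = coreOf L := le_antisymm
    (fun a ha => hDC (mem_centralizer_iff.2 fun d hd => hEab d (hDE hd) a ha)) hDE
  have hLE : L ≤ normalizer (E : Set G) := by rw [hED]; exact le_normalizer_pCoreOf 2 L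
  have hLW : L ≤ normalizer (Cfsg.wOf K : Set G) := hLdef ▸ normalizer_le_normalizer_wOf K
  have hWE : Cfsg.wOf K ≤ E := hE ▸ le_pCoreOf
    (((wOf_le_core K).trans (pCoreOf_le 2 K)).trans le_sup_left) (isPGroup_four (wOf_sq hK.keeps.1))
    ((sup_le le_normalizer hK.le_norm).trans (normalizer_le_normalizer_wOf K))
  have hE8 : Nat.card ↥E ≤ 8 := hE ▸ core_card_le hT hK he
  have hW2 : (Cfsg.wOf K).relIndex E ≤ 2 := by
    have h := relIndex_mul_relIndex ⊥ (Cfsg.wOf K) E bot_le hWE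
    rw [relIndex_bot_left, relIndex_bot_left, hK.keeps.1.2.2.2.2.1] at h
    omega
  obtain ⟨S, hS⟩ : ∃ S : Set G, S = {w | w ∈ Cfsg.wOf K ∧ w ≠ 1} := ⟨_, rfl⟩
  let φ : L →* Equiv.Perm S :=
    { toFun := fun g =>
        { toFun := fun w => ⟨(g : G) * w * (g : G)⁻¹, by
            obtain ⟨h1, h2⟩ := (hS ▸ w.2 : (w : G) ∈ {w | w ∈ Cfsg.wOf K ∧ w ≠ 1})
            exact (Set.ext_iff.1 hS _).2 ⟨conj_mem hLW g.2 h1, fun e => h2 (conj_eq_one_iff.1 e)⟩⟩
          invFun := fun w => ⟨(g : G)⁻¹ * w * (g : G), by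
            obtain ⟨h1, h2⟩ := (hS ▸ w.2 : (w : G) ∈ {w | w ∈ Cfsg.wOf K ∧ w ≠ 1})
            refine (Set.ext_iff.1 hS _).2 ⟨by simpa using conj_mem hLW (inv_mem g.2) h1, fun e => h2 ?_⟩
            have : (g : G) * ((g : G)⁻¹ * w * g) * (g : G)⁻¹ = w := by group
            rw [← this, e]; group⟩
          left_inv := fun w => Subtype.ext (by simp [mul_assoc])
          right_inv := fun w => Subtype.ext (by simp [mul_assoc]) }
      map_one' := Equiv.ext fun w => Subtype.ext (by simp)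
      map_mul' := fun a b => Equiv.ext fun w => Subtype.ext (by simp [mul_assoc]) }
  have hker : IsPGroup 2 φ.ker := by
    intro ⟨g, hg⟩
    have hfix : ∀ w ∈ Cfsg.wOf K, (g : G) * w * (g : G)⁻¹ = w := by
      intro w hw
      by_cases h1 : w = 1
      · simp [h1]
      · exact congrArg Subtype.val (Equiv.ext_iff.1 (MonoidHom.mem_ker.1 hg) ⟨w, hS ▸ ⟨hw, h1⟩⟩)
    have hg2 : (g : G) * g ∈ E := by
      rw [hED]
      refine hDC (mem_centralizer_iff.2 fun d hd => ?_)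
      rw [← hED] at hd
      have hd' : (g : G) * d * (g : G)⁻¹ * d⁻¹ ∈ Cfsg.wOf K := by
        by_cases hdW : d ∈ Cfsg.wOf K
        · rw [hfix d hdW, mul_inv_cancel]; exact one_mem _
        have hgd : (g : G) * d * (g : G)⁻¹ ∉ Cfsg.wOf K := fun h => hdW (by
          have h2 : d = (g : G)⁻¹ * ((g : G) * d * (g : G)⁻¹) * (g : G) := by group
          rw [h2]
          simpa using conj_mem hLW (inv_mem g.2) h)
        have hi : ((Cfsg.wOf K).subgroupOf E).index = 2 := by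
          have h1 : (Cfsg.wOf K).relIndex E ≠ 1 := fun e => hdW (relIndex_eq_one.1 e hd)
          have h0 : (Cfsg.wOf K).relIndex E ≠ 0 := index_ne_zero_of_finite
          rw [← Subgroup.relIndex]
          omega
        exact (mul_mem_iff_of_index_two hi (a := ⟨_, conj_mem hLE g.2 hd⟩) (b := ⟨d⁻¹, inv_mem hd⟩)).2
          (iff_of_false (fun h => hgd h) fun h => hdW (by simpa using inv_mem (show d⁻¹ ∈ Cfsg.wOf K from h)))
      obtain ⟨w, hw⟩ : ∃ w, w = (g : G) * d * (g : G)⁻¹ * d⁻¹ := ⟨_, rfl⟩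
      have e1 : (g : G) * d * (g : G)⁻¹ = w * d := by rw [hw]; group
      have hww : w * w = 1 := wOf_sq hK.keeps.1 w (hw ▸ hd')
      have e2 : (g : G) * g * d * ((g : G) * g)⁻¹ = d := by
        calc (g : G) * g * d * ((g : G) * g)⁻¹ = (g : G) * ((g : G) * d * (g : G)⁻¹) * (g : G)⁻¹ := by group
          _ = (g : G) * (w * d) * (g : G)⁻¹ := by rw [e1]
          _ = ((g : G) * w * (g : G)⁻¹) * ((g : G) * d * (g : G)⁻¹) := by group
          _ = w * (w * d) := by rw [hfix w (hw ▸ hd'), e1]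
          _ = d := by rw [← mul_assoc, hww, one_mul]
      exact (mul_inv_eq_iff_eq_mul.1 e2).symm
    obtain ⟨k, hk⟩ := (hE ▸ isPGroup_pCoreOf 2 (K ⊔ T) : IsPGroup 2 ↥E) ⟨_, hg2⟩
    refine ⟨k + 1, Subtype.ext (Subtype.ext ?_)⟩
    have hk' : ((g : G) * g) ^ 2 ^ k = 1 := congrArg Subtype.val hk
    show (g : G) ^ 2 ^ (k + 1) = 1
    rw [pow_succ', pow_mul, pow_two]
    exact hk'
  have hS3 : Nat.card S = 3 := by
    rw [hS, Nat.card_coe_set_eq]
    have h4 : (Cfsg.wOf K : Set G).ncard = 4 := (Nat.card_coe_set_eq _).symm.trans hK.keeps.1.2.2.2.2.1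
    rw [show {w | w ∈ Cfsg.wOf K ∧ w ≠ 1} = (Cfsg.wOf K : Set G) \ {1} from rfl,
      Set.ncard_diff_singleton_of_mem (one_mem _), h4]
  obtain ⟨k, hk⟩ := hker.exists_card_eq
  have hdvd : Nat.card L ∣ 6 * 2 ^ k := by
    have h := φ.ker.index_mul_card
    rw [index_ker, hk] at h
    rw [← h]
    refine Nat.mul_dvd_mul ?_ dvd_rfl
    haveI : Finite S := Nat.finite_of_card_ne_zero (by rw [hS3]; norm_num)
    have h6 := card_subgroup_dvd_card φ.range
    rwa [Nat.card_perm, hS3, show Nat.factorial 3 = 6 from rfl] at h6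
  have hodd : Odd (T.relIndex L) := hLdef ▸ hK.sylow.2.2
  have h3 : T.relIndex L ∣ 3 := by
    have h1 : T.relIndex L ∣ Nat.card L := relIndex_dvd_card _ _
    have h2 : T.relIndex L ∣ 3 * 2 ^ (k + 1) := by
      rw [show 3 * 2 ^ (k + 1) = 6 * 2 ^ k by ring]; exact h1.trans hdvd
    exact (Nat.Coprime.pow_right (k + 1) (Nat.coprime_two_right.2 hodd)).dvd_of_dvd_mul_right h2
  have hmul := relIndex_mul_relIndex T (K ⊔ T) L le_sup_right hHL
  rw [Nice.relIndex_sylow hT hK] at hmul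
  have hle := Nat.le_of_dvd (by norm_num) h3
  have hone : (K ⊔ T).relIndex L = 1 := by
    have h0 : (K ⊔ T).relIndex L ≠ 0 := index_ne_zero_of_finite
    omega
  exact hLdef ▸ le_antisymm (relIndex_eq_one.1 hone) hHL

theorem maximal_pair {K' : Subgroup G} (hK' : Nice T K') (hno : ¬ Compat T K K') :
    ∃ P₁ P₂ : Subgroup G, P₁ ≠ P₂ ∧ Cfsg.IsMaximalTwoLocal P₁ ∧ Cfsg.IsMaximalTwoLocal P₂ ∧
      Cfsg.IsSylowTwoIn T P₁ ∧ Cfsg.IsSylowTwoIn T P₂ ∧
      ((Nonempty (↥P₁ ≃* Equiv.Perm (Fin 4)) ∧ Nonempty (↥P₂ ≃* Equiv.Perm (Fin 4))) ∨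
        (Nonempty (↥P₁ ≃* Equiv.Perm (Fin 4) × Multiplicative (ZMod 2)) ∧
          Nonempty (↥P₂ ≃* Equiv.Perm (Fin 4) × Multiplicative (ZMod 2)))) := by
  haveI : Fact (Nat.Prime 2) := ⟨Nat.prime_two⟩
  obtain ⟨A, hA⟩ : ∃ A, A = K ⊔ T := ⟨_, rfl⟩
  obtain ⟨B, hB⟩ : ∃ B, B = K' ⊔ T := ⟨_, rfl⟩
  obtain ⟨X, hX⟩ : ∃ X, X = A ⊔ B := ⟨_, rfl⟩
  have hcore : Cfsg.pCoreOf 2 X = ⊥ := by
    rw [hX, hA, hB]; exact Nice.join_core_eq_bot hL hN hZ hT hK hno
  have hne : A ≠ B := by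
    intro e
    have h1 : Cfsg.pCoreOf 2 A = ⊥ := by rw [← hcore, hX, ← e, sup_idem]
    exact Nice.core_ne_bot' hT hK (hA ▸ h1)
  have hint : A ⊓ B = T := by
    have hle : T ≤ A ⊓ B := hA ▸ hB ▸ le_inf le_sup_right le_sup_right
    refine le_antisymm ?_ hle
    have h1 := relIndex_mul_relIndex T (A ⊓ B) A hle inf_le_left
    have h2 := relIndex_mul_relIndex T (A ⊓ B) B hle inf_le_right
    rw [show T.relIndex A = 3 by rw [hA]; exact Nice.relIndex_sylow hT hK] at h1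
    rw [show T.relIndex B = 3 by rw [hB]; exact Nice.relIndex_sylow hT hK'] at h2
    rcases (Nat.dvd_prime Nat.prime_three).1 (Dvd.intro _ h1) with h | h
    · exact relIndex_eq_one.1 h
    · exfalso
      rw [h] at h1 h2
      exact hne (le_antisymm ((relIndex_eq_one.1 (by omega : (A ⊓ B).relIndex A = 1)).trans inf_le_right)
        ((relIndex_eq_one.1 (by omega : (A ⊓ B).relIndex B = 1)).trans inf_le_left))
  obtain ⟨cA, sA, -, -, mA, -⟩ := Nice.amalgam_side hL hN hZ hT hK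
  obtain ⟨cB, sB, -, -, mB, -⟩ := Nice.amalgam_side hL hN hZ hT hK'
  have hAX : A ≤ X := hX ▸ le_sup_left
  have hBX : B ≤ X := hX ▸ le_sup_right
  have hfaith : ∀ N : Subgroup ↥X, N.Normal → N ≤ T.subgroupOf X → N = ⊥ := by
    intro N hNn hNT
    have hmap : N.map X.subtype ≤ Cfsg.pCoreOf 2 X := by
      refine le_pCoreOf (map_subtype_le N) ((hT.comap_subtype.to_le hNT).map _)
        (le_normalizer_of_conj fun x hx y hy => ?_)
      obtain ⟨z, hz, rfl⟩ := hy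
      exact ⟨⟨x, hx⟩ * z * ⟨x, hx⟩⁻¹, hNn.conj_mem z hz _, rfl⟩
    rw [hcore, le_bot_iff] at hmap
    exact (map_eq_bot_iff_of_injective N X.subtype_injective).1 hmap
  have hgen : A.subgroupOf X ⊔ B.subgroupOf X = ⊤ := by
    rw [← subgroupOf_sup hAX hBX, ← hX, subgroupOf_self]
  have hinf : T.subgroupOf X = A.subgroupOf X ⊓ B.subgroupOf X := by
    rw [← hint]; rfl
  have hshape := shape_pair (A.subgroupOf X) (B.subgroupOf X) hgen hinf
    (side_subgroupOf hAX (hA ▸ sA) (hA ▸ cA) (hA ▸ (Nice.quotient_core hT hK).2) (hA ▸ mA))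
    (side_subgroupOf hBX (hB ▸ sB) (hB ▸ cB) (hB ▸ (Nice.quotient_core hT hK').2) (hB ▸ mB)) hfaith
  have hshape' : (Nonempty (↥A ≃* Equiv.Perm (Fin 4)) ∧ Nonempty (↥B ≃* Equiv.Perm (Fin 4))) ∨
      (Nonempty (↥A ≃* Equiv.Perm (Fin 4) × Multiplicative (ZMod 2)) ∧
        Nonempty (↥B ≃* Equiv.Perm (Fin 4) × Multiplicative (ZMod 2))) :=
    hshape.imp
      (fun h => ⟨h.1.map (subgroupOfEquivOfLe hAX).symm.trans, h.2.map (subgroupOfEquivOfLe hBX).symm.trans⟩)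
      fun h => ⟨h.1.map (subgroupOfEquivOfLe hAX).symm.trans, h.2.map (subgroupOfEquivOfLe hBX).symm.trans⟩
  subst hA hB
  have e1 := normalizer_eq_sup hL hN hZ hT hK (hshape'.imp And.left And.left)
  have e2 := normalizer_eq_sup hL hN hZ hT hK' (hshape'.imp And.right And.right)
  exact ⟨_, _, hne, e1 ▸ Nice.isMaximal hL hN hZ hT hK, e2 ▸ Nice.isMaximal hL hN hZ hT hK', sA, sB, hshape'⟩

end CfsgLib.JComp
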