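import Cfsg.Agent.Lib.JComp.Family
import Mathlib.GroupTheory.SpecificGroups.Dihedral

/-!
# Components normalized by `T` and fixed under `N(J(T))`
-/

set_option autoImplicit false
set_option linter.style.haveILetI false
set_option linter.unusedSectionVars false

open Subgroup
open scoped commutatorElement

namespace CfsgLib.JComp

open CfsgLib.Fusion (conjBy)

universe u

variable {G : Type u} [Group G] [Finite G]

/-- `2`-subgroups above a Sylow `2`-subgroup -/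
theorem le_of_sylowTwoIn {T Q L : Subgroup G} (hT : Cfsg.IsSylowTwoIn T L) (hQ : IsPGroup 2 Q)
    (hTQ : T ≤ Q) (hQL : Q ≤ L) : Q ≤ T := by
  obtain ⟨g, hg, hle⟩ := exists_conjBy_le hT hQ hQL
  exact (eq_of_le_of_card_ge hTQ (CfsgLib.Fusion.card_conjBy g Q ▸ card_le_of_le hle)).ge

/-- a normalized `2`-subgroup lies in each Sylow `2`-subgroup -/
theorem le_of_normalized {T Q L : Subgroup G} (hT : Cfsg.IsSylowTwoIn T L) (hQ : IsPGroup 2 Q)
    (hQL : Q ≤ L) (hn : L ≤ normalizer (Q : Set G)) : Q ≤ T := by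
  obtain ⟨g, hg, hle⟩ := exists_conjBy_le hT hQ hQL
  rwa [CfsgLib.Fusion.conjBy_eq_iff.2 (hn hg)] at hle

theorem isSylowTwoIn_of_le {T P L : Subgroup G} (hT : Cfsg.IsSylowTwoIn T L) (hTP : T ≤ P) (hPL : P ≤ L) :
    Cfsg.IsSylowTwoIn T P :=
  ⟨hTP, hT.2.1, Odd.of_dvd_nat hT.2.2 (relIndex_mul_relIndex T P L hTP hPL ▸ dvd_mul_right _ _)⟩

theorem KeepsJ.zero {T K : Subgroup G} (hK : KeepsJ T K) : K ∈ Cfsg.jComponentsZero T :=
  ⟨hK.1, fun S hJS hS => hK.2 _ S ⟨_, isPGroup_four (wOf_sq hK.1), wOf_ne_bot hK.1, rfl⟩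
    (le_sup_left.trans (x_le_normalizer_wOf hK.1)) hS hJS⟩

/-- A component normalized by `T`, with no compatible conjugate, having `T` as Sylow subgroup of its
normalizer. -/
structure Nice (T K : Subgroup G) : Prop where
  keeps : KeepsJ T K
  fixed : Fixed T K
  le_norm : T ≤ normalizer (K : Set G)
  sylow : Cfsg.IsSylowTwoIn T (normalizer (K : Set G))

namespace Nice

variable (hL : Cfsg.IsCharacteristicTwoType G)
  (hN : ∀ N : Subgroup G, Cfsg.IsTwoLocal N → Group.IsSolvable ↥N)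
  (hZ : ZHyp G) {T K : Subgroup G} (hT : IsPGroup 2 T) (hK : Nice T K)
include hT hK

theorem mem_omegaCenterOf_of_zPart {z : G} (hz : z ∈ zPart T K) : z ∈ Cfsg.omegaCenterOf T := by
  refine mem_omegaCenterOf.2 ⟨jOf_le T (zJ_le T hz.1), fun t ht => ?_, (mem_omegaCenterOf.1 hz.1).2.2⟩
  by_cases hz1 : z = 1
  · simp [hz1]
  refine mul_inv_eq_iff_eq_mul.1 ?_
  have h := conjBy_zPart (le_normalizer_jOf T ht) hz
  rw [CfsgLib.Fusion.conjBy_eq_iff.2 (hK.le_norm ht)] at h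
  exact eq_of_card_two (card_zPart hK.keeps.1 hT) h hz (fun e => hz1 (conj_eq_one_iff.1 e)) hz1

theorem core_ne_bot' : Cfsg.pCoreOf 2 (K ⊔ T) ≠ ⊥ := by
  intro h
  have hW : Cfsg.wOf K ≤ Cfsg.pCoreOf 2 (K ⊔ T) := le_pCoreOf
    (((wOf_le_core K).trans (pCoreOf_le 2 K)).trans le_sup_left) (isPGroup_four (wOf_sq hK.keeps.1))
    ((sup_le le_normalizer hK.le_norm).trans (normalizer_le_normalizer_wOf K))
  exact wOf_ne_bot hK.keeps.1 (eq_bot_iff.2 (h ▸ hW))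

include hL hN hZ

theorem isTwoLocal : Cfsg.IsTwoLocal (normalizer (K : Set G)) := by
  rw [normalizer_zero hL hN hZ hT (KeepsJ.ne_bot hT hK.keeps) hK.keeps.zero]
  exact ⟨_, isPGroup_four (wOf_sq hK.keeps.1), wOf_ne_bot hK.keeps.1, rfl⟩

theorem le_local {L : Subgroup G} (hL2 : Cfsg.IsTwoLocal L) (hKJ : K ⊔ jOf T ≤ L) :
    L ≤ normalizer (K : Set G) :=
  le_normalizer_of_fixed hL hN hZ hT hK.keeps hK.fixed hL2 (le_sup_left.trans hKJ) (le_sup_right.trans hKJ)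

theorem isMaximal : Cfsg.IsMaximalTwoLocal (normalizer (K : Set G)) :=
  ⟨isTwoLocal hL hN hZ hT hK, fun _N hN2 hle =>
    le_antisymm (le_local hL hN hZ hT hK hN2 ((x_le_normalizer hK.keeps.1).trans hle)) hle⟩

theorem eq_local {L : Subgroup G} (hL2 : Cfsg.IsMaximalTwoLocal L) (hKJ : K ⊔ jOf T ≤ L) :
    L = normalizer (K : Set G) :=
  (hL2.2 _ (isTwoLocal hL hN hZ hT hK) (le_local hL hN hZ hT hK hL2.1 hKJ)).symm

theorem centralizer_core_le :
    centralizer (coreOf (normalizer (K : Set G)) : Set G) ≤ coreOf (normalizer (K : Set G)) := by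
  obtain ⟨T0, -, -, hLT⟩ := hK.keeps.overgroup hL hT (isTwoLocal hL hN hZ hT hK) le_normalizer
    (j_le_normalizer hK.keeps.1)
  exact hLT.2.2

theorem core_normalizer_le : coreOf (normalizer (K : Set G)) ≤ T := by
  haveI : Fact (Nat.Prime 2) := ⟨Nat.prime_two⟩
  exact le_of_normalized hK.sylow (isPGroup_pCoreOf 2 _) (pCoreOf_le 2 _) (le_normalizer_pCoreOf 2 _)

theorem core_normalizer_le_core : coreOf (normalizer (K : Set G)) ≤ Cfsg.pCoreOf 2 (K ⊔ T) := by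
  haveI : Fact (Nat.Prime 2) := ⟨Nat.prime_two⟩
  exact le_pCoreOf ((core_normalizer_le hL hN hZ hT hK).trans le_sup_right) (isPGroup_pCoreOf 2 _)
    ((sup_le le_normalizer hK.le_norm).trans (le_normalizer_pCoreOf 2 _))

theorem centralizer_core_sup_le :
    centralizer (Cfsg.pCoreOf 2 (K ⊔ T) : Set G) ≤ Cfsg.pCoreOf 2 (K ⊔ T) :=
  (centralizer_le (SetLike.coe_subset_coe.2 (core_normalizer_le_core hL hN hZ hT hK))).trans
    ((centralizer_core_le hL hN hZ hT hK).trans (core_normalizer_le_core hL hN hZ hT hK))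

omit hL hN hZ

theorem sylow_sup : Cfsg.IsSylowTwoIn T (K ⊔ T) :=
  isSylowTwoIn_of_le hK.sylow le_sup_right (sup_le le_normalizer hK.le_norm)

theorem core_sup_le : Cfsg.pCoreOf 2 (K ⊔ T) ≤ T := by
  haveI : Fact (Nat.Prime 2) := ⟨Nat.prime_two⟩
  exact le_of_normalized (sylow_sup hT hK) (isPGroup_pCoreOf 2 _) (pCoreOf_le 2 _) (le_normalizer_pCoreOf 2 _)

theorem not_jOf_le_core : ¬ jOf T ≤ Cfsg.pCoreOf 2 (K ⊔ T) := by
  haveI : Fact (Nat.Prime 2) := ⟨Nat.prime_two⟩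
  intro h
  have hKQ : K ≤ Cfsg.pCoreOf 2 (K ⊔ T) := by
    conv_lhs => rw [← hK.keeps.1.2.1]
    refine commutator_le.2 fun k hk j hj => ?_
    rw [commutatorElement_def]
    exact mul_mem (conj_mem (le_normalizer_pCoreOf 2 _) (mem_sup_left hk) (h hj)) (inv_mem (h hj))
  obtain ⟨n, hn⟩ := ((isPGroup_pCoreOf 2 _).to_le hKQ).exists_card_eq
  have h3 : 3 ∣ 2 ^ n := by
    rw [← hn, ← hK.keeps.1.2.2.1]
    exact relIndex_dvd_card _ _
  have := Nat.prime_three.dvd_of_dvd_pow h3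
  norm_num at this

theorem not_commutator_le : ¬ ⁅K ⊔ T, K ⊔ T⁆ ≤ Cfsg.pCoreOf 2 (K ⊔ T) := by
  haveI : Fact (Nat.Prime 2) := ⟨Nat.prime_two⟩
  intro h
  have hKQ : K ≤ Cfsg.pCoreOf 2 (K ⊔ T) := by
    conv_lhs => rw [← hK.keeps.1.2.1]
    exact (commutator_mono le_sup_left ((jOf_le T).trans le_sup_right)).trans h
  obtain ⟨n, hn⟩ := ((isPGroup_pCoreOf 2 _).to_le hKQ).exists_card_eq
  have h3 : 3 ∣ 2 ^ n := by
    rw [← hn, ← hK.keeps.1.2.2.1]
    exact relIndex_dvd_card _ _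
  have := Nat.prime_three.dvd_of_dvd_pow h3
  norm_num at this

theorem commutator_omega_ne : ⁅Cfsg.omegaCenterOf T, K ⊔ T⁆ ≠ ⊥ := by
  intro h
  obtain ⟨z, hz, hz1⟩ := exists_ne_one_of_card_two (card_zPart hK.keeps.1 hT)
  refine not_mem_cPart_of_mem_zPart hK.keeps.1 hz hz1 ⟨hz.1, mem_centralizer_iff.2 fun k hk => ?_⟩
  have h1 := h ▸ commutator_mem_commutator (mem_omegaCenterOf_of_zPart hT hK hz)
    (mem_sup_left hk : k ∈ K ⊔ T)
  rw [mem_bot, commutatorElement_eq_one_iff_mul_comm] at h1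
  exact h1.symm

theorem relIndex_sylow : T.relIndex (K ⊔ T) = 3 := by
  haveI : Fact (Nat.Prime 2) := ⟨Nat.prime_two⟩
  have hR : coreOf K ≤ K ⊓ T := by
    refine le_inf (pCoreOf_le 2 K) (le_sup_left.trans (le_of_sylowTwoIn hK.sylow (Q := coreOf K ⊔ T) ?_
      le_sup_right (sup_le ((pCoreOf_le 2 K).trans le_normalizer) hK.le_norm)))
    exact IsPGroup.to_sup_of_normal_left' (isPGroup_pCoreOf 2 K) hT
      (hK.le_norm.trans (normalizer_le_normalizer_pCoreOf K))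
  have h3 : (K ⊓ T).relIndex K = 3 := by
    have hd := relIndex_dvd_of_le_left K hR
    rw [show (coreOf K).relIndex K = 3 from hK.keeps.1.2.2.1] at hd
    rcases (Nat.dvd_prime Nat.prime_three).1 hd with h | h
    · exfalso
      have hKT : K ≤ T := (relIndex_eq_one.1 h).trans inf_le_right
      obtain ⟨n, hn⟩ := (hT.to_le hKT).exists_card_eq
      have h3 : 3 ∣ 2 ^ n := by
        rw [← hn, ← hK.keeps.1.2.2.1]
        exact relIndex_dvd_card _ _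
      have := Nat.prime_three.dvd_of_dvd_pow h3
      norm_num at this
    · exact h
  have h := CfsgLib.EABasic.card_sup_mul_card_inf_of_le_normalizer (H := T) (N := K) hK.le_norm
  rw [sup_comm, inf_comm] at h
  have h1 := relIndex_mul_relIndex ⊥ (K ⊓ T) K bot_le inf_le_left
  have h2 := relIndex_mul_relIndex ⊥ T (K ⊔ T) bot_le le_sup_right
  rw [relIndex_bot_left, relIndex_bot_left, h3] at h1
  rw [relIndex_bot_left, relIndex_bot_left] at h2
  rw [← h2, ← h1] at h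
  have hpos : 0 < Nat.card T * Nat.card ↥(K ⊓ T) := Nat.mul_pos Nat.card_pos Nat.card_pos
  exact Nat.eq_of_mul_eq_mul_left hpos (by linarith)

theorem quotient_core : (Cfsg.pCore 2 ↥(K ⊔ T)).index = 6 ∧
    Nonempty (↥(K ⊔ T) ⧸ Cfsg.pCore 2 ↥(K ⊔ T) ≃* Equiv.Perm (Fin 3)) := by
  haveI : Fact (Nat.Prime 2) := ⟨Nat.prime_two⟩
  obtain ⟨T', hT'⟩ : ∃ T' : Subgroup ↥(K ⊔ T), T' = T.subgroupOf (K ⊔ T) := ⟨_, rfl⟩
  have h3 : T'.index = 3 := hT' ▸ relIndex_sylow hT hK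
  have hp : Cfsg.pCore 2 ↥(K ⊔ T) ≤ T' := fun x hx => hT' ▸ core_sup_le hT hK ⟨x, hx, rfl⟩
  have hcore : T'.normalCore = Cfsg.pCore 2 ↥(K ⊔ T) := by
    refine le_antisymm (CfsgLib.Coprime.le_pCore ?_) ?_
    · exact IsPGroup.to_le (hT' ▸ hT.comap_subtype) (normalCore_le T')
    · haveI := CfsgLib.Coprime.pCore_normal' (G := ↥(K ⊔ T)) 2
      exact normal_le_normalCore.2 hp
  obtain ⟨φ, hφ⟩ : ∃ φ, φ = MulAction.toPermHom ↥(K ⊔ T) (↥(K ⊔ T) ⧸ T') := ⟨_, rfl⟩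
  have hker : φ.ker = Cfsg.pCore 2 ↥(K ⊔ T) := by rw [hφ, ← normalCore_eq_ker, hcore]
  have hc : Nat.card (↥(K ⊔ T) ⧸ T') = 3 := h3
  have hperm : Nat.card (Equiv.Perm (↥(K ⊔ T) ⧸ T')) = 6 := by
    rw [Nat.card_perm, hc]; rfl
  have hd : (Cfsg.pCore 2 ↥(K ⊔ T)).index ∣ 6 := by
    rw [← hker, index_ker, ← hperm]
    exact card_subgroup_dvd_card _
  have h3d : 3 ∣ (Cfsg.pCore 2 ↥(K ⊔ T)).index := h3 ▸ index_dvd_of_le hp
  have hne : (Cfsg.pCore 2 ↥(K ⊔ T)).index ≠ 3 := fun h => by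
    have he : Cfsg.pCore 2 ↥(K ⊔ T) = T' := by
      refine eq_of_le_of_card_ge hp (le_of_eq ?_)
      have ha := card_mul_index T'
      have hb := card_mul_index (Cfsg.pCore 2 ↥(K ⊔ T))
      rw [h3] at ha; rw [h] at hb
      omega
    refine not_jOf_le_core hT hK fun j hj => ⟨⟨j, mem_sup_right (jOf_le T hj)⟩, ?_, rfl⟩
    rw [he, hT']
    exact jOf_le T hj
  have h6 : (Cfsg.pCore 2 ↥(K ⊔ T)).index = 6 := by
    have hle := Nat.le_of_dvd (by norm_num) hd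
    interval_cases (Cfsg.pCore 2 ↥(K ⊔ T)).index <;> omega
  refine ⟨h6, ?_⟩
  have hsurj : Function.Surjective φ := by
    rw [← MonoidHom.range_eq_top]
    refine eq_top_of_card_eq _ ?_
    rw [← index_ker, hker, h6, hperm]
  exact ⟨((QuotientGroup.quotientMulEquivOfEq hker.symm).trans
    (QuotientGroup.quotientKerEquivOfSurjective φ hsurj)).trans
    (Finite.equivFinOfCardEq hc).permCongrHom⟩

theorem relIndex_core : (Cfsg.pCoreOf 2 (K ⊔ T)).relIndex (K ⊔ T) = 6 := by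
  rw [← (quotient_core hT hK).1, relIndex, Cfsg.pCoreOf, ← comap_subtype,
    comap_map_eq_self_of_injective (K ⊔ T).subtype_injective]

include hL hN hZ

theorem amalgam_side : centralizer (Cfsg.pCoreOf 2 (K ⊔ T) : Set G) ≤ Cfsg.pCoreOf 2 (K ⊔ T) ∧
    Cfsg.IsSylowTwoIn T (K ⊔ T) ∧ (Cfsg.pCoreOf 2 (K ⊔ T)).relIndex (K ⊔ T) = 6 ∧
    ¬ ⁅K ⊔ T, K ⊔ T⁆ ≤ Cfsg.pCoreOf 2 (K ⊔ T) ∧ ⁅Cfsg.omegaCenterOf T, K ⊔ T⁆ ≠ ⊥ ∧
    ∃ L : Subgroup G, Cfsg.IsMaximalTwoLocal L ∧ K ⊔ T ≤ L ∧ Cfsg.IsSylowTwoIn T L ∧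
      ∀ L' : Subgroup G, Cfsg.IsMaximalTwoLocal L' → K ⊔ T ≤ L' → L' = L :=
  ⟨centralizer_core_sup_le hL hN hZ hT hK, sylow_sup hT hK, relIndex_core hT hK, not_commutator_le hT hK,
    commutator_omega_ne hT hK, _, isMaximal hL hN hZ hT hK, sup_le le_normalizer hK.le_norm, hK.sylow,
    fun _L' hL' hle => eq_local hL hN hZ hT hK hL' ((sup_le_sup_left (jOf_le T) K).trans hle)⟩

theorem join_core_eq_bot {K' : Subgroup G} (hno : ¬ Compat T K K') :
    Cfsg.pCoreOf 2 ((K ⊔ T) ⊔ (K' ⊔ T)) = ⊥ := by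
  haveI : Fact (Nat.Prime 2) := ⟨Nat.prime_two⟩
  by_contra hne
  have hle := le_normalizer_pCoreOf 2 ((K ⊔ T) ⊔ (K' ⊔ T))
  exact hno ⟨normalizer (Cfsg.pCoreOf 2 ((K ⊔ T) ⊔ (K' ⊔ T)) : Set G),
    ⟨_, isPGroup_pCoreOf 2 _, hne, rfl⟩,
    (jOf_le T).trans ((le_sup_right.trans le_sup_left).trans hle),
    (le_sup_left.trans le_sup_left).trans hle, (le_sup_left.trans le_sup_right).trans hle⟩

end Nice

end CfsgLib.JComp
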