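import Cfsg.Agent.Lib.JComp.CaseB

/-!
# Outside components of a maximal straddling subgroup
-/

set_option autoImplicit false
set_option linter.style.haveILetI false
set_option linter.unusedSectionVars false

open Subgroup
open scoped commutatorElement

namespace CfsgLib.JComp

open CfsgLib.Fusion (conjBy)

universe u

variable {G : Type u} [Group G] [Finite G]

theorem exists_sylow_above {S : Sylow 2 G} {M T : Subgroup G}
    (hMJ : normalizer (jOf (S : Subgroup G) : Set G) ≤ M) (hT : IsPGroup 2 T) (hTM : T ≤ M) :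
    ∃ P : Sylow 2 G, T ≤ (P : Subgroup G) ∧ (P : Subgroup G) ≤ M := by
  haveI : Fact (Nat.Prime 2) := ⟨Nat.prime_two⟩
  have hSM : (S : Subgroup G) ≤ M := (le_normalizer_jOf _).trans hMJ
  obtain ⟨g, hg, hle⟩ := exists_conjBy_le (isSylowTwoIn_sylow S hSM) hT hTM
  refine ⟨g⁻¹ • S, fun t ht => ?_, fun x hx => ?_⟩
  · rw [Sylow.coe_subgroup_smul, Subgroup.mem_pointwise_smul_iff_inv_smul_mem]
    simpa [MulAut.smul_def] using hle (CfsgLib.Fusion.conj_mem_conjBy ht)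
  · rw [Sylow.coe_subgroup_smul, Subgroup.mem_pointwise_smul_iff_inv_smul_mem] at hx
    have h := mul_mem (mul_mem (inv_mem hg) (hSM hx)) hg
    simpa [MulAut.smul_def, mul_assoc] using h

variable (hL : Cfsg.IsCharacteristicTwoType G)
  (hN : ∀ N : Subgroup G, Cfsg.IsTwoLocal N → Group.IsSolvable ↥N)
  (hZ : ZHyp G) (hO : Cfsg.pCore 2 G = ⊥) {S : Sylow 2 G} {M T K : Subgroup G}
  (hMJ : normalizer (jOf (S : Subgroup G) : Set G) ≤ M) (hT : T ∈ Cfsg.maxStraddlingTwoSubgroups M)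
  (hK : K ∈ Cfsg.jComponentsOutside M T)
include hL hN hZ hO hMJ hT hK

theorem ext_or_sylow : (∃ R, Ext M T R) ∨ ∃ P : Sylow 2 G, T = (P : Subgroup G) := by
  obtain ⟨P, hTP, hPM⟩ := exists_sylow_above hMJ hT.1.1 hT.1.2.2.1
  by_cases he : T = (P : Subgroup G)
  · exact Or.inr ⟨P, he⟩
  · obtain ⟨R, hR, -⟩ := exists_ext P.2 hTP he hPM
    exact Or.inl ⟨R, hR⟩

theorem nice_outside : Nice T K := by
  rcases ext_or_sylow hL hN hZ hO hMJ hT hK with ⟨R, hR⟩ | ⟨P, rfl⟩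
  · exact nice_outer hL hN hZ hMJ hT hR ⟨hK.1.1, hK.2.1⟩ hK.2.2
  · exact nice_sylow hL hN hZ P hO hK.1.1 (le_normalizer_sylow hL hN hZ P hO hK.1.1 hK.2.2)

theorem exists_amalgam : ∃ K₁ K₂ : Subgroup G, Nice T K₁ ∧ Nice T K₂ ∧ K₁ ≠ K₂ ∧ ¬ Compat T K₁ K₂ := by
  rcases ext_or_sylow hL hN hZ hO hMJ hT hK with ⟨R, hR⟩ | ⟨P, rfl⟩
  · have hn := nice_outer hL hN hZ hMJ hT hR ⟨hK.1.1, hK.2.1⟩ hK.2.2
    obtain ⟨y, -, -, -, hn', hne, hno⟩ := exists_partner hL hN hZ hMJ hT hR ⟨hK.1.1, hK.2.1⟩ hn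
    exact ⟨K, _, hn, hn', hne, hno⟩
  · exact exists_pair_sylow hL hN hZ P hO hK.1.1 (le_normalizer_sylow hL hN hZ P hO hK.1.1 hK.2.2)

theorem center_cases (hTS : T ≤ (S : Subgroup G)) :
    (Cfsg.omegaCenterOf (S : Subgroup G) = zJ T ∧ Nat.card ↥(zJ T) = 2) ∨
    (Cfsg.omegaCenterOf (S : Subgroup G) = zJ T ∧ Nat.card ↥(zJ T) = 4 ∧ T = (S : Subgroup G)) ∨
    (Cfsg.omegaCenterOf T = zJ T ∧ Nat.card ↥(zJ T) = 4 ∧
      (normalizer (K : Set G) ⊓ centralizer (zJ T : Set G)).relIndex (normalizer (zJ T : Set G)) = 2) := by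
  by_cases he : T = (S : Subgroup G)
  · subst he
    have hKn := le_normalizer_sylow hL hN hZ S hO hK.1.1 hK.2.2
    have h := omega_eq_sylow hL hN hZ S hO hK.1.1 hKn
    rcases card_zJ_sylow hL hN hZ S hO hK.1.1 with h2 | h4
    · exact Or.inl ⟨h, h2⟩
    · exact Or.inr (Or.inl ⟨h, h4, rfl⟩)
  have hSM : (S : Subgroup G) ≤ M := (le_normalizer_jOf _).trans hMJ
  obtain ⟨R, hR, -⟩ := exists_ext S.2 hTS he hSM
  have hKo : K ∈ outer M T := ⟨hK.1.1, hK.2.1⟩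
  have hn := nice_outer hL hN hZ hMJ hT hR hKo hK.2.2
  rcases card_zJ_outer hL hN hZ hMJ hT hR hKo with h2 | h4
  · refine Or.inl ⟨?_, h2⟩
    have hS1 : (S : Subgroup G) ≠ ⊥ := fun h => hT.1.2.1 (eq_bot_iff.2 (h ▸ hTS))
    have hle := (Nice.omega_sylow_le hL hN hZ hT.1.1 hn hTS).trans (omegaCenterOf_le_zJ T)
    refine eq_of_le_of_card_ge hle ?_
    rw [h2]
    haveI := Subgroup.nontrivial_iff_ne_bot _ |>.2 (omegaCenterOf_ne_bot S.2 hS1)
    exact Finite.one_lt_card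
  · obtain ⟨h1, h2⟩ := four_facts hL hN hZ hMJ hT hR hKo hn h4
    exact Or.inr (Or.inr ⟨h1, h4, h2⟩)

end CfsgLib.JComp
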