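import Cfsg.Agent.Lib.JComp.Data
import Cfsg.Agent.S2941

/-!
# Components inside a member of the family attached to a `2`-subgroup
-/

set_option autoImplicit false
set_option linter.style.haveILetI false
set_option linter.unusedSectionVars false

open Subgroup
open scoped commutatorElement

namespace CfsgLib.JComp

open CfsgLib.Fusion (IsMaxEA conjBy)
open CfsgLib.EABasic (comm_of_isElementaryAbelian)

universe u

variable {G : Type u} [Group G] [Finite G] {T L : Subgroup G}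

theorem two_pow_mem (hZ : ZHyp G) (hLT : L ∈ Cfsg.jOvergroups T) {z : G} (hz : z ∈ cOf L) {m : ℕ}
    (hm : z ^ 2 ^ m ∈ coreOf L) : z ∈ coreOf L := by
  haveI : Fact (Nat.Prime 2) := ⟨Nat.prime_two⟩
  obtain ⟨l, hl⟩ := isPGroup_pCoreOf 2 L ⟨_, hm⟩
  refine two_mem_core hZ hLT hz (m := m + l) ?_
  rw [pow_add, pow_mul]
  exact congrArg Subtype.val hl

theorem conj_core {g x : G} (hg : g ∈ L) (hx : x ∈ coreOf L) : g * x * g⁻¹ ∈ coreOf L :=
  conj_mem (le_normalizer_pCoreOf 2 L) hg hx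

/-- An element of odd order in the product with a normalizing `2`-group. -/
theorem odd_mem_sup {K Q : Subgroup G} (hQ : IsPGroup 2 Q) (hn : Q ≤ normalizer (K : Set G)) {x : G}
    (hx : x ∈ K ⊔ Q) (ho : Odd (orderOf x)) : x ∈ K := by
  obtain ⟨k, hk, q, hq, rfl⟩ := CfsgLib.Coprime.mem_sup_exists hn hx
  have hpow : ∀ m : ℕ, ∃ k' ∈ K, (k * q) ^ m = k' * q ^ m := by
    intro m
    induction m with
    | zero => exact ⟨1, one_mem _, by simp⟩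
    | succ m ih =>
      obtain ⟨a', ha', he⟩ := ih
      refine ⟨a' * (q ^ m * k * (q ^ m)⁻¹), mul_mem ha' (conj_mem hn (pow_mem hq m) hk), ?_⟩
      rw [pow_succ, he, pow_succ]; group
  obtain ⟨k', hk', he⟩ := hpow (orderOf (k * q))
  rw [pow_orderOf_eq_one] at he
  have h1 : q ^ orderOf (k * q) ∈ K := by
    rw [← inv_eq_of_mul_eq_one_right he.symm]
    exact inv_mem hk'
  obtain ⟨n, hn'⟩ := hQ ⟨q, hq⟩
  obtain ⟨m, hm⟩ := exists_pow_eq_self_of_coprime (x := q) (n := orderOf (k * q))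
    ((Nat.Coprime.pow_right n ho.coprime_two_right).coprime_dvd_right
      (orderOf_dvd_of_pow_eq_one (congrArg Subtype.val hn')))
  exact mul_mem hk (hm ▸ pow_mem h1 m)

theorem sn_step {L A B : Subgroup G} (hAB : A ≤ B) (hBL : B ≤ L) (hn : B ≤ normalizer (A : Set G))
    (hB : (B.subgroupOf L).IsSubnormal) : (A.subgroupOf L).IsSubnormal := by
  refine Subgroup.IsSubnormal.step _ _ (comap_mono hAB) hB ⟨fun x hx y => ?_⟩
  simp only [mem_subgroupOf, Subgroup.coe_mul, Subgroup.coe_inv] at hx ⊢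
  exact conj_mem hn (mem_subgroupOf.1 y.2) hx

namespace Data

variable (d : Data T L) (hZ : ZHyp G) (hLT : L ∈ Cfsg.jOvergroups T)
include hZ hLT

/-- `M` centralizes `C_L(U)` modulo `O₂(L)`. -/
theorem M_central {x c : G} (hx : x ∈ d.M) (hc : c ∈ cOf L) : x * c * x⁻¹ * c⁻¹ ∈ coreOf L := by
  obtain ⟨D, hD⟩ : ∃ D : Subgroup G, ∀ x, x ∈ D ↔ x ∈ L ∧ ∀ c ∈ cOf L, x * c * x⁻¹ * c⁻¹ ∈ coreOf L := by
    refine ⟨{ carrier := {x | x ∈ L ∧ ∀ c ∈ cOf L, x * c * x⁻¹ * c⁻¹ ∈ coreOf L}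
              one_mem' := ⟨one_mem _, fun c _ => by simp [one_mem]⟩
              mul_mem' := ?_
              inv_mem' := ?_ }, fun x => Iff.rfl⟩
    · rintro x y ⟨hx, hx'⟩ ⟨hy, hy'⟩
      refine ⟨mul_mem hx hy, fun c hc => ?_⟩
      rw [show x * y * c * (x * y)⁻¹ * c⁻¹ = (x * (y * c * y⁻¹ * c⁻¹) * x⁻¹) * (x * c * x⁻¹ * c⁻¹) by group]
      exact mul_mem (conj_core hx (hy' c hc)) (hx' c hc)
    · rintro x ⟨hx, hx'⟩
      refine ⟨inv_mem hx, fun c hc => ?_⟩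
      rw [show x⁻¹ * c * x⁻¹⁻¹ * c⁻¹ = x⁻¹ * (x * c * x⁻¹ * c⁻¹)⁻¹ * x⁻¹⁻¹ by group]
      exact conj_core (inv_mem hx) (inv_mem (hx' c hc))
  refine ((hD x).1 (d.M_gen D ?_ hx)).2 c hc
  rintro g hg _ ⟨j, hj, rfl⟩
  have hjL : g * j * g⁻¹ ∈ L := mul_mem (mul_mem hg (hLT.1.1 (jOf_le T hj))) (inv_mem hg)
  obtain ⟨m, hm⟩ := hLT.1.2.1 ⟨j, jOf_le T hj⟩
  refine (hD _).2 ⟨hjL, fun c hc => two_comm hZ hLT hjL (m := m) ?_ hc⟩
  rw [MulEquiv.coe_toMonoidHom, ← map_pow, show j ^ 2 ^ m = 1 from congrArg Subtype.val hm, map_one]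

/-- a `2`-element centralizing an element modulo `C_L(U)` does so modulo `O₂(L)` -/
theorem trick {s x : G} (hs : s ∈ d.M) {m : ℕ} (hm : s ^ 2 ^ m = 1)
    (hz : s * x * s⁻¹ * x⁻¹ ∈ cOf L) : s * x * s⁻¹ * x⁻¹ ∈ coreOf L := by
  obtain ⟨z, hzd⟩ : ∃ z, z = s * x * s⁻¹ * x⁻¹ := ⟨_, rfl⟩
  rw [← hzd] at hz ⊢
  have hsL := d.M_le hs
  have key : ∀ n : ℕ, s ^ n * x * (s ^ n)⁻¹ * x⁻¹ * (z ^ n)⁻¹ ∈ coreOf L := by
    intro n
    induction n with
    | zero => simp [one_mem]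
    | succ n ih =>
      have h1 := M_central d hZ hLT hs (pow_mem hz n)
      have e : s ^ (n + 1) * x * (s ^ (n + 1))⁻¹ * x⁻¹ * (z ^ (n + 1))⁻¹ =
          (s * (s ^ n * x * (s ^ n)⁻¹ * x⁻¹ * (z ^ n)⁻¹) * s⁻¹) * (s * z ^ n * s⁻¹ * (z ^ n)⁻¹) := by
        rw [pow_succ' s n, pow_succ z n, hzd]
        group
      rw [e]
      exact mul_mem (conj_core hsL ih) h1
  have h := key (2 ^ m)
  simp only [hm, one_mul, inv_one, mul_one, mul_inv_cancel, inv_mem_iff] at h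
  exact two_pow_mem hZ hLT hz h

omit hZ hLT in
theorem fix_of_cOf {c u : G} (hc : c ∈ cOf L) (hu : u ∈ uOf L) : c * u * c⁻¹ = u := by
  rw [← mem_centralizer_iff.1 (mem_inf.1 hc).2 u hu, mul_inv_cancel_right]

/-- An element of `P` moving `U` into a four group without fixed points determines a line. -/
theorem norm_four {W : Subgroup G} (hWU : W ≤ uOf L) {e : G} (he : e ∈ d.P)
    (hmove : ∀ u ∈ uOf L, e * u * e⁻¹ * u⁻¹ ∈ W)
    (hfpf : ∀ w ∈ W, e * w * e⁻¹ = w → w = 1) {k : G} (hk : k ∈ d.P) :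
    k ∈ normalizer (W : Set G) := by
  have key : ∀ k ∈ d.P, ∀ w ∈ W, k * w * k⁻¹ ∈ W := by
    intro k hk w hw
    have hU := omegaCenterOf_ea (coreOf L)
    let φ : W → W := fun v => ⟨e * v * e⁻¹ * (v : G)⁻¹, hmove v (hWU v.2)⟩
    have hinj : Function.Injective φ := by
      rintro ⟨x, hx⟩ ⟨y, hy⟩ h
      have h' : e * x * e⁻¹ * x⁻¹ = e * y * e⁻¹ * y⁻¹ := congrArg Subtype.val h
      have hxy : e * (y⁻¹ * x) * e⁻¹ = y⁻¹ * x := by
        calc e * (y⁻¹ * x) * e⁻¹ = (e * y * e⁻¹)⁻¹ * (e * x * e⁻¹ * x⁻¹) * x := by group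
          _ = y⁻¹ * x := by rw [h']; group
      exact Subtype.ext (inv_mul_eq_one.1 (hfpf _ (mul_mem (inv_mem hy) hx) hxy)).symm
    obtain ⟨⟨v, hv⟩, hvw⟩ := Finite.surjective_of_injective hinj ⟨w, hw⟩
    have hvw' : e * v * e⁻¹ * v⁻¹ = w := congrArg Subtype.val hvw
    have hc := d.comm_P k hk e he
    have hv' : k * v * k⁻¹ ∈ uOf L := conj_mem (le_normalizer_uOf L) (d.P_le hk) (hWU hv)
    have h := hmove _ hv'
    have hcf := fix_of_cOf hc (conj_mem (le_normalizer_uOf L) (d.P_le he) hv')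
    rw [show k * w * k⁻¹ = ((k * e * k⁻¹ * e⁻¹) * (e * (k * v * k⁻¹) * e⁻¹) * (k * e * k⁻¹ * e⁻¹)⁻¹) *
      (k * v * k⁻¹)⁻¹ by rw [← hvw']; group, hcf]
    exact h
  exact mem_normalizer_iff.2 fun y => ⟨key k hk y, fun hy => by
    simpa [mul_assoc] using key k⁻¹ (inv_mem hk) _ hy⟩

theorem same_line {W : Subgroup G} (hWU : W ≤ uOf L) (hW : Nat.card W = 4) {e : G} (he : e ∈ d.P)
    (hmove : ∀ u ∈ uOf L, e * u * e⁻¹ * u⁻¹ ∈ W)
    (hfpf : ∀ w ∈ W, e * w * e⁻¹ = w → w = 1) {k : G} (hk : k ∈ d.P)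
    (hkmove : ∀ u ∈ uOf L, k * u * k⁻¹ * u⁻¹ ∈ W) : k ∈ zpowers e ⊔ cOf L := by
  have hU := omegaCenterOf_ea (coreOf L)
  have hsq : ∀ w ∈ W, w * w = 1 := fun w hw => by rw [← pow_two]; exact hU.2 w (hWU hw)
  have hne : W ≠ ⊥ := fun h => by rw [h, Subgroup.card_bot] at hW; omega
  obtain ⟨⟨w, hw⟩, hw1'⟩ := Subgroup.ne_bot_iff_exists_ne_one.1 hne
  have hw1 : w ≠ 1 := fun h => hw1' (Subtype.ext h)
  have heN := norm_four d hZ hLT hWU he hmove hfpf he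
  have hew : e * w * e⁻¹ ∈ W := (mem_normalizer_iff.1 heN w).1 hw
  have hew1 : e * w * e⁻¹ ≠ 1 := fun h => hw1 (conj_eq_one_iff.1 h)
  have hwne : w ≠ e * w * e⁻¹ := fun h => hw1 (hfpf w hw h.symm)
  have he2 : e ^ 2 * w * (e ^ 2)⁻¹ = w * (e * w * e⁻¹) := by
    have hmem : e * (e * w * e⁻¹) * e⁻¹ ∈ W := (mem_normalizer_iff.1 heN _).1 hew
    have e2 : e ^ 2 * w * (e ^ 2)⁻¹ = e * (e * w * e⁻¹) * e⁻¹ := by simp [pow_succ, mul_assoc]
    rw [e2]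
    rcases four_cases hW hsq hw hew hw1 hew1 hwne hmem with h | h | h | h
    · exact absurd (conj_eq_one_iff.1 h) hew1
    · exfalso
      have h3 := fix_of_cOf (d.cube e he) (hWU hw)
      rw [show e ^ 3 * w * (e ^ 3)⁻¹ = e * (e * (e * w * e⁻¹) * e⁻¹) * e⁻¹ by simp [pow_succ, mul_assoc], h] at h3
      exact hwne h3.symm
    · exact absurd (hfpf _ hew h) hew1
    · exact h
  have hkN := norm_four d hZ hLT hWU he hmove hfpf hk
  obtain ⟨n, hn⟩ : ∃ n : ℕ, k * w * k⁻¹ = e ^ n * w * (e ^ n)⁻¹ := by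
    rcases four_cases hW hsq hw hew hw1 hew1 hwne ((mem_normalizer_iff.1 hkN w).1 hw) with h | h | h | h
    · exact absurd (conj_eq_one_iff.1 h) hw1
    · exact ⟨0, by simpa using h⟩
    · exact ⟨1, by rw [pow_one]; exact h⟩
    · exact ⟨2, by rw [he2]; exact h⟩
  obtain ⟨z, hz⟩ : ∃ z, z = (e ^ n)⁻¹ * k := ⟨_, rfl⟩
  have hzP : z ∈ d.P := hz ▸ mul_mem (inv_mem (pow_mem he n)) hk
  have hzw : z * w * z⁻¹ = w := by
    rw [show z * w * z⁻¹ = (e ^ n)⁻¹ * (k * w * k⁻¹) * (e ^ n) by rw [hz]; group, hn]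
    group
  have hzew : z * (e * w * e⁻¹) * z⁻¹ = e * w * e⁻¹ := by
    have hc := d.comm_P z hzP e he
    have hcf := fix_of_cOf hc (hWU hew)
    calc z * (e * w * e⁻¹) * z⁻¹
        = (z * e * z⁻¹ * e⁻¹) * (e * (z * w * z⁻¹) * e⁻¹) * (z * e * z⁻¹ * e⁻¹)⁻¹ := by group
      _ = e * w * e⁻¹ := by rw [hzw, hcf]
  have hzW : ∀ v ∈ W, z * v * z⁻¹ = v := by
    intro v hv
    rcases four_cases hW hsq hw hew hw1 hew1 hwne hv with rfl | rfl | rfl | rfl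
    · simp
    · exact hzw
    · exact hzew
    · calc z * (w * (e * w * e⁻¹)) * z⁻¹ = (z * w * z⁻¹) * (z * (e * w * e⁻¹) * z⁻¹) := by group
        _ = w * (e * w * e⁻¹) := by rw [hzw, hzew]
  -- the displacement is trivial
  have hmoveK : ∀ {x : G}, x ∈ d.P → ∀ u ∈ uOf L, e * u * e⁻¹ * u⁻¹ ∈ W := fun _ u hu => hmove u hu
  have hzC : z ∈ cOf L := by
    refine mem_inf.2 ⟨d.P_le hzP, mem_centralizer_iff.2 fun u hu => ?_⟩
    obtain ⟨D, hD⟩ : ∃ D : Subgroup G, ∀ x, x ∈ D ↔ x ∈ d.P ∧ ∀ u ∈ uOf L, x * u * x⁻¹ * u⁻¹ ∈ W := by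
      refine ⟨{ carrier := {x | x ∈ d.P ∧ ∀ u ∈ uOf L, x * u * x⁻¹ * u⁻¹ ∈ W}
                one_mem' := ⟨one_mem _, fun u _ => by simp [one_mem]⟩
                mul_mem' := ?_
                inv_mem' := ?_ }, fun x => Iff.rfl⟩
      · rintro x y ⟨hx, hx'⟩ ⟨hy, hy'⟩
        refine ⟨mul_mem hx hy, fun u hu => ?_⟩
        rw [show x * y * u * (x * y)⁻¹ * u⁻¹ = (x * (y * u * y⁻¹ * u⁻¹) * x⁻¹) * (x * u * x⁻¹ * u⁻¹) by group]
        exact mul_mem ((mem_normalizer_iff.1 (norm_four d hZ hLT hWU he hmove hfpf hx) _).1 (hy' u hu))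
          (hx' u hu)
      · rintro x ⟨hx, hx'⟩
        refine ⟨inv_mem hx, fun u hu => ?_⟩
        rw [show x⁻¹ * u * x⁻¹⁻¹ * u⁻¹ = x⁻¹ * (x * u * x⁻¹ * u⁻¹)⁻¹ * x⁻¹⁻¹ by group]
        exact (mem_normalizer_iff.1 (norm_four d hZ hLT hWU he hmove hfpf (inv_mem hx)) _).1
          (inv_mem (hx' u hu))
    have hzD : z ∈ D := hz ▸ mul_mem (inv_mem (pow_mem ((hD e).2 ⟨he, hmove⟩) n)) ((hD k).2 ⟨hk, hkmove⟩)
    obtain ⟨v, hv⟩ : ∃ v, v = z * u * z⁻¹ * u⁻¹ := ⟨_, rfl⟩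
    have hvW : v ∈ W := hv ▸ ((hD z).1 hzD).2 u hu
    have h1 : z * u * z⁻¹ = v * u := by rw [hv, inv_mul_cancel_right]
    have h2 : ∀ x : G, x ∈ W → z * (x * u) * z⁻¹ = x * (v * u) := fun x hx => by
      rw [show z * (x * u) * z⁻¹ = (z * x * z⁻¹) * (z * u * z⁻¹) by group, hzW x hx, h1]
    have h3 : z ^ 3 * u * (z ^ 3)⁻¹ = v * (v * (v * u)) := by
      rw [show z ^ 3 * u * (z ^ 3)⁻¹ = z * (z * (z * u * z⁻¹) * z⁻¹) * z⁻¹ by simp [pow_succ, mul_assoc], h1, h2 v hvW,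
        ← mul_assoc v v u, h2 _ (mul_mem hvW hvW)]
      simp [mul_assoc]
    rw [fix_of_cOf (d.cube z hzP) hu, ← mul_assoc v v, hsq v hvW, one_mul] at h3
    have hv1 : v = 1 := mul_eq_right.1 h3.symm
    rw [hv1, one_mul] at h1
    exact (mul_inv_eq_iff_eq_mul.1 h1).symm
  have : e ^ n * z = k := by rw [hz, mul_inv_cancel_left]
  rw [← this]
  exact mul_mem (mem_sup_left (pow_mem (mem_zpowers e) n)) (mem_sup_right hzC)

theorem comm_gen (i : d.ι) {k : G} (hk : k ∈ d.P) :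
    d.e i * k * (d.e i)⁻¹ * k⁻¹ ∈ coreOf L := by
  have heM := (d.e_mem i).2
  have heP := (d.e_mem i).1
  have hpair : ∀ j, d.e i * d.e j * (d.e i)⁻¹ * (d.e j)⁻¹ ∈ coreOf L := by
    intro j
    by_cases hline : d.e j ∈ zpowers (d.e i) ⊔ cOf L
    · obtain ⟨c, hc, x, hx, hcx⟩ := CfsgLib.Coprime.mem_sup_exists
        (show zpowers (d.e i) ≤ normalizer (cOf L : Set G) from
          zpowers_le.2 (le_normalizer_cOf L (d.P_le heP))) (by rwa [sup_comm] at hline)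
      obtain ⟨n, rfl⟩ := mem_zpowers_iff.1 hx
      rw [← hcx, show d.e i * (c * d.e i ^ n) * (d.e i)⁻¹ * (c * d.e i ^ n)⁻¹ =
        d.e i * c * (d.e i)⁻¹ * c⁻¹ by group]
      exact M_central d hZ hLT heM hc
    have hkP := (d.e_mem j).1
    have hfix : d.e j ∈ centralizer (d.W i : Set G) := by
      refine mem_centralizer_iff.2 fun w hw => ?_
      by_contra hne
      refine hline ?_
      have hN := norm_four d hZ hLT (d.W_le i) heP (d.e_move i) (d.e_fpf i) hkP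
      obtain ⟨v, hv⟩ : ∃ v, v = d.e j * w * (d.e j)⁻¹ * w⁻¹ := ⟨_, rfl⟩
      have hvi : v ∈ d.W i := hv ▸ mul_mem ((mem_normalizer_iff.1 hN w).1 hw) (inv_mem hw)
      have hvj : v ∈ d.W j := hv ▸ d.e_move j w (d.W_le i hw)
      have hv1 : v ≠ 1 := fun h => hne (mul_inv_eq_iff_eq_mul.1 (mul_inv_eq_one.1 (hv ▸ h))).symm
      have hev : d.e i * v * (d.e i)⁻¹ ∈ d.W i :=
        (mem_normalizer_iff.1 (norm_four d hZ hLT (d.W_le i) heP (d.e_move i) (d.e_fpf i) heP) v).1 hvi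
      have hev' : d.e i * v * (d.e i)⁻¹ ∈ d.W j :=
        (mem_normalizer_iff.1 (norm_four d hZ hLT (d.W_le j) hkP (d.e_move j) (d.e_fpf j) heP) v).1 hvj
      have hsq : ∀ w ∈ d.W i, w * w = 1 := fun w hw => by
        rw [← pow_two]; exact (omegaCenterOf_ea _).2 w (d.W_le i hw)
      have hle : d.W i ≤ d.W j := fun x hx => by
        rcases four_cases (d.W_card i) hsq hvi hev hv1 (fun h => hv1 (conj_eq_one_iff.1 h))
          (fun h => hv1 (d.e_fpf i v hvi h.symm)) hx with rfl | rfl | rfl | rfl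
        · exact one_mem _
        · exact hvj
        · exact hev'
        · exact mul_mem hvj hev'
      have heq : d.W i = d.W j := eq_of_le_of_card_ge hle (by rw [d.W_card, d.W_card])
      exact same_line d hZ hLT (d.W_le i) (d.W_card i) heP (d.e_move i) (d.e_fpf i) hkP
        (fun u hu => heq ▸ d.e_move j u hu)
    obtain ⟨m, hm⟩ := d.b_two i
    have hbQ := trick d hZ hLT (d.b_mem i) hm (d.b_comm i _ hkP hfix)
    -- modulo `O₂(L)`
    obtain ⟨Q, hQ⟩ : ∃ Q : Subgroup ↥L, Q = (coreOf L).subgroupOf L := ⟨_, rfl⟩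
    haveI : Q.Normal := hQ ▸ (normal_subgroupOf_iff_le_normalizer (pCoreOf_le 2 L)).2 (le_normalizer_pCoreOf 2 L)
    obtain ⟨π, hπ⟩ : ∃ π : ↥L →* ↥L ⧸ Q, ∀ x, π x = 1 ↔ (x : G) ∈ coreOf L :=
      ⟨QuotientGroup.mk' Q, fun x => by rw [QuotientGroup.mk'_apply, QuotientGroup.eq_one_iff, hQ]; rfl⟩
    obtain ⟨E, hE⟩ : ∃ E : ↥L, (E : G) = d.e i := ⟨⟨_, d.P_le heP⟩, rfl⟩
    obtain ⟨F, hF⟩ : ∃ F : ↥L, (F : G) = d.e j := ⟨⟨_, d.P_le hkP⟩, rfl⟩
    obtain ⟨B, hB⟩ : ∃ B : ↥L, (B : G) = d.b i := ⟨⟨_, d.M_le (d.b_mem i)⟩, rfl⟩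
    have hcentre : ∀ {x c : ↥L}, (x : G) ∈ d.M → (c : G) ∈ cOf L → π x * π c = π c * π x := by
      intro x c hx hc
      have := (hπ (x * c * x⁻¹ * c⁻¹)).2 (by simpa using M_central d hZ hLT hx hc)
      simp only [map_mul, map_inv, mul_inv_eq_one, mul_inv_eq_iff_eq_mul] at this
      simpa using this
    obtain ⟨Z, hZdef⟩ : ∃ Z, Z = E * F * E⁻¹ * F⁻¹ := ⟨_, rfl⟩
    obtain ⟨C0, hC0⟩ : ∃ C0, C0 = B * E * B⁻¹ * E := ⟨_, rfl⟩
    have hZc : (Z : G) ∈ cOf L := by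
      rw [hZdef]; simpa [hE, hF] using d.comm_P _ heP _ hkP
    have hC0c : (C0 : G) ∈ cOf L := by
      rw [hC0]; simpa [hE, hB] using d.b_inv i
    have hBF : π B * π F * (π B)⁻¹ = π F := by
      have := (hπ (B * F * B⁻¹ * F⁻¹)).2 (by simpa [hB, hF] using hbQ)
      simpa [map_mul, map_inv, mul_inv_eq_one] using this
    have hBE : π B * π E * (π B)⁻¹ = π C0 * (π E)⁻¹ := by
      rw [hC0, map_mul, map_mul, map_mul, map_inv]; group
    have hEZ : π E * π Z = π Z * π E := hcentre (hE ▸ heM) hZc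
    have hBZ : π B * π Z * (π B)⁻¹ = π Z := by
      rw [hcentre (hB ▸ d.b_mem i) hZc, mul_inv_cancel_right]
    have hFC : π F * π C0 = π C0 * π F := hcentre (hF ▸ (d.e_mem j).2) hC0c
    have hZE : π Z = π E * π F * (π E)⁻¹ * (π F)⁻¹ := by rw [hZdef, map_mul, map_mul, map_mul, map_inv, map_inv]
    have hEC : π E * π C0 = π C0 * π E := hcentre (hE ▸ heM) hC0c
    have h1 : π Z = (π E)⁻¹ * π F * π E * (π F)⁻¹ := by
      have hconj : π B * π Z * (π B)⁻¹ = (π B * π E * (π B)⁻¹) * (π B * π F * (π B)⁻¹) *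
          (π B * π E * (π B)⁻¹)⁻¹ * (π B * π F * (π B)⁻¹)⁻¹ := by rw [hZE]; group
      rw [hBZ, hBE, hBF] at hconj
      have hEC' : (π E)⁻¹ * π C0 = π C0 * (π E)⁻¹ := by
        rw [inv_mul_eq_iff_eq_mul, ← mul_assoc, hEC, mul_inv_cancel_right]
      rw [hconj, ← hEC']
      calc (π E)⁻¹ * π C0 * π F * ((π E)⁻¹ * π C0)⁻¹ * (π F)⁻¹
          = (π E)⁻¹ * ((π C0 * π F) * (π C0)⁻¹) * π E * (π F)⁻¹ := by group
        _ = (π E)⁻¹ * π F * π E * (π F)⁻¹ := by rw [← hFC, mul_inv_cancel_right]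
    have h2 : π Z * π Z = 1 := by
      have h3 : (π E)⁻¹ * π Z * π E = π Z := by rw [mul_assoc, ← hEZ, inv_mul_cancel_left]
      calc π Z * π Z = ((π E)⁻¹ * π F * π E * (π F)⁻¹)⁻¹⁻¹ * ((π E)⁻¹ * π Z * π E) := by
            rw [inv_inv, ← h1, h3]
        _ = ((π E)⁻¹ * π Z * π E) * ((π E)⁻¹ * π F * π E * (π F)⁻¹) := by
            rw [inv_inv, ← h1, h3]
        _ = 1 := by rw [hZE]; group
    have h4 : (Z : G) ^ 2 ^ 1 ∈ coreOf L := by
      have := (hπ (Z * Z)).1 (by rw [map_mul, h2])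
      simpa [pow_two] using this
    have := two_pow_mem hZ hLT hZc h4
    simpa [hZdef, hE, hF] using this
  obtain ⟨D, hD⟩ : ∃ D : Subgroup G, ∀ x, x ∈ D ↔ x ∈ L ∧ d.e i * x * (d.e i)⁻¹ * x⁻¹ ∈ coreOf L := by
    refine ⟨{ carrier := {x | x ∈ L ∧ d.e i * x * (d.e i)⁻¹ * x⁻¹ ∈ coreOf L}
              one_mem' := ⟨one_mem _, by simp [one_mem]⟩
              mul_mem' := ?_
              inv_mem' := ?_ }, fun x => Iff.rfl⟩
    · rintro x y ⟨hx, hx'⟩ ⟨hy, hy'⟩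
      refine ⟨mul_mem hx hy, ?_⟩
      rw [show d.e i * (x * y) * (d.e i)⁻¹ * (x * y)⁻¹ =
        (d.e i * x * (d.e i)⁻¹ * x⁻¹) * (x * (d.e i * y * (d.e i)⁻¹ * y⁻¹) * x⁻¹) by group]
      exact mul_mem hx' (conj_core hx hy')
    · rintro x ⟨hx, hx'⟩
      refine ⟨inv_mem hx, ?_⟩
      rw [show d.e i * x⁻¹ * (d.e i)⁻¹ * x⁻¹⁻¹ = x⁻¹ * (d.e i * x * (d.e i)⁻¹ * x⁻¹)⁻¹ * x⁻¹⁻¹ by group]
      exact conj_core (inv_mem hx) (inv_mem hx')
  refine ((hD k).1 ((d.P_gen.trans (sup_le (fun c hc => (hD c).2 ⟨cOf_le L hc, M_central d hZ hLT heM hc⟩)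
    ((closure_le _).2 ?_))) hk)).2
  rintro _ ⟨j, rfl⟩
  exact (hD _).2 ⟨d.P_le (d.e_mem j).1, hpair j⟩

/-- Frattini argument -/
theorem conj_jOf {g : G} (hg : g ∈ L) : ∃ a ∈ d.P, conjBy g (jOf T) = conjBy a (jOf T) := by
  haveI : Fact (Nat.Prime 2) := ⟨Nat.prime_two⟩
  obtain ⟨hTL, hT2, hodd⟩ := hLT.1
  obtain ⟨S, hS⟩ : ∃ S, S = T ⊓ d.M := ⟨_, rfl⟩
  have hSp : IsPGroup 2 S := hS ▸ hT2.to_le inf_le_left
  have hSM : S ≤ d.M := hS ▸ inf_le_right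
  have hsyl : Cfsg.IsSylowTwoIn S d.M := by
    obtain ⟨S', hS', hle⟩ := exists_sylowTwoIn hSp hSM
    obtain ⟨h, hh, hle'⟩ := exists_conjBy_le hLT.1 hS'.2.1 (hS'.1.trans d.M_le)
    have h2 : conjBy h S' ≤ S := hS ▸ le_inf hle' (by
      rintro _ ⟨x, hx, rfl⟩
      exact conj_mem d.M_normal hh (hS'.1 hx))
    have : S = S' := eq_of_le_of_card_ge hle (by
      rw [← CfsgLib.Fusion.card_conjBy h]; exact card_le_of_le h2)
    exact this ▸ hS'
  -- `M` modulo `P` has exponent two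
  have hsq : ∀ x ∈ d.M, x ^ 2 ∈ d.P := by
    obtain ⟨D, hD⟩ : ∃ D : Subgroup G, ∀ x, x ∈ D ↔ x ∈ d.M ∧ x ^ 2 ∈ d.P := by
      refine ⟨{ carrier := {x | x ∈ d.M ∧ x ^ 2 ∈ d.P}
                one_mem' := ⟨one_mem _, by simp [one_mem]⟩
                mul_mem' := ?_
                inv_mem' := ?_ }, fun x => Iff.rfl⟩
      · rintro x y ⟨hx, hx'⟩ ⟨hy, hy'⟩
        refine ⟨mul_mem hx hy, ?_⟩
        rw [show (x * y) ^ 2 = x ^ 2 * (x⁻¹ * y * x⁻¹⁻¹ * y⁻¹) * y ^ 2 by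
          rw [pow_two, pow_two, pow_two]; group]
        exact mul_mem (mul_mem hx' (d.comm_M _ (inv_mem hx) _ hy)) hy'
      · rintro x ⟨hx, hx'⟩
        exact ⟨inv_mem hx, by rw [inv_pow]; exact inv_mem hx'⟩
    intro x hx
    refine ((hD x).1 (d.M_gen D (fun h hh => ?_) hx)).2
    rw [CfsgLib.Fusion.conjBy, map_le_iff_le_comap]
    refine jOf_le_iff.2 fun A hA a ha => (hD _).2 ⟨conj_mem d.M_normal hh (d.J_le (le_jOf hA ha)), ?_⟩
    rw [MulEquiv.coe_toMonoidHom, ← map_pow, hA.2.1.2 a ha, map_one]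
    exact one_mem _
  have hsup : S ⊔ (d.P ⊓ d.M) = d.M := by
    have hle : S ⊔ (d.P ⊓ d.M) ≤ d.M := sup_le hSM inf_le_right
    haveI : ((d.P ⊓ d.M).subgroupOf d.M).Normal := (normal_subgroupOf_iff_le_normalizer inf_le_right).2
      (CfsgLib.Coprime.inf_le_normalizer d.M_norm_P le_normalizer)
    have hq : IsPGroup 2 (↥d.M ⧸ (d.P ⊓ d.M).subgroupOf d.M) := fun q => by
      obtain ⟨x, rfl⟩ := QuotientGroup.mk'_surjective _ q
      refine ⟨1, ?_⟩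
      rw [pow_one, ← map_pow, QuotientGroup.mk'_apply, QuotientGroup.eq_one_iff, mem_subgroupOf]
      exact mem_inf.2 ⟨hsq x x.2, pow_mem x.2 2⟩
    obtain ⟨k, hk⟩ := hq.exists_card_eq
    have h2 : (S ⊔ (d.P ⊓ d.M)).relIndex d.M ∣ 2 ^ k := by
      rw [← hk, ← index_eq_card]
      exact relIndex_dvd_of_le_left d.M le_sup_right
    have h3 : (S ⊔ (d.P ⊓ d.M)).relIndex d.M = 1 :=
      Nat.eq_one_of_dvd_coprimes ((Nat.coprime_two_left.2 hsyl.2.2).pow_left k) h2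
        (relIndex_dvd_of_le_left d.M le_sup_left)
    exact le_antisymm hle (relIndex_eq_one.1 h3)
  have hJS : jOf S = jOf T :=
    jOf_eq_of_conj_le (g := 1) (hS ▸ le_inf (jOf_le T) d.J_le) (by
      rintro _ ⟨x, hx, rfl⟩
      simpa using (mem_inf.1 (hS ▸ hx : x ∈ T ⊓ d.M)).1)
  have hgS : conjBy g S ≤ d.M := by
    rintro _ ⟨x, hx, rfl⟩
    exact conj_mem d.M_normal hg (hSM hx)
  obtain ⟨m, hm, hle⟩ := exists_conjBy_le hsyl (hSp.map _) hgS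
  have heq : conjBy (m * g) S = S := by
    refine eq_of_le_of_card_ge ?_ (by rw [CfsgLib.Fusion.card_conjBy])
    rintro _ ⟨x, hx, rfl⟩
    have := hle ⟨_, ⟨x, hx, rfl⟩, rfl⟩
    simpa [mul_assoc] using this
  have hJ : conjBy (m * g) (jOf T) = jOf T := by rw [← hJS, conjBy_jOf, heq]
  obtain ⟨p, hp, t, ht, hmt⟩ := CfsgLib.Coprime.mem_sup_exists
    (show S ≤ normalizer ((d.P ⊓ d.M : Subgroup G) : Set G) from
      hSM.trans (CfsgLib.Coprime.inf_le_normalizer d.M_norm_P le_normalizer))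
    (show m⁻¹ ∈ (d.P ⊓ d.M) ⊔ S by rw [sup_comm, hsup]; exact inv_mem hm)
  refine ⟨p, (mem_inf.1 hp).1, ?_⟩
  have htJ : conjBy t (jOf T) = jOf T := by
    rw [← hJS, conjBy_jOf, CfsgLib.Fusion.conjBy_eq_iff.2 (le_normalizer ht)]
  conv_rhs => rw [← htJ]
  conv_lhs => rw [← CfsgLib.Fusion.conjBy_inv_conjBy m (conjBy g (jOf T))]
  have e : ∀ a b : G, ∀ X : Subgroup G, conjBy a (conjBy b X) = conjBy (a * b) X := fun a b X => by
    simp only [CfsgLib.Fusion.conjBy, Subgroup.map_map]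
    congr 1
    ext x
    simp [mul_assoc]
  rw [e m g, hJ, e p t, hmt]

end Data

section Components

variable (hL : Cfsg.IsCharacteristicTwoType G)
  (hN : ∀ N : Subgroup G, Cfsg.IsTwoLocal N → Group.IsSolvable ↥N)
  (hZ : ZHyp G) (hT1 : T ≠ ⊥) (hLT : L ∈ Cfsg.jOvergroups T)
  {K : Subgroup G} (hK : Cfsg.IsJComponent T K) (hKL : K ≤ L)
include hL hN hZ hT1 hLT hK hKL

theorem cOf_le_normalizer_comp : cOf L ≤ normalizer (K : Set G) :=
  Cfsg.Agent.S2941.result hL hN hZ T hLT.1.2.1 hT1 K hK (cOf L)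
    ((sup_le hKL ((jOf_le T).trans hLT.1.1)).trans (le_normalizer_cOf L))
    (cOf_le_normalizer_jOf hZ hLT)

theorem comp_mem (d : Data T L) : K ≤ d.P ∧ K ≤ d.M := by
  have hM : K ≤ d.M := by
    conv_lhs => rw [← hK.2.1]
    refine commutator_le.2 fun k hk j hj => ?_
    rw [commutatorElement_def]
    exact mul_mem (conj_mem d.M_normal (hKL hk) (d.J_le hj)) (inv_mem (d.J_le hj))
  refine ⟨?_, hM⟩
  conv_lhs => rw [← hK.2.1]
  exact commutator_le.2 fun k hk j hj => by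
    rw [commutatorElement_def]
    exact d.comm_M k (hM hk) j (d.J_le hj)

theorem core_comp_le : coreOf K ≤ coreOf L ∧ K ⊓ coreOf L ≤ coreOf K := by
  haveI : Fact (Nat.Prime 2) := ⟨Nat.prime_two⟩
  obtain ⟨d⟩ := exists_data hN hZ hT1 hLT
  refine ⟨fun r hr => ?_, ?_⟩
  · obtain ⟨m, hm⟩ := isPGroup_pCoreOf 2 K ⟨r, hr⟩
    have hm' : r ^ 2 ^ m = 1 := congrArg Subtype.val hm
    obtain ⟨t, ht⟩ := exists_pow_eq_self_of_coprime (x := r) (n := 3)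
      ((Nat.Coprime.pow_right m (by norm_num : Nat.Coprime 3 2)).coprime_dvd_right
        (orderOf_dvd_of_pow_eq_one hm'))
    refine two_mem_core hZ hLT ?_ hm'
    rw [← ht]
    exact pow_mem (d.cube r ((comp_mem hL hN hZ hT1 hLT hK hKL d).1 (pCoreOf_le 2 K hr))) t
  · exact le_pCoreOf inf_le_left ((isPGroup_pCoreOf 2 L).to_le inf_le_right)
      (CfsgLib.Coprime.inf_le_normalizer le_normalizer (hKL.trans (le_normalizer_pCoreOf 2 L)))

theorem wOf_le_u : Cfsg.wOf K ≤ uOf L := by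
  haveI : Fact (Nat.Prime 2) := ⟨Nat.prime_two⟩
  obtain ⟨c, hc⟩ := exists_isGen hK.2.2.1
  obtain ⟨hR, hR'⟩ := core_comp_le hL hN hZ hT1 hLT hK hKL
  have hQK : coreOf L ≤ normalizer (K : Set G) :=
    (core_le_cOf L).trans (cOf_le_normalizer_comp hL hN hZ hT1 hLT hK hKL)
  have hQW : coreOf L ≤ normalizer (Cfsg.wOf K : Set G) := hQK.trans (normalizer_le_normalizer_wOf K)
  obtain ⟨w, hw, hw1, hwfix⟩ := exists_fixed (isPGroup_pCoreOf 2 L) hQW (isPGroup_four (wOf_sq hK))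
    (wOf_ne_bot hK)
  have hcw : c * w * c⁻¹ ∈ Cfsg.wOf K :=
    conj_mem ((le_normalizer).trans (normalizer_le_normalizer_wOf K)) hc.mem hw
  have hfix : ∀ q ∈ coreOf L, ∀ v ∈ Cfsg.wOf K, q * v = v * q := by
    intro q hq
    have h1 : q * (c * w * c⁻¹) * q⁻¹ = c * w * c⁻¹ := by
      have hr : q * c * q⁻¹ * c⁻¹ ∈ coreOf K := hR' (mem_inf.2 ⟨mul_mem (conj_mem hQK hq hc.mem)
        (inv_mem hc.mem), by
          rw [show q * c * q⁻¹ * c⁻¹ = q * (c * q⁻¹ * c⁻¹) by group]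
          exact mul_mem hq (conj_core (hKL hc.mem) (inv_mem hq))⟩)
      calc q * (c * w * c⁻¹) * q⁻¹ =
          (q * c * q⁻¹ * c⁻¹) * (c * (q * w * q⁻¹) * c⁻¹) * (q * c * q⁻¹ * c⁻¹)⁻¹ := by group
        _ = c * w * c⁻¹ := by
            rw [hwfix q hq, mul_inv_cancel_right, core_fix hr (wOf_le_uOf K hcw), mul_inv_cancel_right]
    intro v hv
    rcases four_cases hK.2.2.2.2.1 (wOf_sq hK) hw hcw hw1 (fun h => hw1 (conj_eq_one_iff.1 h))
      (fun h => hw1 (hc.wOf_eq_one hw h.symm)) hv with rfl | rfl | rfl | rfl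
    · simp
    · exact hwfix q hq
    · exact mul_inv_eq_iff_eq_mul.1 h1
    · rw [← mul_assoc, hwfix q hq, mul_assoc, mul_inv_eq_iff_eq_mul.1 h1, ← mul_assoc]
  exact fun v hv => mem_omegaCenterOf.2 ⟨hR (wOf_le_core K hv), fun q hq => hfix q hq v hv,
    by rw [pow_two]; exact wOf_sq hK v hv⟩

theorem comp_move {k u : G} (hk : k ∈ K) (hu : u ∈ uOf L) : k * u * k⁻¹ * u⁻¹ ∈ Cfsg.wOf K := by
  haveI : Fact (Nat.Prime 2) := ⟨Nat.prime_two⟩
  obtain ⟨c, hc⟩ := exists_isGen hK.2.2.1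
  obtain ⟨hR, hR'⟩ := core_comp_le hL hN hZ hT1 hLT hK hKL
  have hcL : c ∈ L := hKL hc.mem
  have hWn : K ≤ normalizer (Cfsg.wOf K : Set G) := le_normalizer.trans (normalizer_le_normalizer_wOf K)
  have hfixU : ∀ {r : G}, r ∈ coreOf K → ∀ v ∈ uOf L, r * v * r⁻¹ = v := fun hr v hv => by
    rw [core_fix (hR hr) hv, mul_inv_cancel_right]
  have hcgen : ∀ u ∈ uOf L, c * u * c⁻¹ * u⁻¹ ∈ Cfsg.wOf K := by
    intro u hu
    have hU := omegaCenterOf_ea (coreOf L)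
    have hcu := conj_mem (le_normalizer_uOf L) hcL hu
    have hccu := conj_mem (le_normalizer_uOf L) hcL hcu
    obtain ⟨v, hv⟩ : ∃ v, v = c * u * c⁻¹ * u⁻¹ := ⟨_, rfl⟩
    have hvU : v ∈ uOf L := hv ▸ mul_mem hcu (inv_mem hu)
    have hvR : v ∈ coreOf K := hR' (mem_inf.2 ⟨by
      rw [hv, show c * u * c⁻¹ * u⁻¹ = c * (u * c⁻¹ * u⁻¹) by group]
      exact mul_mem hc.mem (conj_mem (cOf_le_normalizer_comp hL hN hZ hT1 hLT hK hKL)
        (core_le_cOf L (uOf_le_core L hu)) (inv_mem hc.mem)), uOf_le_core L hvU⟩)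
    have hvK : v ∈ uOf K := mem_omegaCenterOf.2 ⟨hvR, fun r hr => core_fix (hR hr) hvU, hU.2 v hvU⟩
    have ha : c * v * c⁻¹ * v⁻¹ ∈ Cfsg.wOf K := by
      have := inv_mem (commutator_mem_commutator (H₁ := uOf K) hvK hc.mem)
      rw [commutatorElement_def] at this
      rw [show c * v * c⁻¹ * v⁻¹ = (v * c * v⁻¹ * c⁻¹)⁻¹ by group]
      exact this
    have h2 := conj_mem hWn hc.mem ha
    have hcube : c * (c * (c * u * c⁻¹) * c⁻¹) * c⁻¹ = u := by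
      rw [show c * (c * (c * u * c⁻¹) * c⁻¹) * c⁻¹ = c ^ 3 * u * (c ^ 3)⁻¹ by simp [pow_succ, mul_assoc]]
      exact hfixU hc.cube u hu
    have hi : ∀ {x : G}, x ∈ uOf L → x⁻¹ = x := fun hx =>
      inv_eq_of_mul_eq_one_right (by rw [← pow_two]; exact hU.2 _ hx)
    -- `v` is the conjugate of its displacement
    have key : c * (c * v * c⁻¹ * v⁻¹) * c⁻¹ = v := by
      rw [hv]
      rw [show c * (c * (c * u * c⁻¹ * u⁻¹) * c⁻¹ * (c * u * c⁻¹ * u⁻¹)⁻¹) * c⁻¹ =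
        (c * (c * (c * u * c⁻¹) * c⁻¹) * c⁻¹) * (c * (c * u * c⁻¹) * c⁻¹)⁻¹ *
          (c * u * c⁻¹) * (c * (c * u * c⁻¹) * c⁻¹)⁻¹ by group, hcube, hi hu, hi hccu,
        mul_assoc u, comm_of_isElementaryAbelian hU hccu hcu, mul_assoc, mul_assoc (c * u * c⁻¹),
        ← pow_two (c * (c * u * c⁻¹) * c⁻¹), hU.2 _ hccu, mul_one,
        comm_of_isElementaryAbelian hU hu hcu]
    rw [← hv, ← key]
    exact h2
  obtain ⟨i, r, hr, rfl⟩ := hc.gen k hk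
  rw [show c ^ i * r * u * (c ^ i * r)⁻¹ * u⁻¹ = c ^ i * (r * u * r⁻¹) * (c ^ i)⁻¹ * u⁻¹ by group,
    hfixU hr u hu]
  clear hr hk
  induction i with
  | zero => simp [one_mem]
  | succ i ih =>
    rw [show c ^ (i + 1) * u * (c ^ (i + 1))⁻¹ * u⁻¹ =
      (c * (c ^ i * u * (c ^ i)⁻¹ * u⁻¹) * c⁻¹) * (c * u * c⁻¹ * u⁻¹) by rw [pow_succ']; group]
    exact mul_mem (conj_mem hWn hc.mem ih) (hcgen u hu)

theorem p_le_normalizer_comp (d : Data T L) : d.P ≤ normalizer (K : Set G) := by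
  haveI : Fact (Nat.Prime 2) := ⟨Nat.prime_two⟩
  have hC := cOf_le_normalizer_comp hL hN hZ hT1 hLT hK hKL
  refine d.P_gen.trans (sup_le hC ((closure_le _).2 ?_))
  rintro _ ⟨i, rfl⟩
  refine CfsgLib.Fusion.conjBy_eq_iff.1 (CfsgLib.Fusion.conjBy_eq_of_le ?_)
  rw [CfsgLib.Fusion.conjBy, map_le_iff_le_comap]
  conv_lhs => rw [← hK.1]
  refine (closure_le _).2 fun k ⟨hk, hko⟩ => ?_
  refine odd_mem_sup (isPGroup_pCoreOf 2 L) ((core_le_cOf L).trans hC) ?_ (by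
    rw [MulEquiv.coe_toMonoidHom, MulEquiv.orderOf_eq]; exact hko)
  rw [MulEquiv.coe_toMonoidHom, MulAut.conj_apply, show d.e i * k * (d.e i)⁻¹ =
    (d.e i * k * (d.e i)⁻¹ * k⁻¹) * k by group]
  exact mul_mem (mem_sup_right (d.comm_gen hZ hLT i ((comp_mem hL hN hZ hT1 hLT hK hKL d).1 hk)))
    (mem_sup_left hk)

theorem comp_isSubnormal : (K.subgroupOf L).IsSubnormal := by
  obtain ⟨d⟩ := exists_data hN hZ hT1 hLT
  obtain ⟨hKP, hKM⟩ := comp_mem hL hN hZ hT1 hLT hK hKL d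
  exact sn_step (le_inf hKP hKM) (inf_le_left.trans d.P_le)
    (inf_le_left.trans (p_le_normalizer_comp hL hN hZ hT1 hLT hK hKL d))
    (sn_step inf_le_right d.M_le (CfsgLib.Coprime.inf_le_normalizer d.M_norm_P le_normalizer)
      (sn_step d.M_le le_rfl d.M_normal (by rw [subgroupOf_self]; exact Subgroup.IsSubnormal.top)))

/-- A conjugate with the same four group is equal. -/
theorem comp_conj_eq {g : G} (hg : g ∈ L) (hW : conjBy g (Cfsg.wOf K) = Cfsg.wOf K) :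
    conjBy g K = K := by
  haveI : Fact (Nat.Prime 2) := ⟨Nat.prime_two⟩
  obtain ⟨d⟩ := exists_data hN hZ hT1 hLT
  obtain ⟨hKP, hKM⟩ := comp_mem hL hN hZ hT1 hLT hK hKL d
  obtain ⟨c, hc⟩ := exists_isGen hK.2.2.1
  have hC := cOf_le_normalizer_comp hL hN hZ hT1 hLT hK hKL
  have hPN := p_le_normalizer_comp hL hN hZ hT1 hLT hK hKL d
  -- the conjugate lies in the line
  have hgP : conjBy g K ≤ d.P := by
    conv_lhs => rw [← hK.2.1]
    rw [CfsgLib.Fusion.conjBy, map_commutator]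
    refine commutator_le.2 ?_
    rintro _ ⟨k, hk, rfl⟩ _ ⟨j, hj, rfl⟩
    rw [commutatorElement_def]
    exact d.comm_M _ (conj_mem d.M_normal hg (hKM hk)) _ (conj_mem d.M_normal hg (d.J_le hj))
  have hline : conjBy g K ≤ K ⊔ cOf L := by
    rintro _ ⟨k, hk, rfl⟩
    refine (sup_le_sup_right (zpowers_le.2 hc.mem) _) (d.same_line hZ hLT
      (wOf_le_u hL hN hZ hT1 hLT hK hKL) hK.2.2.2.2.1 (hKP hc.mem)
      (fun u hu => comp_move hL hN hZ hT1 hLT hK hKL hc.mem hu) (fun w hw h => hc.wOf_eq_one hw h)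
      (hgP ⟨k, hk, rfl⟩) fun u hu => ?_)
    have hu' : g⁻¹ * u * g ∈ uOf L := by simpa using conj_mem (le_normalizer_uOf L) (inv_mem hg) hu
    have h := comp_move hL hN hZ hT1 hLT hK hKL hk hu'
    rw [← hW]
    refine ⟨_, h, ?_⟩
    simp [mul_assoc]
  obtain ⟨a, ha, hga⟩ := d.conj_jOf hZ hLT hg
  have hJa : conjBy g (jOf T) ≤ normalizer (K : Set G) := by
    rw [hga]
    rintro _ ⟨j, hj, rfl⟩
    exact mul_mem (mul_mem (hPN ha) (j_le_normalizer hK hj)) (inv_mem (hPN ha))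
  have hQN : coreOf L ≤ normalizer (K : Set G) := (core_le_cOf L).trans hC
  have hle : conjBy g K ≤ K ⊔ coreOf L := by
    conv_lhs => rw [← hK.2.1]
    rw [CfsgLib.Fusion.conjBy, map_commutator]
    refine commutator_le.2 fun x hx y hy => ?_
    obtain ⟨k, hk, z, hz, rfl⟩ := CfsgLib.Coprime.mem_sup_exists hC (hline hx)
    have hyK := hJa hy
    obtain ⟨j, hj, rfl⟩ := hy
    obtain ⟨m, hm⟩ := hLT.1.2.1 ⟨j, jOf_le T hj⟩
    have hjL : (MulAut.conj g).toMonoidHom j ∈ L := mul_mem (mul_mem hg (hLT.1.1 (jOf_le T hj))) (inv_mem hg)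
    have hq := inv_mem (two_comm hZ hLT hjL (m := m)
      (by rw [MulEquiv.coe_toMonoidHom, ← map_pow, show j ^ 2 ^ m = 1 from congrArg Subtype.val hm,
        map_one]) hz)
    rw [commutatorElement_def, show k * z * (MulAut.conj g).toMonoidHom j * (k * z)⁻¹ *
        ((MulAut.conj g).toMonoidHom j)⁻¹ =
      (k * ((MulAut.conj g).toMonoidHom j * z * ((MulAut.conj g).toMonoidHom j)⁻¹ * z⁻¹)⁻¹⁻¹⁻¹ * k⁻¹) *
        (k * ((MulAut.conj g).toMonoidHom j * k⁻¹ * ((MulAut.conj g).toMonoidHom j)⁻¹)) by group]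
    refine mul_mem (mem_sup_right (conj_core (hKL hk) ?_))
      (mem_sup_left (mul_mem hk ((mem_normalizer_iff.1 hyK _).1 (inv_mem hk))))
    simpa using hq
  refine CfsgLib.Fusion.conjBy_eq_of_le ?_
  rw [CfsgLib.Fusion.conjBy, map_le_iff_le_comap]
  conv_lhs => rw [← hK.1]
  refine (closure_le _).2 fun k ⟨hk, hko⟩ => odd_mem_sup (isPGroup_pCoreOf 2 L) hQN (hle ⟨k, hk, rfl⟩) ?_
  rw [MulEquiv.coe_toMonoidHom, MulEquiv.orderOf_eq]; exact hko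

end Components

end CfsgLib.JComp
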