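import Mathlib.GroupTheory.Nilpotent
import Mathlib.GroupTheory.PGroup
import Mathlib.Algebra.Group.End

/-!
# Automorphisms of `3`-power order with a commutator of order four
-/

set_option autoImplicit false
set_option linter.style.haveILetI false
set_option linter.unusedSectionVars false

open Subgroup

namespace CfsgLib.JCompPlanes

universe u

variable {V : Type u} [CommGroup V] [Finite V]

/-- `x` moves everything into the four group `W` and fixes nothing in it. -/
structure Moves (x : MulAut V) (W : Subgroup V) : Prop where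
  card : Nat.card W = 4
  move : ∀ v, x v * v⁻¹ ∈ W
  fpf : ∀ w ∈ W, x w = w → w = 1

theorem Moves.apply_mem {x : MulAut V} {W : Subgroup V} (h : Moves x W) {w : V} (hw : w ∈ W) :
    x w ∈ W := by
  have := mul_mem (h.move w) hw
  rwa [inv_mul_cancel_right] at this

theorem Moves.apply_mem_of_le {x : MulAut V} {W D : Subgroup V} (h : Moves x W) (hWD : W ≤ D)
    {d : V} (hd : d ∈ D) : x d ∈ D := by
  have := mul_mem (hWD (h.move d)) hd
  rwa [inv_mul_cancel_right] at this

theorem Moves.exists_eq {x : MulAut V} {W : Subgroup V} (h : Moves x W) {w : V} (hw : w ∈ W) :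
    ∃ v ∈ W, x v * v⁻¹ = w := by
  let φ : W → W := fun v => ⟨x v * (v : V)⁻¹, h.move v⟩
  have hinj : Function.Injective φ := by
    rintro ⟨a, ha⟩ ⟨b, hb⟩ hab
    have hab' : x a * a⁻¹ = x b * b⁻¹ := congrArg Subtype.val hab
    have : x (b⁻¹ * a) = b⁻¹ * a := by
      rw [map_mul, map_inv, ← mul_inv_eq_one, mul_inv_rev, inv_inv]
      rw [mul_inv_eq_iff_eq_mul] at hab'
      rw [hab']
      calc (x b)⁻¹ * (x b * b⁻¹ * a) * (a⁻¹ * b) = b⁻¹ * a * (a⁻¹ * b) := by group
        _ = 1 := by group
    exact Subtype.ext (inv_mul_eq_one.1 (h.fpf _ (mul_mem (inv_mem hb) ha) this)).symm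
  obtain ⟨⟨v, hv⟩, hvw⟩ := Finite.surjective_of_injective hinj ⟨w, hw⟩
  exact ⟨v, hv, congrArg Subtype.val hvw⟩

theorem Moves.apply_mem_of_commute {x y : MulAut V} {W : Subgroup V} (h : Moves x W)
    (hc : x * y = y * x) {w : V} (hw : w ∈ W) : y w ∈ W := by
  obtain ⟨v, -, rfl⟩ := h.exists_eq hw
  have e : y (x v) = x (y v) := by rw [← MulAut.mul_apply, ← hc]; rfl
  rw [map_mul, map_inv, e]
  exact h.move _

theorem Moves.conj {x : MulAut V} {W : Subgroup V} (h : Moves x W) (y : MulAut V) :
    Moves (y * x * y⁻¹) (W.map y.toMonoidHom) := by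
  refine ⟨by rw [card_map_of_injective y.injective]; exact h.card, fun v => ?_, ?_⟩
  · refine ⟨x (y⁻¹ v) * (y⁻¹ v)⁻¹, h.move _, ?_⟩
    rw [MulEquiv.coe_toMonoidHom, map_mul, map_inv]
    simp [MulAut.mul_apply]
  · rintro _ ⟨w, hw, rfl⟩ hfix
    simp only [MulEquiv.coe_toMonoidHom, MulAut.mul_apply, MulAut.inv_apply,
      MulEquiv.symm_apply_apply] at hfix
    rw [h.fpf w hw (y.injective hfix)]
    simp

/-- Distinct planes of commuting elements meet trivially and are fixed by each other's element. -/
theorem Moves.fix_of_ne {x₀ x₁ : MulAut V} {W₀ W₁ : Subgroup V} (h₀ : Moves x₀ W₀) (h₁ : Moves x₁ W₁)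
    (hc : x₀ * x₁ = x₁ * x₀) (hne : W₀ ≠ W₁) {w : V} (hw : w ∈ W₀) : x₁ w = w := by
  have hsq : x₁ w * w⁻¹ ∈ W₀ ⊓ W₁ :=
    mem_inf.2 ⟨mul_mem (h₀.apply_mem_of_commute hc hw) (inv_mem hw), h₁.move w⟩
  obtain ⟨z, hz⟩ : ∃ z, z = x₁ w * w⁻¹ := ⟨_, rfl⟩
  rw [← hz] at hsq
  by_contra hmove
  have hz1 : z ≠ 1 := fun h => hmove (mul_inv_eq_one.1 (hz ▸ h))
  obtain ⟨hz0, hz1'⟩ := mem_inf.1 hsq
  have hxz : x₀ z ∈ W₀ ⊓ W₁ := mem_inf.2 ⟨h₀.apply_mem hz0, h₁.apply_mem_of_commute hc.symm hz1'⟩
  refine hne (eq_of_le_of_card_ge ?_ (by rw [h₀.card, h₁.card])).symm.symm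
  have hsub : Nat.card W₀ ≤ Nat.card ↥(W₀ ⊓ W₁) := by
    have hd : Nat.card ↥(W₀ ⊓ W₁) ∣ 4 := h₀.card ▸ card_dvd_of_le inf_le_left
    have h3 : 3 ≤ Nat.card ↥(W₀ ⊓ W₁) := by
      classical
      have hne1 : x₀ z ≠ z := fun h => hz1 (h₀.fpf z hz0 h)
      have hne2 : x₀ z ≠ 1 := fun h => hz1 ((map_eq_one_iff x₀ x₀.injective).1 h)
      have hc3 : ({1, z, x₀ z} : Finset V).card = 3 := by
        simp [Ne.symm hz1, Ne.symm hne1, Ne.symm hne2]
      rw [← hc3, ← SetLike.coe_sort_coe, Nat.card_coe_set_eq, ← Set.ncard_coe_finset]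
      refine Set.ncard_le_ncard ?_ (Set.toFinite _)
      intro a ha
      simp only [Finset.coe_insert, Finset.coe_singleton, Set.mem_insert_iff, Set.mem_singleton_iff] at ha
      rcases ha with rfl | rfl | rfl
      · exact one_mem _
      · exact mem_inf.2 ⟨hz0, hz1'⟩
      · exact hxz
    have := Nat.le_of_dvd (by norm_num) hd
    rw [h₀.card]
    interval_cases Nat.card ↥(W₀ ⊓ W₁) <;> omega
  exact inf_eq_left.1 (eq_of_le_of_card_ge inf_le_left hsub)

/-- Two such elements in a `3`-group of automorphisms commute. -/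
theorem commute_of_moves (hV : ∀ v : V, v * v = 1) {n : ℕ} : ∀ {E : Subgroup (MulAut V)},
    Nat.card E = n → IsPGroup 3 E → ∀ {x y : MulAut V}, x ∈ E → y ∈ E → ∀ {W W' : Subgroup V},
      Moves x W → Moves y W' → x * y = y * x := by
  induction n using Nat.strong_induction_on with
  | _ n ih =>
    intro E hcard hE x y hxE hyE W W' hx hy
    haveI : Finite (MulAut V) := Finite.of_injective (fun e => (e : V → V)) DFunLike.coe_injective
    haveI : Fact (Nat.Prime 3) := ⟨Nat.prime_three⟩
    by_cases htop : zpowers x = E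
    · obtain ⟨i, rfl⟩ := mem_zpowers_iff.1 (htop.symm ▸ hyE : y ∈ zpowers x)
      exact (Commute.self_zpow x i).eq
    obtain ⟨M, hM, hxM⟩ := (eq_top_or_exists_le_coatom ((zpowers x).subgroupOf E)).resolve_left
      (fun h => htop (le_antisymm (zpowers_le.2 hxE) (subgroupOf_eq_top.1 h)))
    haveI : Group.IsNilpotent E := hE.isNilpotent
    haveI : M.Normal := NormalizerCondition.normal_of_coatom M
      Group.normalizerCondition_of_isNilpotent hM
    have hlt : Nat.card (M.map E.subtype) < n := by
      rw [card_map_of_injective E.subtype_injective, ← hcard]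
      exact lt_of_le_of_ne (card_le_card_group M) fun h => hM.1 (eq_top_of_card_eq M h)
    have hxM' : (⟨x, hxE⟩ : E) ∈ M := hxM (mem_zpowers x)
    have hconjM : ∀ z : MulAut V, z ∈ M.map E.subtype → y * z * y⁻¹ ∈ M.map E.subtype := by
      rintro _ ⟨w, hw, rfl⟩
      exact ⟨⟨y, hyE⟩ * w * ⟨y, hyE⟩⁻¹, Normal.conj_mem inferInstance w hw _, rfl⟩
    have hp : IsPGroup 3 (M.map E.subtype) := hE.to_le (map_subtype_le M)
    obtain ⟨x₀, hx₀⟩ : ∃ z, z = x := ⟨_, rfl⟩
    have m0 : x ∈ M.map E.subtype := ⟨_, hxM', rfl⟩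
    have m1 := hconjM _ m0
    have m2 := hconjM _ m1
    have hx1 := hx.conj y
    have hx2 := hx1.conj y
    have c01 := ih _ hlt rfl hp m0 m1 hx hx1
    have c02 := ih _ hlt rfl hp m0 m2 hx hx2
    have c12 := ih _ hlt rfl hp m1 m2 hx1 hx2
    -- `y` normalizes the plane of `x`
    have hyW : W.map y.toMonoidHom = W := by
      by_contra hne
      have hne12 : W.map y.toMonoidHom ≠ (W.map y.toMonoidHom).map y.toMonoidHom :=
        fun h => hne (map_injective y.injective h).symm
      have hne02 : W ≠ (W.map y.toMonoidHom).map y.toMonoidHom := by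
        intro h
        have hev : ∀ k : ℕ, W.map (y ^ (2 * k)).toMonoidHom = W := by
          intro k
          induction k with
          | zero => exact Subgroup.map_id W
          | succ k ihk =>
            have e : (y ^ (2 * (k + 1))).toMonoidHom =
                y.toMonoidHom.comp (y.toMonoidHom.comp (y ^ (2 * k)).toMonoidHom) := by
              rw [show y ^ (2 * (k + 1)) = y * (y * y ^ (2 * k)) by
                rw [← pow_succ', ← pow_succ']; congr 1]
              rfl
            rw [e, ← Subgroup.map_map, ← Subgroup.map_map, ihk, ← h]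
        obtain ⟨m, hm⟩ := hE ⟨y, hyE⟩
        obtain ⟨k, hk⟩ := (Odd.pow (by decide : Odd 3) : Odd (3 ^ m))
        refine hne ?_
        have h1 := hev (k + 1)
        rwa [show 2 * (k + 1) = (2 * k + 1) + 1 by ring, pow_succ', ← hk,
          show y ^ 3 ^ m = 1 from congrArg Subtype.val hm, mul_one] at h1
      obtain ⟨D, hD⟩ : ∃ D, D = W ⊔ W' := ⟨_, rfl⟩
      have hyD : ∀ d ∈ D, y d ∈ D := fun d hd => hy.apply_mem_of_le (hD ▸ le_sup_right) hd
      have hW1 : W.map y.toMonoidHom ≤ D := by
        rintro _ ⟨w, hw, rfl⟩; exact hyD w (hD ▸ mem_sup_left hw)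
      have hW2 : (W.map y.toMonoidHom).map y.toMonoidHom ≤ D := by
        rintro _ ⟨w, hw, rfl⟩; exact hyD w (hW1 hw)
      let f : W × (W.map y.toMonoidHom) × ((W.map y.toMonoidHom).map y.toMonoidHom) → D := fun z =>
        ⟨z.1 * (z.2.1 * z.2.2), mul_mem (hD ▸ mem_sup_left z.1.2) (mul_mem (hW1 z.2.1.2) (hW2 z.2.2.2))⟩
      have hker : ∀ a ∈ W, ∀ b ∈ W.map y.toMonoidHom, ∀ c ∈ (W.map y.toMonoidHom).map y.toMonoidHom,
          a * (b * c) = 1 → a = 1 ∧ b = 1 ∧ c = 1 := by
        intro a ha b hb c hc habc
        have hb0 := hx1.fix_of_ne hx c01.symm hne hb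
        have hc0 := hx2.fix_of_ne hx c02.symm hne02.symm hc
        have h1 := congrArg x habc
        rw [map_mul, map_mul, hb0, hc0, map_one, ← habc] at h1
        have ha1 : a = 1 := hx.fpf a ha (mul_right_cancel h1)
        rw [ha1, one_mul] at habc
        have hc1 := hx2.fix_of_ne hx1 c12.symm hne12.symm hc
        have h2 := congrArg (y * x * y⁻¹ : MulAut V) habc
        rw [map_mul, hc1, map_one, ← habc] at h2
        have hb1 : b = 1 := hx1.fpf b hb (mul_right_cancel h2)
        rw [hb1, one_mul] at habc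
        exact ⟨ha1, hb1, habc⟩
      have hinj : Function.Injective f := by
        rintro ⟨⟨a, ha⟩, ⟨b, hb⟩, ⟨c, hc⟩⟩ ⟨⟨a', ha'⟩, ⟨b', hb'⟩, ⟨c', hc'⟩⟩ h
        have h' : a * (b * c) = a' * (b' * c') := congrArg Subtype.val h
        have := hker (a * a'⁻¹) (mul_mem ha (inv_mem ha')) (b * b'⁻¹) (mul_mem hb (inv_mem hb'))
          (c * c'⁻¹) (mul_mem hc (inv_mem hc')) (by
            rw [show a * a'⁻¹ * (b * b'⁻¹ * (c * c'⁻¹)) = (a * (b * c)) * (a' * (b' * c'))⁻¹ by
              simp only [mul_inv_rev]; ac_rfl, h', mul_inv_cancel])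
        obtain ⟨e1, e2, e3⟩ := this
        rw [mul_inv_eq_one] at e1 e2 e3
        subst e1 e2 e3
        rfl
      have hle := Nat.card_le_card_of_injective f hinj
      rw [Nat.card_prod, Nat.card_prod, hx.card, hx1.card, hx2.card] at hle
      have hDcard : Nat.card D ≤ 4 * 4 := by
        let g : W × W' → D := fun z => ⟨z.1 * z.2, hD ▸ mul_mem (mem_sup_left z.1.2) (mem_sup_right z.2.2)⟩
        have hg : Function.Surjective g := by
          rintro ⟨d, hd⟩
          rw [hD, mem_sup] at hd
          obtain ⟨a, ha, b, hb, rfl⟩ := hd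
          exact ⟨(⟨a, ha⟩, ⟨b, hb⟩), rfl⟩
        have := Nat.card_le_card_of_surjective g hg
        rwa [Nat.card_prod, hx.card, hy.card] at this
      omega
    -- the commutator acts trivially
    have hyW' : ∀ w ∈ W, y w ∈ W := fun w hw => hyW ▸ ⟨w, hw, rfl⟩
    obtain ⟨z, hz⟩ : ∃ z, z = x * y * x⁻¹ * y⁻¹ := ⟨_, rfl⟩
    have hzE : z ∈ E := hz ▸ mul_mem (mul_mem (mul_mem hxE hyE) (inv_mem hxE)) (inv_mem hyE)
    have hcommW : ∀ w ∈ W, x (y w) = y (x w) := by
      classical
      intro w hw
      by_cases hw1 : w = 1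
      · simp [hw1]
      have hxw := hx.apply_mem hw
      have hxw1 : x w ≠ 1 := fun h => hw1 ((map_eq_one_iff x x.injective).1 h)
      have hxwne : x w ≠ w := fun h => hw1 (hx.fpf w hw h)
      have hcases : ∀ v ∈ W, v = 1 ∨ v = w ∨ v = x w ∨ v = w * x w := by
        intro v hv
        have h4 : ({1, w, x w, w * x w} : Finset V).card = 4 := by
          have e1 : w * x w ≠ 1 := fun h => hxwne ((eq_inv_of_mul_eq_one_right h).trans
            (inv_eq_of_mul_eq_one_right (hV w)))
          have e2 : w * x w ≠ w := fun h => hxw1 (mul_eq_left.1 h)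
          have e3 : w * x w ≠ x w := fun h => hw1 (mul_eq_right.1 h)
          simp [Ne.symm hw1, Ne.symm hxw1, Ne.symm hxwne, Ne.symm e1, Ne.symm e2, Ne.symm e3]
        have hsub : (({1, w, x w, w * x w} : Finset V) : Set V) ⊆ (W : Set V) := by
          intro a ha
          simp only [Finset.coe_insert, Finset.coe_singleton, Set.mem_insert_iff, Set.mem_singleton_iff] at ha
          rcases ha with rfl | rfl | rfl | rfl
          · exact one_mem W
          · exact hw
          · exact hxw
          · exact mul_mem hw hxw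
        have heq := Set.eq_of_subset_of_ncard_le hsub (by
          rw [Set.ncard_coe_finset, h4, ← Nat.card_coe_set_eq]; exact hx.card.le) (Set.toFinite _)
        have : v ∈ (({1, w, x w, w * x w} : Finset V) : Set V) := heq ▸ hv
        simpa using this
      have hx2w : x (x w) = w * x w := by
        rcases hcases _ (hx.apply_mem hxw) with h | h | h | h
        · exact absurd ((map_eq_one_iff x x.injective).1 h) hxw1
        · exfalso
          obtain ⟨m, hm⟩ := hE ⟨x, hxE⟩
          obtain ⟨k, hk⟩ := (Odd.pow (by decide : Odd 3) : Odd (3 ^ m))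
          have heven : ∀ j : ℕ, (x ^ (2 * j)) w = w := by
            intro j
            induction j with
            | zero => rfl
            | succ j ihj =>
              rw [show x ^ (2 * (j + 1)) = x * (x * x ^ (2 * j)) by
                rw [← pow_succ', ← pow_succ']; congr 1]
              rw [MulAut.mul_apply, MulAut.mul_apply, ihj, h]
          have hm' : x ^ 3 ^ m = 1 := congrArg Subtype.val hm
          have h2 := congrArg (fun e : MulAut V => e w) hm'
          simp only [MulAut.one_apply, hk, pow_succ',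
            MulAut.mul_apply, heven] at h2
          exact hxwne h2
        · exact absurd (hx.fpf _ hxw h) hxw1
        · exact h
      have hyfix : ∀ v ∈ W, v ≠ 1 → y v = v → ∀ u ∈ W, y u = u := by
        intro v hv hv1 hyv
        -- `v` is one of the three; the rest form an orbit of length at most two
        obtain ⟨m, hm⟩ := hE ⟨y, hyE⟩
        obtain ⟨k, hk⟩ := (Odd.pow (by decide : Odd 3) : Odd (3 ^ m))
        intro u hu
        have huu : y u = u ∨ y (y u) = u := by
          by_cases hu1 : u = 1
          · exact Or.inl (by simp [hu1])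
          by_cases huv : u = v
          · exact Or.inl (huv ▸ hyv)
          have hW4 : ∀ a ∈ W, a ≠ 1 → a ≠ v → a = u ∨ a = v * u := by
            intro a ha ha1 hav
            have h4 : ({1, v, u, v * u} : Finset V).card = 4 := by
              have e1 : v * u ≠ 1 := fun h => huv ((eq_inv_of_mul_eq_one_right h).trans
                (inv_eq_of_mul_eq_one_right (hV v)))
              have e2 : v * u ≠ v := fun h => hu1 (mul_eq_left.1 h)
              have e3 : v * u ≠ u := fun h => hv1 (mul_eq_right.1 h)
              simp [Ne.symm hv1, Ne.symm hu1, Ne.symm huv, Ne.symm e1, Ne.symm e2, Ne.symm e3]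
            have hsub : (({1, v, u, v * u} : Finset V) : Set V) ⊆ (W : Set V) := by
              intro a ha
              simp only [Finset.coe_insert, Finset.coe_singleton, Set.mem_insert_iff, Set.mem_singleton_iff] at ha
              rcases ha with rfl | rfl | rfl | rfl
              · exact one_mem W
              · exact hv
              · exact hu
              · exact mul_mem hv hu
            have heq := Set.eq_of_subset_of_ncard_le hsub (by
              rw [Set.ncard_coe_finset, h4, ← Nat.card_coe_set_eq]; exact hx.card.le) (Set.toFinite _)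
            have : a ∈ (({1, v, u, v * u} : Finset V) : Set V) := heq ▸ ha
            simp only [Finset.coe_insert, Finset.coe_singleton, Set.mem_insert_iff,
              Set.mem_singleton_iff] at this
            rcases this with h | h | h | h
            · exact absurd h ha1
            · exact absurd h hav
            · exact Or.inl h
            · exact Or.inr h
          rcases hW4 (y u) (hyW' u hu) (fun h => hu1 ((map_eq_one_iff y y.injective).1 h))
            (fun h => huv (y.injective (h.trans hyv.symm))) with h | h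
          · exact Or.inl h
          · refine Or.inr ?_
            rw [h, map_mul, hyv, h, ← mul_assoc, hV v, one_mul]
        rcases huu with h | h
        · exact h
        have heven : ∀ j : ℕ, (y ^ (2 * j)) u = u := by
          intro j
          induction j with
          | zero => rfl
          | succ j ihj =>
            rw [show y ^ (2 * (j + 1)) = y * (y * y ^ (2 * j)) by
              rw [← pow_succ', ← pow_succ']; congr 1]
            rw [MulAut.mul_apply, MulAut.mul_apply, ihj, h]
        have hm' : y ^ 3 ^ m = 1 := congrArg Subtype.val hm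
        have h2 := congrArg (fun e : MulAut V => e u) hm'
        simp only [MulAut.one_apply, hk, pow_succ',
          MulAut.mul_apply, heven] at h2
        exact h2
      have hwxw : x (w * x w) = w := by
        rw [map_mul, hx2w, mul_comm w, ← mul_assoc, hV, one_mul]
      rcases hcases (y w) (hyW' w hw) with h | h | h | h
      · exact absurd ((map_eq_one_iff y y.injective).1 h) hw1
      · rw [h, hyfix w hw hw1 h _ hxw]
      · rcases hcases (y (x w)) (hyW' _ hxw) with h' | h' | h' | h'
        · exact absurd ((map_eq_one_iff y y.injective).1 h') hxw1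
        · exfalso
          have hv1 : w * x w ≠ 1 := fun e => hxwne ((eq_inv_of_mul_eq_one_right e).trans
            (inv_eq_of_mul_eq_one_right (hV w)))
          have e := hyfix _ (mul_mem hw hxw) hv1 (by rw [map_mul, h, h', mul_comm]) w hw
          exact hxwne (h.symm.trans e)
        · exact absurd (y.injective (h'.trans h.symm)) hxwne
        · rw [h, h', hx2w]
      · rcases hcases (y (x w)) (hyW' _ hxw) with h' | h' | h' | h'
        · exact absurd ((map_eq_one_iff y y.injective).1 h') hxw1
        · rw [h, h', hwxw]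
        · exfalso
          have e := hyfix _ hxw hxw1 h' w hw
          exact hxw1 (mul_eq_left.1 (h.symm.trans e))
        · exact absurd (y.injective (h'.trans h.symm)) hxwne
    have hzW : ∀ w ∈ W, z w = w := by
      intro w hw
      obtain ⟨v, hv, rfl⟩ : ∃ v ∈ W, y (x v) = w := by
        have hinj : Function.Injective (fun v : W => (⟨y (x v), hyW' _ (hx.apply_mem v.2)⟩ : W)) :=
          fun a b hab => Subtype.ext (x.injective (y.injective (congrArg Subtype.val hab)))
        obtain ⟨⟨v, hv⟩, hvw⟩ := Finite.surjective_of_injective hinj ⟨w, hw⟩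
        exact ⟨v, hv, congrArg Subtype.val hvw⟩
      rw [hz]
      simp [MulAut.mul_apply, hcommW v hv]
    have hzmove : ∀ v, z v * v⁻¹ ∈ W := by
      intro v
      rw [hz]
      simp only [MulAut.mul_apply]
      obtain ⟨u, hu⟩ : ∃ u, u = x⁻¹ (y⁻¹ v) := ⟨_, rfl⟩
      have hv : v = y (x u) := by rw [hu]; simp
      rw [← hu, hv]
      have e : x (y u) * (y (x u))⁻¹ = x (y u) * (y u)⁻¹ * (y (x u * u⁻¹))⁻¹ := by
        rw [map_mul, map_inv, mul_inv_rev, inv_inv, mul_assoc, inv_mul_cancel_left]
      rw [e]
      exact mul_mem (hx.move _) (inv_mem (hyW' _ (hx.move u)))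
    have hz1 : z = 1 := by
      obtain ⟨m, hm⟩ := hE ⟨z, hzE⟩
      obtain ⟨k, hk⟩ := (Odd.pow (by decide : Odd 3) : Odd (3 ^ m))
      refine MulEquiv.ext fun v => ?_
      have hu := hzmove v
      have h2 : ∀ j : ℕ, (z ^ j) v = (z v * v⁻¹) ^ j * v := by
        intro j
        induction j with
        | zero => simp
        | succ j ihj =>
          rw [pow_succ' z, MulAut.mul_apply, ihj, map_mul, map_pow, hzW _ hu, pow_succ, mul_assoc,
            inv_mul_cancel_right]
      have h3 := h2 (3 ^ m)
      rw [show z ^ 3 ^ m = 1 from congrArg Subtype.val hm, MulAut.one_apply, hk, pow_succ, pow_mul,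
        pow_two, hV, one_pow, one_mul, inv_mul_cancel_right] at h3
      exact h3.symm
    rw [hz, mul_inv_eq_one, mul_inv_eq_iff_eq_mul] at hz1
    exact hz1

end CfsgLib.JCompPlanes
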