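import Cfsg.Prelude.Def_JComponents
import Cfsg.Agent.Lib.Fusion.Thompson
import Cfsg.Agent.Lib.Fusion.OffenderReplacement
import Cfsg.Agent.Lib.PGroup.ElementaryBasic
import Cfsg.Agent.Lib.Coprime.Action
import Cfsg.Agent.Lib.Quasithin.Faithful

/-!
# Preliminaries for the theory of `J(T)`-components
-/

set_option autoImplicit false
set_option linter.style.haveILetI false
set_option linter.unusedSectionVars false

open Subgroup
open scoped commutatorElement

namespace CfsgLib.JComp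

open CfsgLib.Fusion (IsMaxEA conjBy)
open CfsgLib.EABasic (comm_of_isElementaryAbelian)

universe u

variable {G : Type u} [Group G]

/-- `J(T)` -/
abbrev jOf (T : Subgroup G) : Subgroup G := Cfsg.thompsonSubgroupOf 2 T

theorem le_normalizer_of_conj {H K : Subgroup G} (h : ∀ x ∈ H, ∀ y ∈ K, x * y * x⁻¹ ∈ K) :
    H ≤ normalizer (K : Set G) := by
  intro x hx
  refine mem_normalizer_iff.2 fun y => ⟨h x hx y, fun hy => ?_⟩
  simpa [mul_assoc] using h x⁻¹ (inv_mem hx) _ hy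

theorem conj_mem {H K : Subgroup G} (h : H ≤ normalizer (K : Set G)) {x y : G} (hx : x ∈ H)
    (hy : y ∈ K) : x * y * x⁻¹ ∈ K :=
  (mem_normalizer_iff.1 (h hx) y).1 hy

theorem omegaOne_le (p : ℕ) (H : Subgroup G) : Cfsg.omegaOne p H ≤ H :=
  (closure_le _).2 fun _ h => h.1

theorem omegaOne_ea {p : ℕ} {H : Subgroup G} (hc : ∀ x ∈ H, ∀ y ∈ H, x * y = y * x) :
    Cfsg.IsElementaryAbelian p (Cfsg.omegaOne p H) := by
  refine ⟨⟨⟨fun a b => Subtype.ext (hc _ (omegaOne_le p H a.2) _ (omegaOne_le p H b.2))⟩⟩,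
    fun a ha => ?_⟩
  induction ha using closure_induction with
  | mem x hx => exact hx.2
  | one => exact one_pow p
  | mul x y hx hy ex ey =>
    rw [Commute.mul_pow (hc _ (omegaOne_le p H hx) _ (omegaOne_le p H hy)), ex, ey, one_mul]
  | inv x _ ex => rw [inv_pow, ex, inv_one]

/-- membership in `Ω₁(Z(X))` -/
theorem mem_omegaCenterOf {X : Subgroup G} {x : G} :
    x ∈ Cfsg.omegaCenterOf X ↔ x ∈ X ∧ (∀ y ∈ X, y * x = x * y) ∧ x ^ 2 = 1 := by
  constructor
  · intro hx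
    have h1 := omegaOne_le 2 _ hx
    have hc : ∀ a ∈ X ⊓ centralizer (X : Set G), ∀ b ∈ X ⊓ centralizer (X : Set G), a * b = b * a :=
      fun a ha b hb => (mem_centralizer_iff.1 ha.2 b hb.1).symm
    exact ⟨h1.1, mem_centralizer_iff.1 h1.2, (omegaOne_ea hc).2 x hx⟩
  · rintro ⟨h1, h2, h3⟩
    exact subset_closure ⟨⟨h1, mem_centralizer_iff.2 h2⟩, h3⟩

theorem omegaCenterOf_ea (X : Subgroup G) : Cfsg.IsElementaryAbelian 2 (Cfsg.omegaCenterOf X) :=
  omegaOne_ea fun _ ha b hb => (mem_centralizer_iff.1 ha.2 b hb.1).symm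

theorem normalizer_le_normalizer_omegaCenterOf (X : Subgroup G) :
    normalizer (X : Set G) ≤ normalizer (Cfsg.omegaCenterOf X : Set G) := by
  refine le_normalizer_of_conj fun g hg x hx => ?_
  obtain ⟨h1, h2, h3⟩ := mem_omegaCenterOf.1 hx
  refine mem_omegaCenterOf.2 ⟨conj_mem le_rfl hg h1, fun y hy => ?_, ?_⟩
  · have hy' : g⁻¹ * y * g ∈ X := by simpa using conj_mem le_rfl (inv_mem hg) hy
    calc y * (g * x * g⁻¹) = g * ((g⁻¹ * y * g) * x) * g⁻¹ := by group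
      _ = g * (x * (g⁻¹ * y * g)) * g⁻¹ := by rw [h2 _ hy']
      _ = (g * x * g⁻¹) * y := by group
  · rw [conj_pow, h3, mul_one, mul_inv_cancel]

theorem pCoreOf_le (p : ℕ) (H : Subgroup G) : Cfsg.pCoreOf p H ≤ H := map_subtype_le _

theorem isPGroup_pCoreOf [Finite G] (p : ℕ) [Fact p.Prime] (H : Subgroup G) :
    IsPGroup p (Cfsg.pCoreOf p H) :=
  (CfsgLib.Coprime.pCore_isPGroup p).map _

theorem le_normalizer_pCoreOf (p : ℕ) (H : Subgroup G) :
    H ≤ normalizer (Cfsg.pCoreOf p H : Set G) := by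
  haveI := CfsgLib.Coprime.pCore_normal' (G := H) p
  refine le_normalizer_of_conj fun h hh x hx => ?_
  obtain ⟨z, hz, rfl⟩ := hx
  exact ⟨⟨h, hh⟩ * z * ⟨h, hh⟩⁻¹, Subgroup.Normal.conj_mem inferInstance z hz _, rfl⟩

theorem le_pCoreOf {p : ℕ} {R H : Subgroup G} (hRH : R ≤ H) (hR : IsPGroup p R)
    (hHR : H ≤ normalizer (R : Set G)) : R ≤ Cfsg.pCoreOf p H := by
  haveI : (R.subgroupOf H).Normal := (normal_subgroupOf_iff_le_normalizer hRH).2 hHR
  intro r hr
  exact ⟨⟨r, hRH hr⟩, CfsgLib.Coprime.le_pCore (N := R.subgroupOf H) (hR.comap_subtype) (show r ∈ R from hr), rfl⟩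

theorem normalizer_le_normalizer_pCoreOf [Finite G] {p : ℕ} [Fact p.Prime] (H : Subgroup G) :
    normalizer (H : Set G) ≤ normalizer (Cfsg.pCoreOf p H : Set G) := by
  refine le_normalizer_of_conj fun g hg x hx => ?_
  have hmap : (Cfsg.pCoreOf p H).map (MulAut.conj g).toMonoidHom ≤ Cfsg.pCoreOf p H := by
    refine le_pCoreOf ?_ ((isPGroup_pCoreOf p H).map _) ?_
    · rintro _ ⟨y, hy, rfl⟩
      exact conj_mem le_rfl hg (pCoreOf_le p H hy)
    · refine le_normalizer_of_conj fun h hh y hy => ?_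
      obtain ⟨z, hz, rfl⟩ := hy
      have hh' : g⁻¹ * h * g ∈ H := by simpa using conj_mem le_rfl (inv_mem hg) hh
      refine ⟨(g⁻¹ * h * g) * z * (g⁻¹ * h * g)⁻¹, conj_mem (le_normalizer_pCoreOf p H) hh' hz, ?_⟩
      show g * _ * g⁻¹ = h * (g * z * g⁻¹) * h⁻¹
      group
  exact hmap ⟨x, hx, rfl⟩

variable [Finite G]

theorem exists_max (T : Subgroup G) : ∃ A, IsMaxEA 2 T A := CfsgLib.Fusion.exists_isMaxEA 2 T

theorem jOf_le (T : Subgroup G) : jOf T ≤ T := CfsgLib.Fusion.thompsonSubgroupOf_le T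

theorem le_jOf {T A : Subgroup G} (h : IsMaxEA 2 T A) : A ≤ jOf T :=
  CfsgLib.Fusion.le_thompsonSubgroupOf h

theorem jOf_le_iff {T X : Subgroup G} : jOf T ≤ X ↔ ∀ A, IsMaxEA 2 T A → A ≤ X := by
  rw [jOf, CfsgLib.Fusion.thompsonSubgroupOf_eq, sSup_le_iff]
  rfl

theorem max_card_eq {T A B : Subgroup G} (hA : IsMaxEA 2 T A) (hB : IsMaxEA 2 T B) :
    Nat.card A = Nat.card B :=
  le_antisymm (hB.2.2 A hA.1 hA.2.1) (hA.2.2 B hB.1 hB.2.1)

theorem conjBy_jOf (g : G) (T : Subgroup G) : conjBy g (jOf T) = jOf (conjBy g T) := by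
  refine le_antisymm (CfsgLib.Fusion.conjBy_thompsonSubgroupOf g T) ?_
  have h := CfsgLib.Fusion.conjBy_mono (g := g)
    (CfsgLib.Fusion.conjBy_thompsonSubgroupOf (p := 2) g⁻¹ (conjBy g T))
  rwa [CfsgLib.Fusion.conjBy_inv_conjBy, CfsgLib.Fusion.conjBy_conjBy_inv] at h

theorem isMaxEA_conjBy (g : G) {T A : Subgroup G} (h : IsMaxEA 2 T A) :
    IsMaxEA 2 (conjBy g T) (conjBy g A) := by
  refine ⟨CfsgLib.Fusion.conjBy_mono h.1, CfsgLib.Fusion.isElementaryAbelian_map _ h.2.1,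
    fun B hB hBe => ?_⟩
  have h1 := h.2.2 (conjBy g⁻¹ B) (by
    have := CfsgLib.Fusion.conjBy_mono (g := g⁻¹) hB
    rwa [CfsgLib.Fusion.conjBy_inv_conjBy] at this) (CfsgLib.Fusion.isElementaryAbelian_map _ hBe)
  rw [CfsgLib.Fusion.card_conjBy] at h1
  exact h1.trans (CfsgLib.Fusion.card_conjBy g A).ge

/-- Largest elementary abelian subgroups of a `2`-group inside a conjugate of `T` and above `J(T)`. -/
theorem isMax_of_conj_le {T P : Subgroup G} (hJP : jOf T ≤ P) {g : G} (hg : conjBy g P ≤ T)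
    {A : Subgroup G} (hA : IsMaxEA 2 T A) : IsMaxEA 2 P A := by
  refine ⟨(le_jOf hA).trans hJP, hA.2.1, fun B hB hBe => ?_⟩
  have h := hA.2.2 (conjBy g B) ((CfsgLib.Fusion.conjBy_mono hB).trans hg)
    (CfsgLib.Fusion.isElementaryAbelian_map _ hBe)
  rwa [CfsgLib.Fusion.card_conjBy] at h

/-- A group above `J(T)` and inside a conjugate of `T` has Thompson subgroup `J(T)`. -/
theorem jOf_eq_of_conj_le {T P : Subgroup G} (hJP : jOf T ≤ P) {g : G} (hg : conjBy g P ≤ T) :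
    jOf P = jOf T := by
  have hle : jOf T ≤ jOf P :=
    jOf_le_iff.2 fun A hA => le_jOf (isMax_of_conj_le hJP hg hA)
  refine (eq_of_le_of_card_ge hle ?_).symm
  rw [← CfsgLib.Fusion.card_conjBy g (jOf P), conjBy_jOf]
  refine card_le_of_le (jOf_le_iff.2 fun B hB => ?_)
  obtain ⟨A, hA⟩ := exists_max T
  refine le_jOf ⟨hB.1.trans hg, hB.2.1, fun D hD hDe => ?_⟩
  have h1 := (isMaxEA_conjBy g (isMax_of_conj_le hJP hg hA))
  rw [max_card_eq hB h1, CfsgLib.Fusion.card_conjBy]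
  exact hA.2.2 D hD hDe

/-- The basic offender inequality. -/
theorem max_ineq {P V A : Subgroup G} (hA : IsMaxEA 2 P A) (hV : Cfsg.IsElementaryAbelian 2 V)
    (hVP : V ≤ P) {B : Subgroup G} (hB : B ≤ A) :
    Nat.card B * Nat.card (V ⊓ centralizer (B : Set G) : Subgroup G) ≤
      Nat.card A * Nat.card (V ⊓ centralizer (A : Set G) : Subgroup G) := by
  have hBe : Cfsg.IsElementaryAbelian 2 B := ⟨⟨⟨fun a b => Subtype.ext
    (comm_of_isElementaryAbelian hA.2.1 (hB a.2) (hB b.2))⟩⟩, fun a ha => hA.2.1.2 a (hB ha)⟩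
  have hVe : Cfsg.IsElementaryAbelian 2 (V ⊓ centralizer (B : Set G) : Subgroup G) :=
    ⟨⟨⟨fun a b => Subtype.ext (comm_of_isElementaryAbelian hV a.2.1 b.2.1)⟩⟩,
      fun a ha => hV.2 a ha.1⟩
  have hsum := hA.2.2 (B ⊔ (V ⊓ centralizer (B : Set G)))
    (sup_le (hB.trans hA.1) (inf_le_left.trans hVP))
    (CfsgLib.EABasic.isElementaryAbelian_sup hBe hVe fun a ha v hv => mem_centralizer_iff.1 hv.2 a ha)
  have hint : B ⊓ (V ⊓ centralizer (B : Set G)) ≤ V ⊓ centralizer (A : Set G) := fun x hx =>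
    ⟨hx.2.1, mem_centralizer_iff.2 fun a ha => comm_of_isElementaryAbelian hA.2.1 ha (hB hx.1)⟩
  exact (CfsgLib.Fusion.card_mul_le_sup_inf _ _).trans (Nat.mul_le_mul hsum (card_le_of_le hint))

/-- An elementary abelian subgroup commuting with one of largest order lies in it. -/
theorem le_max_of_commute {P A V : Subgroup G} (hA : IsMaxEA 2 P A) (hV : Cfsg.IsElementaryAbelian 2 V)
    (hVP : V ≤ P) (hc : ∀ a ∈ A, ∀ v ∈ V, a * v = v * a) : V ≤ A :=
  le_sup_right.trans (eq_of_le_of_card_ge le_sup_left (hA.2.2 _ (sup_le hA.1 hVP)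
    (CfsgLib.EABasic.isElementaryAbelian_sup hA.2.1 hV hc))).ge

/-- A `2`-group normalizing a subgroup generated by odd elements: Wielandt. -/
theorem le_normalizer_of_subnormal {K Q : Subgroup G}
    (hK : closure {g : G | g ∈ K ∧ Odd (orderOf g)} = K) (hQ : IsPGroup 2 Q)
    (hn : K ≤ normalizer (Q : Set G)) (hsn : (K.subgroupOf (K ⊔ Q)).IsSubnormal) :
    Q ≤ normalizer (K : Set G) := by
  haveI : Fact (Nat.Prime 2) := ⟨Nat.prime_two⟩
  obtain ⟨k, hk⟩ : ∃ k, (K.subgroupOf (K ⊔ Q)).index ∣ 2 ^ k := by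
    obtain ⟨k, hk⟩ := hQ.exists_card_eq
    refine ⟨k, ?_⟩
    rw [← hk]
    show K.relIndex (K ⊔ Q) ∣ Nat.card Q
    have hc : Nat.card ↥(K ⊔ Q) ∣ Nat.card K * Nat.card Q :=
      Dvd.intro _ (CfsgLib.EABasic.card_sup_mul_card_inf_of_le_normalizer hn)
    rw [← relIndex_bot_left, ← relIndex_mul_relIndex ⊥ K (K ⊔ Q) bot_le le_sup_left,
      relIndex_bot_left] at hc
    exact Nat.dvd_of_mul_dvd_mul_left Nat.card_pos hc
  refine le_trans le_sup_right (le_normalizer_of_conj fun x hx y hy => ?_ : K ⊔ Q ≤ _)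
  suffices h : K ≤ K.comap (MulAut.conj x).toMonoidHom from h hy
  conv_lhs => rw [← hK]
  refine (closure_le _).2 fun w ⟨hw, hwo⟩ => ?_
  have hmem : x * w * x⁻¹ ∈ K ⊔ Q := mul_mem (mul_mem hx (mem_sup_left hw)) (inv_mem hx)
  have h := CfsgLib.Quasithin.mem_of_isSubnormal_of_index hsn k hk ⟨_, hmem⟩ (by
    rw [← Subgroup.orderOf_coe]
    show Odd (orderOf (x * w * x⁻¹))
    rw [show x * w * x⁻¹ = MulAut.conj x w from rfl, MulEquiv.orderOf_eq]
    exact hwo)
  exact h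

/-- A `2`-group acting on a nontrivial `2`-group fixes a nontrivial element. -/
theorem exists_fixed {A W : Subgroup G} (hA : IsPGroup 2 A) (hn : A ≤ normalizer (W : Set G))
    (hW : IsPGroup 2 W) (hW1 : W ≠ ⊥) : ∃ w ∈ W, w ≠ 1 ∧ ∀ a ∈ A, a * w = w * a := by
  haveI : Fact (Nat.Prime 2) := ⟨Nat.prime_two⟩
  letI : MulAction A W :=
    { smul := fun a w => ⟨(a : G) * w * (a : G)⁻¹, conj_mem hn a.2 w.2⟩
      one_smul := fun w => Subtype.ext (by
        show ((1 : A) : G) * w * ((1 : A) : G)⁻¹ = w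
        simp)
      mul_smul := fun a b w => Subtype.ext (by
        show ((a * b : A) : G) * w * ((a * b : A) : G)⁻¹ = (a : G) * ((b : G) * w * (b : G)⁻¹) * (a : G)⁻¹
        rw [Subgroup.coe_mul]; group) }
  have h1 : (1 : W) ∈ MulAction.fixedPoints A W := fun a => Subtype.ext (by
    show (a : G) * ((1 : W) : G) * (a : G)⁻¹ = ((1 : W) : G)
    simp)
  obtain ⟨k, hk⟩ := hW.exists_card_eq
  have hk0 : k ≠ 0 := fun h => hW1 (card_eq_one.1 (by rw [hk, h, pow_zero]))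
  obtain ⟨w, hw, hw1⟩ := hA.exists_fixed_point_of_prime_dvd_card_of_fixed_point W
    (hk ▸ dvd_pow_self 2 hk0) h1
  refine ⟨w, w.2, fun h => hw1 (Subtype.ext h.symm), fun a ha => ?_⟩
  have h : a * (w : G) * a⁻¹ = w := congrArg Subtype.val (hw ⟨a, ha⟩)
  rwa [mul_inv_eq_iff_eq_mul] at h

theorem four_cases {W : Subgroup G} (hc : Nat.card W = 4) (he : ∀ w ∈ W, w * w = 1) {a b : G}
    (ha : a ∈ W) (hb : b ∈ W) (ha1 : a ≠ 1) (hb1 : b ≠ 1) (hab : a ≠ b) {x : G} (hx : x ∈ W) :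
    x = 1 ∨ x = a ∨ x = b ∨ x = a * b := by
  classical
  have hi : a⁻¹ = a := inv_eq_of_mul_eq_one_right (he a ha)
  have h4 : ({1, a, b, a * b} : Finset G).card = 4 := by
    have e1 : a * b ≠ 1 := fun h => hab (by
      have := eq_inv_of_mul_eq_one_right h
      rw [hi] at this
      exact this.symm)
    have e2 : a * b ≠ a := fun h => hb1 (mul_eq_left.1 h)
    have e3 : a * b ≠ b := fun h => ha1 (mul_eq_right.1 h)
    simp [Ne.symm ha1, Ne.symm hb1, hab, Ne.symm e1, Ne.symm e2, Ne.symm e3]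
  have hsub : (({1, a, b, a * b} : Finset G) : Set G) ⊆ (W : Set G) := by
    intro y hy
    simp only [Finset.coe_insert, Finset.coe_singleton, Set.mem_insert_iff, Set.mem_singleton_iff] at hy
    rcases hy with rfl | rfl | rfl | rfl
    · exact one_mem W
    · exact ha
    · exact hb
    · exact mul_mem ha hb
  have heq := Set.eq_of_subset_of_ncard_le hsub (by
    rw [Set.ncard_coe_finset, h4, ← Nat.card_coe_set_eq]
    exact hc.le) (Set.toFinite _)
  have : x ∈ (({1, a, b, a * b} : Finset G) : Set G) := heq ▸ hx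
  simpa using this

theorem isPGroup_four {W : Subgroup G} (he : ∀ w ∈ W, w * w = 1) : IsPGroup 2 W := fun w =>
  ⟨1, Subtype.ext (by simpa [pow_two] using he w w.2)⟩

/-- Two elements of an abelian `2`-group moving a four group have product centralizing it. -/
theorem mul_fixes_four {A W : Subgroup G} (hA : IsPGroup 2 A) (hn : A ≤ normalizer (W : Set G))
    (hc : Nat.card W = 4) (he : ∀ w ∈ W, w * w = 1) {a b : G} (ha : a ∈ A) (hb : b ∈ A)
    (ha' : a ∉ centralizer (W : Set G)) (hb' : b ∉ centralizer (W : Set G)) :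
    a * b ∈ centralizer (W : Set G) := by
  obtain ⟨w, hw, hw1, hwfix⟩ := exists_fixed hA hn (isPGroup_four he)
    (fun h => by rw [h, Subgroup.card_bot] at hc; omega)
  have move : ∀ x ∈ A, x ∉ centralizer (W : Set G) → ∀ v ∈ W, v ≠ 1 → v ≠ w → x * v * x⁻¹ = w * v := by
    intro x hx hx' v hv hv1 hvw
    rcases four_cases hc he hw hv hw1 hv1 (Ne.symm hvw) (conj_mem hn hx hv) with h | h | h | h
    · exact absurd (conj_eq_one_iff.1 h) hv1
    · refine absurd ?_ hvw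
      have h2 : x⁻¹ * w * x = w := by
        rw [mul_assoc, ← hwfix x hx, inv_mul_cancel_left]
      rw [← h2, ← h]; group
    · refine absurd (mem_centralizer_iff.2 fun y hy => ?_) hx'
      rcases four_cases hc he hw hv hw1 hv1 (Ne.symm hvw) hy with rfl | rfl | rfl | rfl
      · simp
      · exact (hwfix x hx).symm
      · exact (mul_inv_eq_iff_eq_mul.1 h).symm
      · rw [mul_assoc, ← mul_inv_eq_iff_eq_mul.1 h, ← mul_assoc, ← hwfix x hx, mul_assoc]
    · exact h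
  refine mem_centralizer_iff.2 fun v hv => ?_
  by_cases hv1 : v = 1
  · simp [hv1]
  by_cases hvw : v = w
  · subst hvw
    exact (hwfix _ (mul_mem ha hb)).symm
  refine (mul_inv_eq_iff_eq_mul.1 ?_).symm
  calc a * b * v * (a * b)⁻¹ = a * (b * v * b⁻¹) * a⁻¹ := by group
    _ = (a * w * a⁻¹) * (a * v * a⁻¹) := by rw [move b hb hb' v hv hv1 hvw]; group
    _ = v := by
      rw [move a ha ha' v hv hv1 hvw, hwfix a ha, mul_inv_cancel_right, ← mul_assoc, he w hw, one_mul]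

theorem exists_sylowTwoIn {P X : Subgroup G} (hP : IsPGroup 2 P) (hPX : P ≤ X) :
    ∃ S, Cfsg.IsSylowTwoIn S X ∧ P ≤ S := by
  haveI : Fact (Nat.Prime 2) := ⟨Nat.prime_two⟩
  obtain ⟨Q, hQ⟩ := (hP.comap_of_injective X.subtype X.subtype_injective).exists_le_sylow
  refine ⟨(Q : Subgroup X).map X.subtype, ⟨map_subtype_le _, Q.2.map _, ?_⟩,
    fun x hx => ⟨⟨x, hPX hx⟩, hQ (show x ∈ P from hx), rfl⟩⟩
  rw [relIndex, ← comap_subtype, comap_map_eq_self_of_injective X.subtype_injective]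
  exact Nat.not_even_iff_odd.1 fun h => Q.not_dvd_index h.two_dvd

/-- Sylow's theorem inside a subgroup. -/
theorem exists_conjBy_le {T L P : Subgroup G} (hT : Cfsg.IsSylowTwoIn T L) (hP : IsPGroup 2 P)
    (hPL : P ≤ L) : ∃ g ∈ L, conjBy g P ≤ T := by
  haveI : Fact (Nat.Prime 2) := ⟨Nat.prime_two⟩
  obtain ⟨Q, hQ⟩ := (hP.comap_of_injective L.subtype L.subtype_injective).exists_le_sylow
  obtain ⟨hTL, hT2, hodd⟩ := hT
  let Ts : Sylow 2 L := IsPGroup.toSylow (hT2.comap_of_injective L.subtype L.subtype_injective)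
    (show ¬ 2 ∣ (T.subgroupOf L).index from hodd.not_two_dvd_nat)
  obtain ⟨g, hg⟩ := MulAction.exists_smul_eq L Q Ts
  refine ⟨g, g.2, ?_⟩
  rintro _ ⟨x, hx, rfl⟩
  have h1 : g * (⟨x, hPL hx⟩ : L) * g⁻¹ ∈ (Ts : Subgroup L) := by
    rw [← hg, Sylow.coe_subgroup_smul]
    exact Subgroup.smul_mem_pointwise_smul (⟨x, hPL hx⟩ : L) (MulAut.conj g) _ (hQ (show x ∈ P from hx))
  exact mem_subgroupOf.1 h1

end CfsgLib.JComp
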