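import Cfsg.Agent.Lib.JComp.Planes
import Cfsg.Agent.Lib.JComp.Normalizer
import Mathlib.GroupTheory.QuotientGroup.Basic

/-!
# The Thompson subgroup normalizes a subnormal component
-/

set_option autoImplicit false
set_option linter.style.haveILetI false
set_option linter.unusedSectionVars false

open Subgroup
open scoped commutatorElement

namespace CfsgLib.JComp

open CfsgLib.Fusion (IsMaxEA conjBy)
open CfsgLib.EABasic (comm_of_isElementaryAbelian)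

universe u

variable {G : Type u} [Group G] [Finite G]

/-- A join of subgroups of an abelian group, card bound. -/
theorem card_iSup_disjoint {V : Subgroup G} (hV : Cfsg.IsElementaryAbelian 2 V) {W : Subgroup G}
    {C : Subgroup G} (hW : W ≤ V) (hC : C ≤ V) (hdis : W ⊓ C = ⊥) :
    Nat.card ↥(W ⊔ C) = Nat.card W * Nat.card C := by
  have hn : W ≤ normalizer (C : Set G) := le_normalizer_of_conj fun x hx y hy => by
    rw [comm_of_isElementaryAbelian hV (hW hx) (hC hy), mul_inv_cancel_right]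
    exact hy
  have h := CfsgLib.EABasic.card_sup_mul_card_inf_of_le_normalizer hn
  rwa [hdis, Subgroup.card_bot, mul_one] at h

/-- A family of four groups in `V`, each with an element fixing all the others. -/
theorem planes_card {V : Subgroup G} (hV : Cfsg.IsElementaryAbelian 2 V) (k : Subgroup G → G)
    (s : Finset (Subgroup G)) (hle : ∀ Y ∈ s, Y ≤ V) (hc : ∀ Y ∈ s, Nat.card Y = 4)
    (hfpf : ∀ Y ∈ s, ∀ y ∈ Y, k Y * y = y * k Y → y = 1)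
    (hfix : ∀ Y ∈ s, ∀ Z ∈ s, Z ≠ Y → ∀ z ∈ Z, k Y * z = z * k Y) :
    Nat.card ↥(s.sup id) = 4 ^ s.card ∧
      ∀ x ∈ s.sup id, (∀ Y ∈ s, k Y * x = x * k Y) → x = 1 := by
  classical
  induction s using Finset.induction_on with
  | empty => simp
  | insert Y t hY ih =>
    have htY : ∀ z ∈ t.sup id, k Y * z = z * k Y := by
      suffices h : t.sup id ≤ centralizer ({k Y} : Set G) from fun z hz =>
        (mem_centralizer_singleton_iff.1 (h hz)).symm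
      refine Finset.sup_le fun Z hZ z hz => mem_centralizer_singleton_iff.2 ?_
      exact (hfix Y (Finset.mem_insert_self Y t) Z (Finset.mem_insert_of_mem hZ)
        (fun h => hY (h ▸ hZ)) z hz).symm
    obtain ⟨ih1, ih2⟩ := ih (fun Z hZ => hle Z (Finset.mem_insert_of_mem hZ))
      (fun Z hZ => hc Z (Finset.mem_insert_of_mem hZ)) (fun Z hZ => hfpf Z (Finset.mem_insert_of_mem hZ))
      (fun Z hZ Z' hZ' => hfix Z (Finset.mem_insert_of_mem hZ) Z' (Finset.mem_insert_of_mem hZ'))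
    have hYV := hle Y (Finset.mem_insert_self Y t)
    have htV : t.sup id ≤ V := Finset.sup_le fun Z hZ => hle Z (Finset.mem_insert_of_mem hZ)
    have hdis : Y ⊓ t.sup id = ⊥ := eq_bot_iff.2 fun y hy => mem_bot.2
      (hfpf Y (Finset.mem_insert_self Y t) y (mem_inf.1 hy).1 (htY y (mem_inf.1 hy).2))
    rw [Finset.sup_insert, id_eq, Finset.card_insert_of_notMem hY]
    refine ⟨by rw [card_iSup_disjoint hV hYV htV hdis, hc Y (Finset.mem_insert_self Y t), ih1, pow_succ'],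
      fun x hx hall => ?_⟩
    obtain ⟨y, hy, z, hz, rfl⟩ := CfsgLib.RootSub.mem_sup_of_commute
      (fun a ha b hb => comm_of_isElementaryAbelian hV (hYV ha) (htV hb)) hx
    have hy1 : y = 1 := by
      refine hfpf Y (Finset.mem_insert_self Y t) y hy ?_
      have h := hall Y (Finset.mem_insert_self Y t)
      have hz' := htY z hz
      calc k Y * y = (k Y * (y * z)) * z⁻¹ := by group
        _ = y * (z * k Y) * z⁻¹ := by rw [h]; group
        _ = y * k Y := by rw [← hz']; group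
    subst hy1
    rw [one_mul] at hall ⊢
    exact ih2 z hz fun Z hZ => hall Z (Finset.mem_insert_of_mem hZ)

section

variable {T X K : Subgroup G} (hK : ∃ T', Cfsg.IsJComponent T' K) (hKX : K ≤ X)
  (hsn : (K.subgroupOf X).IsSubnormal)
include hK hKX hsn

theorem core_le_core : coreOf K ≤ coreOf X :=
  CfsgLib.Quasithin.twoCore_mono hKX hsn

theorem core_le_normalizer : coreOf X ≤ normalizer (K : Set G) := by
  haveI : Fact (Nat.Prime 2) := ⟨Nat.prime_two⟩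
  obtain ⟨T', hK⟩ := hK
  refine le_normalizer_of_subnormal hK.1 (isPGroup_pCoreOf 2 X) (hKX.trans (le_normalizer_pCoreOf 2 X)) ?_
  have h := hsn.comap (inclusion (sup_le hKX (pCoreOf_le 2 X) : K ⊔ coreOf X ≤ X))
  exact h

theorem inf_core_le : K ⊓ coreOf X ≤ coreOf K := by
  haveI : Fact (Nat.Prime 2) := ⟨Nat.prime_two⟩
  exact le_pCoreOf inf_le_left ((isPGroup_pCoreOf 2 X).to_le inf_le_right)
    (CfsgLib.Coprime.inf_le_normalizer le_normalizer (hKX.trans (le_normalizer_pCoreOf 2 X)))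

theorem wOf_le_u' : Cfsg.wOf K ≤ uOf X := by
  haveI : Fact (Nat.Prime 2) := ⟨Nat.prime_two⟩
  have hR := core_le_core hK hKX hsn
  have hR' := inf_core_le hK hKX hsn
  have hQK := core_le_normalizer hK hKX hsn
  obtain ⟨T', hK⟩ := hK
  obtain ⟨c, hc⟩ := exists_isGen hK.2.2.1
  have hQW : coreOf X ≤ normalizer (Cfsg.wOf K : Set G) := hQK.trans (normalizer_le_normalizer_wOf K)
  obtain ⟨w, hw, hw1, hwfix⟩ := exists_fixed (isPGroup_pCoreOf 2 X) hQW (isPGroup_four (wOf_sq hK))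
    (wOf_ne_bot hK)
  have hcw : c * w * c⁻¹ ∈ Cfsg.wOf K :=
    conj_mem ((le_normalizer).trans (normalizer_le_normalizer_wOf K)) hc.mem hw
  have hfix : ∀ q ∈ coreOf X, ∀ v ∈ Cfsg.wOf K, q * v = v * q := by
    intro q hq
    have h1 : q * (c * w * c⁻¹) * q⁻¹ = c * w * c⁻¹ := by
      have hr : q * c * q⁻¹ * c⁻¹ ∈ coreOf K := hR' (mem_inf.2 ⟨mul_mem (conj_mem hQK hq hc.mem)
        (inv_mem hc.mem), by
          rw [show q * c * q⁻¹ * c⁻¹ = q * (c * q⁻¹ * c⁻¹) by group]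
          exact mul_mem hq (conj_core (hKX hc.mem) (inv_mem hq))⟩)
      calc q * (c * w * c⁻¹) * q⁻¹ =
          (q * c * q⁻¹ * c⁻¹) * (c * (q * w * q⁻¹) * c⁻¹) * (q * c * q⁻¹ * c⁻¹)⁻¹ := by group
        _ = c * w * c⁻¹ := by
            rw [hwfix q hq, mul_inv_cancel_right, core_fix hr (wOf_le_uOf K hcw), mul_inv_cancel_right]
    intro v hv
    rcases four_cases hK.2.2.2.2.1 (wOf_sq hK) hw hcw hw1 (fun h => hw1 (conj_eq_one_iff.1 h))
      (fun h => hw1 (hc.wOf_eq_one hw h.symm)) hv with rfl | rfl | rfl | rfl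
    · simp
    · exact hwfix q hq
    · exact mul_inv_eq_iff_eq_mul.1 h1
    · rw [← mul_assoc, hwfix q hq, mul_assoc, mul_inv_eq_iff_eq_mul.1 h1, ← mul_assoc]
  exact fun v hv => mem_omegaCenterOf.2 ⟨hR (wOf_le_core K hv), fun q hq => hfix q hq v hv,
    by rw [pow_two]; exact wOf_sq hK v hv⟩

theorem move' {k u : G} (hk : k ∈ K) (hu : u ∈ uOf X) : k * u * k⁻¹ * u⁻¹ ∈ Cfsg.wOf K := by
  haveI : Fact (Nat.Prime 2) := ⟨Nat.prime_two⟩
  have hR := core_le_core hK hKX hsn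
  have hR' := inf_core_le hK hKX hsn
  have hQK := core_le_normalizer hK hKX hsn
  obtain ⟨T', hK⟩ := hK
  obtain ⟨c, hc⟩ := exists_isGen hK.2.2.1
  have hcL : c ∈ X := hKX hc.mem
  have hWn : K ≤ normalizer (Cfsg.wOf K : Set G) := le_normalizer.trans (normalizer_le_normalizer_wOf K)
  have hfixU : ∀ {r : G}, r ∈ coreOf K → ∀ v ∈ uOf X, r * v * r⁻¹ = v := fun hr v hv => by
    rw [core_fix (hR hr) hv, mul_inv_cancel_right]
  have hcgen : ∀ u ∈ uOf X, c * u * c⁻¹ * u⁻¹ ∈ Cfsg.wOf K := by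
    intro u hu
    have hU := omegaCenterOf_ea (coreOf X)
    have hcu := conj_mem (le_normalizer_uOf X) hcL hu
    have hccu := conj_mem (le_normalizer_uOf X) hcL hcu
    obtain ⟨v, hv⟩ : ∃ v, v = c * u * c⁻¹ * u⁻¹ := ⟨_, rfl⟩
    have hvU : v ∈ uOf X := hv ▸ mul_mem hcu (inv_mem hu)
    have hvR : v ∈ coreOf K := hR' (mem_inf.2 ⟨by
      rw [hv, show c * u * c⁻¹ * u⁻¹ = c * (u * c⁻¹ * u⁻¹) by group]
      exact mul_mem hc.mem (conj_mem hQK (uOf_le_core X hu) (inv_mem hc.mem)), uOf_le_core X hvU⟩)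
    have hvK : v ∈ uOf K := mem_omegaCenterOf.2 ⟨hvR, fun r hr => core_fix (hR hr) hvU, hU.2 v hvU⟩
    have ha : c * v * c⁻¹ * v⁻¹ ∈ Cfsg.wOf K := by
      have := inv_mem (commutator_mem_commutator (H₁ := uOf K) hvK hc.mem)
      rw [commutatorElement_def] at this
      rw [show c * v * c⁻¹ * v⁻¹ = (v * c * v⁻¹ * c⁻¹)⁻¹ by group]
      exact this
    have h2 := conj_mem hWn hc.mem ha
    have hcube : c * (c * (c * u * c⁻¹) * c⁻¹) * c⁻¹ = u := by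
      rw [show c * (c * (c * u * c⁻¹) * c⁻¹) * c⁻¹ = c ^ 3 * u * (c ^ 3)⁻¹ by simp [pow_succ, mul_assoc]]
      exact hfixU hc.cube u hu
    have hi : ∀ {x : G}, x ∈ uOf X → x⁻¹ = x := fun hx =>
      inv_eq_of_mul_eq_one_right (by rw [← pow_two]; exact hU.2 _ hx)
    have key : c * (c * v * c⁻¹ * v⁻¹) * c⁻¹ = v := by
      rw [hv]
      rw [show c * (c * (c * u * c⁻¹ * u⁻¹) * c⁻¹ * (c * u * c⁻¹ * u⁻¹)⁻¹) * c⁻¹ =
        (c * (c * (c * u * c⁻¹) * c⁻¹) * c⁻¹) * (c * (c * u * c⁻¹) * c⁻¹)⁻¹ *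
          (c * u * c⁻¹) * (c * (c * u * c⁻¹) * c⁻¹)⁻¹ by group, hcube, hi hu, hi hccu,
        mul_assoc u, comm_of_isElementaryAbelian hU hccu hcu, mul_assoc, mul_assoc (c * u * c⁻¹),
        ← pow_two (c * (c * u * c⁻¹) * c⁻¹), hU.2 _ hccu, mul_one,
        comm_of_isElementaryAbelian hU hu hcu]
    rw [← hv, ← key]
    exact h2
  obtain ⟨i, r, hr, rfl⟩ := hc.gen k hk
  rw [show c ^ i * r * u * (c ^ i * r)⁻¹ * u⁻¹ = c ^ i * (r * u * r⁻¹) * (c ^ i)⁻¹ * u⁻¹ by group,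
    hfixU hr u hu]
  clear hr hk
  induction i with
  | zero => simp [one_mem]
  | succ i ih =>
    rw [show c ^ (i + 1) * u * (c ^ (i + 1))⁻¹ * u⁻¹ =
      (c * (c ^ i * u * (c ^ i)⁻¹ * u⁻¹) * c⁻¹) * (c * u * c⁻¹ * u⁻¹) by rw [pow_succ']; group]
    exact mul_mem (conj_mem hWn hc.mem ih) (hcgen u hu)

/-- Conjugates of a generator commute on `Ω₁(Z(O₂(X)))`. -/
theorem gen_commute {c : G} (hc : IsGen K c) {x : G} (hx : x ∈ X) :
    c * (x * c * x⁻¹) * c⁻¹ * (x * c * x⁻¹)⁻¹ ∈ centralizer (uOf X : Set G) := by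
  classical
  haveI : Fact (Nat.Prime 3) := ⟨Nat.prime_three⟩
  have hW := wOf_le_u' hK hKX hsn
  have hmv : ∀ {k u : G}, k ∈ K → u ∈ uOf X → k * u * k⁻¹ * u⁻¹ ∈ Cfsg.wOf K :=
    fun hk hu => move' hK hKX hsn hk hu
  have hR := core_le_core hK hKX hsn
  obtain ⟨T', hK⟩ := hK
  have hUX : uOf X ≤ X := (uOf_le_core X).trans (pCoreOf_le 2 X)
  obtain ⟨V, hVdef⟩ : ∃ V : Subgroup ↥X, V = (uOf X).subgroupOf X := ⟨_, rfl⟩
  haveI hVn : V.Normal := hVdef ▸ (normal_subgroupOf_iff_le_normalizer hUX).2 (le_normalizer_uOf X)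
  have hVmem : ∀ y : ↥X, y ∈ V ↔ (y : G) ∈ uOf X := fun y => by rw [hVdef]; rfl
  letI : CommGroup ↥V :=
    { (inferInstance : Group ↥V) with
      mul_comm := fun a b => Subtype.ext (Subtype.ext (comm_of_isElementaryAbelian (omegaCenterOf_ea _)
        ((hVmem _).1 a.2) ((hVmem _).1 b.2))) }
  obtain ⟨θ, hθ⟩ : ∃ θ : ↥X →* MulAut ↥V, ∀ y v, ((θ y v : ↥V) : ↥X) = y * (v : ↥X) * y⁻¹ :=
    ⟨MulAut.conjNormal, fun y v => MulAut.conjNormal_apply y v⟩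
  have hθ1 : ∀ y : ↥X, θ y = 1 → (y : G) ∈ centralizer (uOf X : Set G) := by
    intro y hy
    refine mem_centralizer_iff.2 fun u hu => ?_
    have h := hθ y ⟨⟨u, hUX hu⟩, (hVmem _).2 hu⟩
    rw [hy, MulAut.one_apply] at h
    exact (mul_inv_eq_iff_eq_mul.1 (congrArg Subtype.val h).symm).symm
  have hker : ∀ y : ↥X, (y : G) ∈ centralizer (uOf X : Set G) → θ y = 1 := by
    intro y hy
    refine MulEquiv.ext fun v => Subtype.ext (Subtype.ext ?_)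
    rw [MulAut.one_apply, hθ]
    show (y : G) * ((v : ↥X) : G) * (y : G)⁻¹ = _
    rw [← mem_centralizer_iff.1 hy _ ((hVmem _).1 v.2), mul_inv_cancel_right]
  -- a `3`-group containing both images
  obtain ⟨Y, hY⟩ : ∃ Y, Y = (K.subgroupOf X).map θ.rangeRestrict := ⟨_, rfl⟩
  have hYp : IsPGroup 3 Y := by
    rintro ⟨z, hz⟩
    rw [hY] at hz
    obtain ⟨y, hy, rfl⟩ := hz
    refine ⟨1, Subtype.ext (Subtype.ext ?_)⟩
    show θ y ^ 3 ^ 1 = 1
    rw [pow_one, ← map_pow]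
    refine hker _ ?_
    obtain ⟨i, r, hr, hy'⟩ := hc.gen (y : G) hy
    have hcR : (y : G) ^ 3 ∈ coreOf K := by
      obtain ⟨r', hr', e⟩ : ∃ r' ∈ coreOf K, (c ^ i * r) ^ 3 = (c ^ i) ^ 3 * r' := by
        have hn : ∀ {a r : G}, a ∈ K → r ∈ coreOf K → a * r * a⁻¹ ∈ coreOf K := fun ha hr =>
          conj_mem (le_normalizer_pCoreOf 2 K) ha hr
        have hci : c ^ i ∈ K := pow_mem hc.mem i
        refine ⟨(c ^ i * c ^ i)⁻¹ * r * (c ^ i * c ^ i) * ((c ^ i)⁻¹ * r * c ^ i) * r, ?_, ?_⟩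
        · refine mul_mem (mul_mem ?_ ?_) hr
          · simpa using hn (inv_mem (mul_mem hci hci)) hr
          · simpa using hn (inv_mem hci) hr
        · simp [pow_succ, mul_assoc]
      rw [hy', e]
      refine mul_mem ?_ hr'
      rw [← pow_mul, mul_comm, pow_mul]
      exact pow_mem hc.cube i
    exact mem_centralizer_iff.2 fun u hu => (core_fix (hR hcR) hu).symm
  have hYsn : Y.IsSubnormal := hY ▸ hsn.map θ.rangeRestrict_surjective
  have hYle := CfsgLib.Coprime.le_pCore_of_isSubnormal hYsn hYp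
  haveI := CfsgLib.Coprime.pCore_normal' (G := ↥θ.range) 3
  obtain ⟨E, hE⟩ : ∃ E, E = (Cfsg.pCore 3 ↥θ.range).map θ.range.subtype := ⟨_, rfl⟩
  have hEp : IsPGroup 3 E := hE ▸ (CfsgLib.Coprime.pCore_isPGroup 3).map _
  have hmem : θ.rangeRestrict ⟨c, hKX hc.mem⟩ ∈ Cfsg.pCore 3 ↥θ.range :=
    hYle (hY ▸ mem_map_of_mem _ (show (⟨c, hKX hc.mem⟩ : ↥X) ∈ K.subgroupOf X from hc.mem))
  have hm0 : θ ⟨c, hKX hc.mem⟩ ∈ E := hE ▸ ⟨_, hmem, rfl⟩
  have hm1 : θ (⟨x, hx⟩ * ⟨c, hKX hc.mem⟩ * ⟨x, hx⟩⁻¹) ∈ E := by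
    rw [hE]
    exact ⟨θ.rangeRestrict ⟨x, hx⟩ * θ.rangeRestrict ⟨c, hKX hc.mem⟩ * (θ.rangeRestrict ⟨x, hx⟩)⁻¹,
      Normal.conj_mem inferInstance _ hmem _, by simp only [map_mul, map_inv]; rfl⟩
  -- the planes
  obtain ⟨W, hWdef⟩ : ∃ W : Subgroup ↥V, W = ((Cfsg.wOf K).subgroupOf X).subgroupOf V := ⟨_, rfl⟩
  have hmoves : JCompPlanes.Moves (θ ⟨c, hKX hc.mem⟩) W := by
    refine ⟨?_, fun v => ?_, fun w hw hfix => ?_⟩
    · rw [hWdef, Nat.card_congr (subgroupOfEquivOfLe ?_).toEquiv,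
        Nat.card_congr (subgroupOfEquivOfLe (hW.trans hUX)).toEquiv]
      · exact hK.2.2.2.2.1
      · exact fun y hy => (hVmem y).2 (hW hy)
    · rw [hWdef]
      show (((θ ⟨c, hKX hc.mem⟩ v * v⁻¹ : ↥V) : ↥X) : G) ∈ Cfsg.wOf K
      rw [Subgroup.coe_mul, hθ]
      exact hmv hc.mem ((hVmem _).1 v.2)
    · rw [hWdef] at hw
      have h := hθ ⟨c, hKX hc.mem⟩ w
      rw [hfix] at h
      exact Subtype.ext (Subtype.ext (hc.wOf_eq_one hw (congrArg Subtype.val h).symm))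
  have hmoves' : JCompPlanes.Moves (θ (⟨x, hx⟩ * ⟨c, hKX hc.mem⟩ * ⟨x, hx⟩⁻¹))
      (W.map (θ ⟨x, hx⟩).toMonoidHom) := by
    rw [map_mul, map_mul, map_inv]
    exact hmoves.conj _
  have hcomm := JCompPlanes.commute_of_moves
    (fun v : ↥V => Subtype.ext (Subtype.ext (by
      rw [← pow_two]; exact (omegaCenterOf_ea (coreOf X)).2 _ ((hVmem _).1 v.2))))
    rfl hEp hm0 hm1 hmoves hmoves'
  refine hθ1 (⟨c, hKX hc.mem⟩ * (⟨x, hx⟩ * ⟨c, hKX hc.mem⟩ * ⟨x, hx⟩⁻¹) * (⟨c, hKX hc.mem⟩ : ↥X)⁻¹ *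
    (⟨x, hx⟩ * ⟨c, hKX hc.mem⟩ * ⟨x, hx⟩⁻¹ : ↥X)⁻¹) ?_
  obtain ⟨p, hp⟩ : ∃ p : ↥X, p = ⟨x, hx⟩ * ⟨c, hKX hc.mem⟩ * ⟨x, hx⟩⁻¹ := ⟨_, rfl⟩
  rw [← hp] at hcomm ⊢
  simp only [map_mul, map_inv]
  rw [hcomm, mul_inv_cancel_right, mul_inv_cancel]

end

/-- `J(T)` normalizes the four group of a component subnormal in their join. -/
theorem jOf_le_normalizer_wOf {T L K : Subgroup G} (hLT : L ∈ Cfsg.jOvergroups T)
    (hK : ∃ T', Cfsg.IsJComponent T' K) (hKL : K ≤ L)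
    (hsn : (K.subgroupOf (K ⊔ jOf T)).IsSubnormal) : jOf T ≤ normalizer (Cfsg.wOf K : Set G) := by
  classical
  haveI : Fact (Nat.Prime 2) := ⟨Nat.prime_two⟩
  obtain ⟨X, hX⟩ : ∃ X, X = K ⊔ jOf T := ⟨_, rfl⟩
  rw [← hX] at hsn
  have hKX : K ≤ X := hX ▸ le_sup_left
  have hJX : jOf T ≤ X := hX ▸ le_sup_right
  have hWU := wOf_le_u' hK hKX hsn
  have hmv : ∀ {k u : G}, k ∈ K → u ∈ uOf X → k * u * k⁻¹ * u⁻¹ ∈ Cfsg.wOf K :=
    fun hk hu => move' hK hKX hsn hk hu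
  have hVe := omegaCenterOf_ea (coreOf X)
  -- largest subgroups of a `2`-group above `J(T)`
  obtain ⟨P, hP⟩ : ∃ P, P = coreOf X ⊔ jOf T := ⟨_, rfl⟩
  have hTp : IsPGroup 2 T := hLT.1.2.1
  have hPp : IsPGroup 2 P :=
    hP ▸ (isPGroup_pCoreOf 2 X).to_sup_of_normal_left' (hTp.to_le (jOf_le T))
      (hJX.trans (le_normalizer_pCoreOf 2 X))
  have hXL : X ≤ L := hX ▸ sup_le hKL ((jOf_le T).trans hLT.1.1)
  obtain ⟨g, hg, hle⟩ := exists_conjBy_le hLT.1 hPp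
    (hP ▸ sup_le ((pCoreOf_le 2 X).trans hXL) ((jOf_le T).trans hLT.1.1))
  have hmaxP : ∀ A, IsMaxEA 2 T A → IsMaxEA 2 P A := fun A hA =>
    isMax_of_conj_le (hP ▸ le_sup_right) hle hA
  obtain ⟨c, hc⟩ := exists_isGen (hK.choose_spec).2.2.1
  have hgc := fun {x : G} (hx : x ∈ X) => gen_commute hK hKX hsn hc hx
  have hfpfW : ∀ w ∈ Cfsg.wOf K, c * w * c⁻¹ = w → w = 1 := fun w hw h => hc.wOf_eq_one hw h
  have hW4 : Nat.card (Cfsg.wOf K) = 4 := hK.choose_spec.2.2.2.2.1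
  refine jOf_le_iff.2 fun A hA => ?_
  have hAX : A ≤ X := (le_jOf hA).trans hJX
  have hAV : ∀ a ∈ A, a ∈ normalizer (uOf X : Set G) := fun a ha => le_normalizer_uOf X (hAX ha)
  -- the orbit
  obtain ⟨A₀, hA₀⟩ : ∃ A₀, A₀ = A ⊓ normalizer (Cfsg.wOf K : Set G) := ⟨_, rfl⟩
  obtain ⟨B, hB⟩ : ∃ B, B = A ⊓ centralizer (Cfsg.wOf K : Set G) := ⟨_, rfl⟩
  haveI : Fintype ↥A := Fintype.ofFinite _
  obtain ⟨S, hS⟩ : ∃ S : Finset (Subgroup G),
      S = Finset.univ.image (fun a : ↥A => conjBy (a : G) (Cfsg.wOf K)) := ⟨_, rfl⟩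
  have hSmem : ∀ Y, Y ∈ S ↔ ∃ a ∈ A, conjBy a (Cfsg.wOf K) = Y := fun Y => by
    rw [hS]
    simp
  choose! sel hsel hselY using fun Y (hY : Y ∈ S) => (hSmem Y).1 hY
  obtain ⟨k, hk⟩ : ∃ k : Subgroup G → G, ∀ Y, k Y = sel Y * c * (sel Y)⁻¹ := ⟨_, fun Y => rfl⟩
  have hYV : ∀ Y ∈ S, Y ≤ uOf X := fun Y hY => by
    rw [← hselY Y hY]
    rintro _ ⟨w, hw, rfl⟩
    exact conj_mem le_rfl (hAV _ (hsel Y hY)) (hWU hw)
  have hkmove : ∀ Y ∈ S, ∀ u ∈ uOf X, k Y * u * (k Y)⁻¹ * u⁻¹ ∈ Y := fun Y hY u hu => by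
    obtain ⟨a, ha⟩ : ∃ a, a = sel Y := ⟨_, rfl⟩
    have hu' : a⁻¹ * u * a ∈ uOf X := by
      simpa using conj_mem le_rfl (inv_mem (hAV a (ha ▸ hsel Y hY))) hu
    have h := hmv hc.mem hu'
    have e := hselY Y hY
    rw [← ha] at e
    rw [hk, ← ha, ← e]
    exact ⟨_, h, by simp [mul_assoc]⟩
  have hkfpf : ∀ Y ∈ S, ∀ y ∈ Y, k Y * y = y * k Y → y = 1 := fun Y hY y hy hcm => by
    obtain ⟨a, ha⟩ : ∃ a, a = sel Y := ⟨_, rfl⟩
    rw [hk, ← ha] at hcm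
    rw [← hselY Y hY, ← ha] at hy
    obtain ⟨w, hw, rfl⟩ := hy
    simp only [MulEquiv.coe_toMonoidHom, MulAut.conj_apply] at hcm ⊢
    have : c * w * c⁻¹ = w := by
      calc c * w * c⁻¹ = a⁻¹ * ((a * c * a⁻¹) * (a * w * a⁻¹)) * a * c⁻¹ := by group
        _ = w := by rw [hcm]; group
    rw [hfpfW w hw this, mul_one, mul_inv_cancel]
  have hkfix : ∀ Y ∈ S, ∀ Z ∈ S, Z ≠ Y → ∀ z ∈ Z, k Y * z = z * k Y := by
    intro Y hY Z hZ hne
    obtain ⟨a, ha⟩ : ∃ a, a = sel Y := ⟨_, rfl⟩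
    obtain ⟨b, hb⟩ : ∃ b, b = sel Z := ⟨_, rfl⟩
    have haA : a ∈ A := ha ▸ hsel Y hY
    have hbA : b ∈ A := hb ▸ hsel Z hZ
    have hcc : k Y * k Z * (k Y)⁻¹ * (k Z)⁻¹ ∈ centralizer (uOf X : Set G) := by
      have h := hgc (mul_mem (inv_mem (hAX haA)) (hAX hbA))
      rw [hk, hk, ← ha, ← hb]
      rw [show a * c * a⁻¹ * (b * c * b⁻¹) * (a * c * a⁻¹)⁻¹ * (b * c * b⁻¹)⁻¹ =
        a * (c * (a⁻¹ * b * c * (a⁻¹ * b)⁻¹) * c⁻¹ * (a⁻¹ * b * c * (a⁻¹ * b)⁻¹)⁻¹) * a⁻¹ by group]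
      exact conj_mem le_rfl (CfsgLib.Coprime.normalizer_le_normalizer_centralizer _ (hAV a haA)) h
    intro z hz
    by_contra hcm
    -- the displacement lies in both planes
    have hnorm : k Y * z * (k Y)⁻¹ ∈ Z := by
      obtain ⟨v, hv, rfl⟩ : ∃ v ∈ uOf X, k Z * v * (k Z)⁻¹ * v⁻¹ = z := by
        let φ : Z → Z := fun v => ⟨k Z * v * (k Z)⁻¹ * (v : G)⁻¹, hkmove Z hZ v (hYV Z hZ v.2)⟩
        have hinj : Function.Injective φ := by
          rintro ⟨p, hp⟩ ⟨q, hq⟩ h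
          have h' : k Z * p * (k Z)⁻¹ * p⁻¹ = k Z * q * (k Z)⁻¹ * q⁻¹ := congrArg Subtype.val h
          have hpq : k Z * (q⁻¹ * p) * (k Z)⁻¹ = q⁻¹ * p := by
            calc k Z * (q⁻¹ * p) * (k Z)⁻¹ =
                (k Z * q * (k Z)⁻¹)⁻¹ * (k Z * p * (k Z)⁻¹ * p⁻¹) * p := by group
              _ = q⁻¹ * p := by rw [h']; group
          exact Subtype.ext (inv_mul_eq_one.1
            (hkfpf Z hZ _ (mul_mem (inv_mem hq) hp) (mul_inv_eq_iff_eq_mul.1 hpq))).symm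
        obtain ⟨⟨v, hv⟩, hvw⟩ := Finite.surjective_of_injective hinj ⟨z, hz⟩
        exact ⟨v, hYV Z hZ hv, congrArg Subtype.val hvw⟩
      have hY' : k Y ∈ normalizer (uOf X : Set G) := by
        rw [hk, ← ha]
        exact mul_mem (mul_mem (hAV a haA) (le_normalizer_uOf X (hKX hc.mem))) (inv_mem (hAV a haA))
      have hv' := conj_mem le_rfl hY' hv
      have h := hkmove Z hZ _ hv'
      have hZU : k Z * (k Y * v * (k Y)⁻¹) * (k Z)⁻¹ ∈ uOf X := by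
        have := mul_mem (hYV Z hZ h) hv'
        simpa [mul_assoc] using this
      have hcf : (k Y * k Z * (k Y)⁻¹ * (k Z)⁻¹) * (k Z * (k Y * v * (k Y)⁻¹) * (k Z)⁻¹) *
          (k Y * k Z * (k Y)⁻¹ * (k Z)⁻¹)⁻¹ = k Z * (k Y * v * (k Y)⁻¹) * (k Z)⁻¹ := by
        rw [← mem_centralizer_iff.1 hcc _ hZU, mul_inv_cancel_right]
      rw [show k Y * (k Z * v * (k Z)⁻¹ * v⁻¹) * (k Y)⁻¹ =
        ((k Y * k Z * (k Y)⁻¹ * (k Z)⁻¹) * (k Z * (k Y * v * (k Y)⁻¹) * (k Z)⁻¹) *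
          (k Y * k Z * (k Y)⁻¹ * (k Z)⁻¹)⁻¹) * (k Y * v * (k Y)⁻¹)⁻¹ by group, hcf]
      exact h
    obtain ⟨v, hv⟩ : ∃ v, v = k Y * z * (k Y)⁻¹ * z⁻¹ := ⟨_, rfl⟩
    have hvY : v ∈ Y := hv ▸ hkmove Y hY z (hYV Z hZ hz)
    have hvZ : v ∈ Z := hv ▸ mul_mem hnorm (inv_mem hz)
    have hv1 : v ≠ 1 := fun h => hcm (mul_inv_eq_iff_eq_mul.1 (mul_inv_eq_one.1 (hv ▸ h)))
    -- the generator of `Z` moves `v` inside both
    have hwY : k Z * v * (k Z)⁻¹ ∈ Y := by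
      obtain ⟨p, hp, hpv⟩ : ∃ p ∈ uOf X, k Y * p * (k Y)⁻¹ * p⁻¹ = v := ⟨z, hYV Z hZ hz, hv.symm⟩
      have hZ' : k Z ∈ normalizer (uOf X : Set G) := by
        rw [hk, ← hb]
        exact mul_mem (mul_mem (hAV b hbA) (le_normalizer_uOf X (hKX hc.mem))) (inv_mem (hAV b hbA))
      have hp' := conj_mem le_rfl hZ' hp
      have h := hkmove Y hY _ hp'
      have hYU : k Y * (k Z * p * (k Z)⁻¹) * (k Y)⁻¹ ∈ uOf X := by
        have := mul_mem (hYV Y hY h) hp'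
        simpa [mul_assoc] using this
      have hcf : (k Y * k Z * (k Y)⁻¹ * (k Z)⁻¹)⁻¹ * (k Y * (k Z * p * (k Z)⁻¹) * (k Y)⁻¹) *
          (k Y * k Z * (k Y)⁻¹ * (k Z)⁻¹) = k Y * (k Z * p * (k Z)⁻¹) * (k Y)⁻¹ := by
        rw [mul_assoc, mem_centralizer_iff.1 hcc _ hYU, inv_mul_cancel_left]
      rw [← hpv, show k Z * (k Y * p * (k Y)⁻¹ * p⁻¹) * (k Z)⁻¹ =
        ((k Y * k Z * (k Y)⁻¹ * (k Z)⁻¹)⁻¹ * (k Y * (k Z * p * (k Z)⁻¹) * (k Y)⁻¹) *
          (k Y * k Z * (k Y)⁻¹ * (k Z)⁻¹)) * (k Z * p * (k Z)⁻¹)⁻¹ by group, hcf]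
      exact h
    have hwZ : k Z * v * (k Z)⁻¹ ∈ Z := by
      have := mul_mem (hkmove Z hZ v (hYV Z hZ hvZ)) hvZ
      simpa [mul_assoc] using this
    have hZ4 : Nat.card Z = 4 := by rw [← hselY Z hZ, CfsgLib.Fusion.card_conjBy, hW4]
    have hY4 : Nat.card Y = 4 := by rw [← hselY Y hY, CfsgLib.Fusion.card_conjBy, hW4]
    refine hne (eq_of_le_of_card_ge (fun x hx => ?_) (by rw [hZ4, hY4]))
    rcases four_cases hZ4 (fun w hw => by rw [← pow_two]; exact hVe.2 w (hYV Z hZ hw)) hvZ hwZ hv1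
      (fun h => hv1 (conj_eq_one_iff.1 h))
      (fun h => hv1 (hkfpf Z hZ v hvZ (mul_inv_eq_iff_eq_mul.1 h.symm))) hx with rfl | rfl | rfl | rfl
    · exact one_mem _
    · exact hvY
    · exact hwY
    · exact mul_mem hvY hwY
  obtain ⟨hcard, hzero⟩ := planes_card hVe k S hYV
    (fun Y hY => by rw [← hselY Y hY, CfsgLib.Fusion.card_conjBy, hW4]) hkfpf hkfix
  -- permuted by `A`
  have hperm : ∀ a ∈ A, ∀ Y ∈ S, conjBy a Y ∈ S := fun a ha Y hY => (hSmem _).2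
    ⟨a * sel Y, mul_mem ha (hsel Y hY), by rw [← conjBy_conjBy, hselY Y hY]⟩
  have hWS : Cfsg.wOf K ∈ S := (hSmem _).2 ⟨1, one_mem _, by
    ext z; simp [CfsgLib.Fusion.conjBy]⟩
  obtain ⟨Pi, hPi⟩ : ∃ Pi, Pi = S.sup id := ⟨_, rfl⟩
  rw [← hPi] at hcard hzero
  obtain ⟨R', hR'⟩ : ∃ R', R' = (S.erase (Cfsg.wOf K)).sup id := ⟨_, rfl⟩
  have hPiV : Pi ≤ uOf X := hPi ▸ Finset.sup_le fun Y hY => hYV Y hY
  have hR'V : R' ≤ uOf X := hR' ▸ Finset.sup_le fun Y hY => hYV Y (Finset.mem_of_mem_erase hY)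
  have hsplit : Pi = Cfsg.wOf K ⊔ R' := by
    rw [hPi, hR']
    conv_lhs => rw [← Finset.insert_erase hWS, Finset.sup_insert, id_eq]
  have hR'fix : ∀ y ∈ R', k (Cfsg.wOf K) * y = y * k (Cfsg.wOf K) := by
    intro y hy
    suffices h : R' ≤ centralizer ({k (Cfsg.wOf K)} : Set G) from (mem_centralizer_singleton_iff.1 (h hy)).symm
    rw [hR']
    refine Finset.sup_le fun Z hZ z hz => mem_centralizer_singleton_iff.2 ?_
    exact (hkfix _ hWS Z (Finset.mem_of_mem_erase hZ) (Finset.ne_of_mem_erase hZ) z hz).symm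
  have hA₀A : A₀ ≤ A := hA₀ ▸ inf_le_left
  have hfixed : Nat.card ↥(Pi ⊓ centralizer (A : Set G)) ≤
      Nat.card ↥(Cfsg.wOf K ⊓ centralizer (A₀ : Set G)) := by
    have key : ∀ x : ↥(Pi ⊓ centralizer (A : Set G)), ∃ w : ↥(Cfsg.wOf K ⊓ centralizer (A₀ : Set G)),
        ∃ y ∈ R', (w : G) * y = x := by
      rintro ⟨x, hx⟩
      obtain ⟨hxP, hxA⟩ := mem_inf.1 hx
      rw [hsplit] at hxP
      obtain ⟨w, hw, y, hy, rfl⟩ := CfsgLib.RootSub.mem_sup_of_commute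
        (fun p hp q hq => comm_of_isElementaryAbelian hVe (hWU hp) (hR'V hq)) hxP
      refine ⟨⟨w, mem_inf.2 ⟨hw, mem_centralizer_iff.2 fun a ha => ?_⟩⟩, y, hy, rfl⟩
      obtain ⟨haA, haN⟩ := mem_inf.1 (hA₀ ▸ ha : a ∈ A ⊓ _)
      have hay : a * y * a⁻¹ ∈ R' := by
        suffices h : R' ≤ R'.comap (MulAut.conj a).toMonoidHom from h hy
        conv_lhs => rw [hR']
        refine Finset.sup_le fun Z hZ z hz => ?_
        have hne : conjBy a Z ≠ Cfsg.wOf K := fun h => Finset.ne_of_mem_erase hZ (by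
          rw [← CfsgLib.Fusion.conjBy_inv_conjBy a Z, h]
          exact CfsgLib.Fusion.conjBy_eq_iff.2 (inv_mem haN))
        have hmem : conjBy a Z ≤ R' := hR' ▸ Finset.le_sup (f := id)
          (Finset.mem_erase.2 ⟨hne, hperm a haA Z (Finset.mem_of_mem_erase hZ)⟩)
        exact hmem ⟨z, hz, rfl⟩
      have haw : a * w * a⁻¹ ∈ Cfsg.wOf K := conj_mem le_rfl haN hw
      have heq : (a * w * a⁻¹) * (a * y * a⁻¹) = w * y := by
        rw [show (a * w * a⁻¹) * (a * y * a⁻¹) = a * (w * y) * a⁻¹ by group,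
          mem_centralizer_iff.1 hxA a haA, mul_inv_cancel_right]
      have hd : w⁻¹ * (a * w * a⁻¹) = y * (a * y * a⁻¹)⁻¹ := by
        rw [eq_mul_inv_iff_mul_eq, mul_assoc, heq, inv_mul_cancel_left]
      have h1 : w⁻¹ * (a * w * a⁻¹) = 1 := hkfpf _ hWS _ (mul_mem (inv_mem hw) haw)
        (hR'fix _ (hd ▸ mul_mem hy (inv_mem hay)))
      exact mul_inv_eq_iff_eq_mul.1 (inv_mul_eq_one.1 h1).symm
    choose f y hy hfy using key
    refine Nat.card_le_card_of_injective f fun x x' h => ?_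
    obtain ⟨d, hd⟩ : ∃ d, d = (x : G) * ((x' : G))⁻¹ := ⟨_, rfl⟩
    have hdP : d ∈ Pi := hd ▸ mul_mem (mem_inf.1 x.2).1 (inv_mem (mem_inf.1 x'.2).1)
    have hdA : d ∈ centralizer (A : Set G) := hd ▸ mul_mem (mem_inf.1 x.2).2 (inv_mem (mem_inf.1 x'.2).2)
    have hdR : d ∈ R' := by
      have e : d = y x * (y x')⁻¹ := by
        rw [hd, ← hfy x, ← hfy x', h]
        have hc1 := comm_of_isElementaryAbelian hVe (hWU (mem_inf.1 (f x').2).1)
          (mul_mem (hR'V (hy x)) (inv_mem (hR'V (hy x'))))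
        calc (f x' : G) * y x * ((f x' : G) * y x')⁻¹ = ((f x' : G) * (y x * (y x')⁻¹)) * (f x' : G)⁻¹ := by
              group
          _ = y x * (y x')⁻¹ := by rw [hc1, mul_inv_cancel_right]
      exact e ▸ mul_mem (hy x) (inv_mem (hy x'))
    have hd1 : d = 1 := by
      refine hzero d hdP fun Y hY => ?_
      obtain ⟨a, ha⟩ : ∃ a, a = sel Y := ⟨_, rfl⟩
      have haA : a ∈ A := ha ▸ hsel Y hY
      -- compare the generator at `W` with the base one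
      obtain ⟨b, hb⟩ : ∃ b, b = sel (Cfsg.wOf K) := ⟨_, rfl⟩
      have hbA : b ∈ A := hb ▸ hsel _ hWS
      have h0 := hR'fix d hdR
      rw [hk, ← hb] at h0
      have hfa : ∀ q ∈ A, q * d = d * q := mem_centralizer_iff.1 hdA
      rw [hk, ← ha]
      have hm : a * b⁻¹ ∈ A := mul_mem haA (inv_mem hbA)
      calc a * c * a⁻¹ * d = (a * b⁻¹) * (b * c * b⁻¹) * ((a * b⁻¹)⁻¹ * d) := by group
        _ = (a * b⁻¹) * (b * c * b⁻¹) * (d * (a * b⁻¹)⁻¹) := by rw [hfa _ (inv_mem hm)]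
        _ = (a * b⁻¹) * ((b * c * b⁻¹) * d) * (a * b⁻¹)⁻¹ := by group
        _ = (a * b⁻¹) * (d * (b * c * b⁻¹)) * (a * b⁻¹)⁻¹ := by rw [h0]
        _ = ((a * b⁻¹) * d) * (b * c * b⁻¹) * (a * b⁻¹)⁻¹ := by group
        _ = d * (a * c * a⁻¹) := by rw [hfa _ hm]; group
    exact Subtype.ext (mul_inv_eq_one.1 (hd ▸ hd1))
  -- counting
  have hBA : B ≤ A := hB ▸ inf_le_left
  have hPiB : Pi ≤ uOf X ⊓ centralizer (B : Set G) := by
    refine le_inf hPiV (hPi ▸ Finset.sup_le fun Y hY => ?_)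
    rw [id_eq, ← hselY Y hY]
    rintro _ ⟨w, hw, rfl⟩
    refine mem_centralizer_iff.2 fun b hb => ?_
    have hbW : b * w = w * b := (mem_centralizer_iff.1 (mem_inf.1 (hB ▸ hb : b ∈ A ⊓ _)).2 w hw).symm
    have hba : b * sel Y = sel Y * b := comm_of_isElementaryAbelian hA.2.1 (hBA hb) (hsel Y hY)
    show b * (sel Y * w * (sel Y)⁻¹) = (sel Y * w * (sel Y)⁻¹) * b
    calc b * (sel Y * w * (sel Y)⁻¹) = (b * sel Y) * w * (sel Y)⁻¹ := by group
      _ = sel Y * (b * w) * (sel Y)⁻¹ := by rw [hba]; group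
      _ = sel Y * w * ((sel Y)⁻¹ * (sel Y * b) * (sel Y)⁻¹) := by rw [hbW]; group
      _ = sel Y * w * ((sel Y)⁻¹ * (b * sel Y) * (sel Y)⁻¹) := by rw [hba]
      _ = (sel Y * w * (sel Y)⁻¹) * b := by group
  have hineq := max_ineq (hmaxP A hA) hVe (hP ▸ (uOf_le_core X).trans le_sup_left) hBA
  have hsi := CfsgLib.Fusion.card_mul_le_sup_inf (uOf X ⊓ centralizer (A : Set G)) Pi
  have hs1 : (uOf X ⊓ centralizer (A : Set G)) ⊔ Pi ≤ uOf X ⊓ centralizer (B : Set G) :=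
    sup_le (inf_le_inf_left _ (centralizer_le hBA)) hPiB
  have hs2 : (uOf X ⊓ centralizer (A : Set G)) ⊓ Pi ≤ Pi ⊓ centralizer (A : Set G) := fun x hx =>
    mem_inf.2 ⟨(mem_inf.1 hx).2, (mem_inf.1 (mem_inf.1 hx).1).2⟩
  have hA0card : Nat.card A ≤ S.card * Nat.card A₀ := by
    have hrel := relIndex_mul_relIndex ⊥ A₀ A bot_le hA₀A
    rw [relIndex_bot_left, relIndex_bot_left] at hrel
    have hle : A₀.relIndex A ≤ S.card := by
      rw [relIndex, index_eq_card, ← Nat.card_eq_finsetCard]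
      refine Nat.card_le_card_of_injective (fun q => ⟨conjBy ((q.out : ↥A) : G) (Cfsg.wOf K),
        (hSmem _).2 ⟨_, q.out.2, rfl⟩⟩) fun q r h => ?_
      rw [← QuotientGroup.out_eq' q, ← QuotientGroup.out_eq' r]
      refine QuotientGroup.eq.2 (mem_subgroupOf.2 ?_)
      refine hA₀.ge (mem_inf.2 ⟨((q.out)⁻¹ * r.out : ↥A).2, CfsgLib.Fusion.conjBy_eq_iff.1 ?_⟩)
      have h' : conjBy ((q.out : ↥A) : G) (Cfsg.wOf K) = conjBy ((r.out : ↥A) : G) (Cfsg.wOf K) :=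
        congrArg Subtype.val h
      rw [Subgroup.coe_mul, Subgroup.coe_inv, ← conjBy_conjBy, ← h', CfsgLib.Fusion.conjBy_inv_conjBy]
    rw [← hrel, mul_comm]
    exact Nat.mul_le_mul_right _ hle
  have hlast : Nat.card A₀ * Nat.card ↥(Cfsg.wOf K ⊓ centralizer (A₀ : Set G)) ≤ 4 * Nat.card B := by
    by_cases hall : A₀ ≤ B
    · calc Nat.card A₀ * Nat.card ↥(Cfsg.wOf K ⊓ centralizer (A₀ : Set G)) ≤ Nat.card B * 4 :=
            Nat.mul_le_mul (card_le_of_le hall) (hW4 ▸ card_le_of_le inf_le_left)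
        _ = 4 * Nat.card B := mul_comm _ _
    obtain ⟨a, ha, haB⟩ := SetLike.not_le_iff_exists.1 hall
    obtain ⟨haA, haN⟩ := mem_inf.1 (hA₀ ▸ ha : a ∈ A ⊓ _)
    have haW : a ∉ centralizer (Cfsg.wOf K : Set G) := fun h => haB (hB ▸ mem_inf.2 ⟨haA, h⟩)
    have hsq := wOf_sq hK.choose_spec
    have hBA₀ : B ≤ A₀ := fun b hb => hA₀ ▸ mem_inf.2 ⟨hBA hb,
      centralizer_le_normalizer _ (mem_inf.1 (hB ▸ hb : b ∈ A ⊓ _)).2⟩
    have hidx : B.relIndex A₀ = 2 := by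
      rw [relIndex, index_eq_two_iff]
      refine ⟨⟨a, ha⟩, fun b => ?_⟩
      obtain ⟨hbA, hbN⟩ := mem_inf.1 (hA₀.le b.2)
      simp only [mem_subgroupOf, Subgroup.coe_mul]
      by_cases hb : (b : G) ∈ B
      · exact Or.inr ⟨hb, fun h => haB ((Subgroup.mul_mem_cancel_left _ hb).1 h)⟩
      · refine Or.inl ⟨hB.ge (mem_inf.2 ⟨mul_mem hbA haA, ?_⟩), hb⟩
        exact mul_fixes_four (hTp.to_le (hA₀A.trans hA.1)) (hA₀ ▸ inf_le_right) hW4 hsq b.2 ha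
          (fun h => hb (hB ▸ mem_inf.2 ⟨hbA, h⟩)) haW
    have h2 := relIndex_mul_relIndex ⊥ B A₀ bot_le hBA₀
    rw [relIndex_bot_left, relIndex_bot_left, hidx] at h2
    have hd : Nat.card ↥(Cfsg.wOf K ⊓ centralizer (A₀ : Set G)) ∣ 4 := hW4 ▸ card_dvd_of_le inf_le_left
    have hlt : Nat.card ↥(Cfsg.wOf K ⊓ centralizer (A₀ : Set G)) ≠ 4 := fun h => haW
      (mem_centralizer_iff.2 fun v hv => by
        have he : Cfsg.wOf K ⊓ centralizer (A₀ : Set G) = Cfsg.wOf K :=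
          eq_of_le_of_card_ge inf_le_left (by rw [h, hW4])
        exact (mem_centralizer_iff.1 (mem_inf.1
          (he.symm ▸ hv : v ∈ Cfsg.wOf K ⊓ centralizer (A₀ : Set G))).2 a ha).symm)
    have hle2 : Nat.card ↥(Cfsg.wOf K ⊓ centralizer (A₀ : Set G)) ≤ 2 := by
      have := Nat.le_of_dvd (by norm_num) hd
      interval_cases Nat.card ↥(Cfsg.wOf K ⊓ centralizer (A₀ : Set G)) <;> omega
    calc Nat.card A₀ * Nat.card ↥(Cfsg.wOf K ⊓ centralizer (A₀ : Set G)) ≤ Nat.card A₀ * 2 :=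
          Nat.mul_le_mul_left _ hle2
      _ = 4 * Nat.card B := by rw [← h2]; ring
  have hcount : 4 ^ S.card ≤ 4 * S.card := by
    have h1 : Nat.card ↥(uOf X ⊓ centralizer (A : Set G)) * (4 ^ S.card * Nat.card B) ≤
        Nat.card ↥(uOf X ⊓ centralizer (A : Set G)) * (4 * S.card * Nat.card B) := by
      calc Nat.card ↥(uOf X ⊓ centralizer (A : Set G)) * (4 ^ S.card * Nat.card B)
          = (Nat.card ↥(uOf X ⊓ centralizer (A : Set G)) * Nat.card Pi) * Nat.card B := by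
            rw [hcard]; ring
        _ ≤ (Nat.card ↥(uOf X ⊓ centralizer (B : Set G)) *
            Nat.card ↥(Pi ⊓ centralizer (A : Set G))) * Nat.card B :=
            Nat.mul_le_mul_right _ (hsi.trans (Nat.mul_le_mul (card_le_of_le hs1) (card_le_of_le hs2)))
        _ = (Nat.card B * Nat.card ↥(uOf X ⊓ centralizer (B : Set G))) *
            Nat.card ↥(Pi ⊓ centralizer (A : Set G)) := by ring
        _ ≤ ((S.card * Nat.card A₀) * Nat.card ↥(uOf X ⊓ centralizer (A : Set G))) *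
            Nat.card ↥(Cfsg.wOf K ⊓ centralizer (A₀ : Set G)) :=
            Nat.mul_le_mul (hineq.trans (Nat.mul_le_mul_right _ hA0card)) hfixed
        _ = Nat.card ↥(uOf X ⊓ centralizer (A : Set G)) *
            (S.card * (Nat.card A₀ * Nat.card ↥(Cfsg.wOf K ⊓ centralizer (A₀ : Set G)))) := by ring
        _ ≤ Nat.card ↥(uOf X ⊓ centralizer (A : Set G)) * (S.card * (4 * Nat.card B)) :=
            Nat.mul_le_mul_left _ (Nat.mul_le_mul_left _ hlast)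
        _ = _ := by ring
    exact Nat.le_of_mul_le_mul_right (Nat.le_of_mul_le_mul_left h1 Nat.card_pos) Nat.card_pos
  have hS1 : S.card ≤ 1 := by
    by_contra h
    have hgrow : ∀ n, 4 * (n + 2) < 4 ^ (n + 2) := by
      intro n
      induction n with
      | zero => norm_num
      | succ n ih => rw [pow_succ]; omega
    have := hgrow (S.card - 2)
    rw [show S.card - 2 + 2 = S.card by omega] at this
    omega
  intro a ha
  exact CfsgLib.Fusion.conjBy_eq_iff.1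
    (Finset.card_le_one.1 hS1 _ ((hSmem _).2 ⟨a, ha, rfl⟩) _ hWS)

end CfsgLib.JComp
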